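import Cfsg.Agent.Lib.Zassenhaus.EvenPSL
import Cfsg.Agent.CharDeep.ZassFrobenius

/-!
A simple Zassenhaus group with abelian kernel of order `q` whose two-point stabilisers have odd
order `(q - 1) / 2` is `PSL(2, q)`.
-/

set_option autoImplicit false
set_option linter.unusedSectionVars false
set_option maxHeartbeats 1600000

namespace Cfsg.Agent.PermB.AbPSL

open Matrix MulAction
open Cfsg.Agent.CharDeep
open Cfsg.Agent.ZassNormal
open scoped MatrixGroups OnePoint

variable {G Ω : Type*} [Group G] [Fintype G] [DecidableEq G] [MulAction G Ω] [Fintype Ω]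
  [DecidableEq Ω] (hZ : Cfsg.IsZassenhausGroup G Ω) {a b : Ω} (hab : a ≠ b) {U : Subgroup G}
  (hU : Zass.IsKernel a U) (hUc' : ∀ x ∈ U, ∀ y ∈ U, x * y = y * x)
  (hodd : Odd (Nat.card ↥(Zass.two G a b))) [IsSimpleGroup G]
  (hh : Nat.card ↥(Zass.two G a b) * 2 = Fintype.card Ω - 2)

include hZ hab hU hUc' hodd hh

theorem odd_card_kernel : Odd (Nat.card U) := by
  have := hU.card
  have := Zass.three_le_card hZ hab
  exact ⟨Nat.card ↥(Zass.two G a b), by omega⟩

theorem even_degree : Even (Fintype.card Ω) := by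
  rw [← hU.card]
  exact (odd_card_kernel hZ hab hU hUc' hodd hh).add_one

/-- **The identification with `PSL(2, q)`.** -/
theorem exists_psl : ∃ (F : Type) (_ : Field F) (_ : Fintype F),
    Fintype.card F + 1 = Fintype.card Ω ∧ 3 < Fintype.card F ∧ ringChar F ≠ 2 ∧
      Nonempty (G ≃* Matrix.ProjectiveSpecialLinearGroup (Fin 2) F) := by
  classical
  have h3 := Zass.three_le_card hZ hab
  have hfpf := isFPF_kernel hZ hab hU
  letI : CommGroup U :=
    { (inferInstance : Group U) with mul_comm := fun x y => Subtype.ext (hUc' x x.2 y y.2) }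
  have hUcard := hU.card
  set T := Zass.two G a b with hT
  let conjU : T → (U →* U) := fun x =>
    MonoidHom.mk' (fun u => ⟨(x : G) * u * (x : G)⁻¹, Zass.kernel_normal hZ hU x.2.1 u.2⟩)
      fun u v => Subtype.ext (by simp [mul_assoc])
  let θ : T → AddMonoid.End (Additive U) := fun x => MonoidHom.toAdditive (conjU x)
  have hθ : ∀ (x : T) (v : Additive U),
      ((θ x v).toMul : G) = (x : G) * v.toMul * (x : G)⁻¹ := fun x v => rfl
  obtain ⟨u₀, hu₀, hu₀1⟩ := Zass.kernel_ne_bot hZ hU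
  -- the field
  have hirr : ∀ W : AddSubgroup (Additive U), (∀ t ∈ Set.range θ, ∀ w ∈ W, t w ∈ W) →
      W = ⊥ ∨ W = ⊤ := by
    intro W hW
    by_contra hcon
    push Not at hcon
    let X : Subgroup G := (AddSubgroup.toSubgroup' W).map U.subtype
    have hmemX : ∀ v : Additive U, v ∈ W → ((v.toMul : U) : G) ∈ X := fun v hv =>
      ⟨v.toMul, hv, rfl⟩
    have hXU : X ≤ U := Subgroup.map_subtype_le _
    have hXn : T ≤ Subgroup.normalizer (X : Set G) := by
      have hfor : ∀ g ∈ T, ∀ x ∈ X, g * x * g⁻¹ ∈ X := by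
        rintro g hg _ ⟨v, hv, rfl⟩
        exact hmemX _ (hW _ ⟨⟨g, hg⟩, rfl⟩ (Additive.ofMul v) hv)
      intro g hg
      rw [Subgroup.mem_normalizer_iff]
      refine fun x => ⟨hfor g hg x, fun hx => ?_⟩
      have := hfor g⁻¹ (T.inv_mem hg) _ hx
      simpa [mul_assoc] using this
    have hXbot : X ≠ ⊥ := fun h => hcon.1 (by
      rw [AddSubgroup.eq_bot_iff_forall]
      intro v hv
      have := hmemX v hv
      rw [h, Subgroup.mem_bot] at this
      exact Additive.toMul.injective (Subtype.ext this))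
    have h1 := (hfpf.mono_right hXU hXn).card_dvd_card_sub_one
    have hXlt : X ≠ U := fun h => hcon.2 (by
      rw [AddSubgroup.eq_top_iff']
      intro v
      have hv : ((v.toMul : U) : G) ∈ X := by rw [h]; exact v.toMul.2
      obtain ⟨v', hv', he⟩ := hv
      rw [show v = Additive.ofMul v' from Additive.toMul.injective (Subtype.ext he.symm)]
      exact hv')
    obtain ⟨m, hm⟩ := Subgroup.card_dvd_of_le hXU
    have hX1 : 1 < Nat.card X := (Subgroup.one_lt_card_iff_ne_bot X).2 hXbot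
    have hm3 : 3 ≤ m := by
      have hodd : Odd (Nat.card U) := by
        exact odd_card_kernel hZ hab hU hUc' hodd hh
      rw [hm, Nat.odd_mul] at hodd
      rcases m with _ | _ | m
      · simp [Nat.card_pos.ne'] at hm
      · exact absurd (Subgroup.eq_of_le_of_card_ge hXU (by rw [hm, Nat.zero_add, mul_one])) hXlt
      · rcases hodd.2 with ⟨k, hk⟩; omega
    have h2 : Nat.card T ≤ Nat.card X - 1 := Nat.le_of_dvd (by omega) h1
    have : Nat.card X * 3 ≤ Nat.card U := hm ▸ Nat.mul_le_mul_left _ hm3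
    omega
  obtain ⟨F, instF, instFF, ι, hι1, hιT⟩ := exists_field_model (T := Set.range θ) (by
    rintro _ ⟨x, rfl⟩ _ ⟨y, rfl⟩
    refine DFunLike.ext _ _ fun v => Additive.toMul.injective (Subtype.ext ?_)
    show ((θ x (θ y v)).toMul : G) = ((θ y (θ x v)).toMul : G)
    rw [hθ, hθ, hθ, hθ]
    calc (x : G) * ((y : G) * v.toMul * (y : G)⁻¹) * (x : G)⁻¹
        = ((x : G) * y) * v.toMul * ((x : G) * y)⁻¹ := by group
      _ = ((y : G) * x) * v.toMul * ((y : G) * x)⁻¹ := by
        rw [Zass.commute_two hZ hab hU hodd x.2 y.2]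
      _ = _ := by group) hirr (u := Additive.ofMul (⟨u₀, hu₀⟩ : U))
      (fun h => hu₀1 (congrArg (fun v => ((Additive.toMul v : U) : G)) h))
  refine ⟨F, instF, instFF, ?_⟩
  have hFcard : Fintype.card F = Nat.card U := by
    rw [← Nat.card_eq_fintype_card]
    exact (Nat.card_congr ι.toEquiv).trans (Nat.card_congr Additive.toMul)
  have hq4 : 3 < Fintype.card F := by
    have := Zass.two_card_gt_one hZ hab
    rw [← hT] at this
    omega
  have hchar : ringChar F ≠ 2 := fun h => by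
    have h2 := FiniteField.even_card_of_char_two h
    have := odd_card_kernel hZ hab hU hUc' hodd hh
    rw [← hFcard, Nat.odd_iff] at this
    omega
  refine ⟨by omega, hq4, hchar, ?_⟩
  have hhalf : Fintype.card F / 2 = Nat.card T := by omega
  -- translations
  let τ : F → G := fun r => ((ι r).toMul : G)
  have hτ : ∀ r s, τ (r + s) = τ r * τ s := fun r s => by simp only [τ, map_add, toMul_add]; rfl
  have hτU : ∀ r, τ r ∈ U := fun r => (ι r).toMul.2
  have hτa : ∀ r, τ r • a = a := fun r => mem_stabilizer_iff.1 (hU.le (hτU r))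
  have hτinj : Function.Injective τ := fun r s h =>
    ι.injective (Additive.toMul.injective (Subtype.ext h))
  have hreg : ∀ c : Ω, c ≠ a → ∃! r, τ r • b = c := by
    intro c hc
    obtain ⟨u, hu, huc⟩ := Zass.kernel_regular hZ hab hU hc
    refine ⟨ι.symm (Additive.ofMul ⟨u, hu⟩), ?_, fun r hr => ?_⟩
    · simp only [τ, AddEquiv.apply_symm_apply]; exact huc
    · apply hτinj
      simp only [τ, AddEquiv.apply_symm_apply]
      have h := Zass.kernel_inf_two hZ hab hU (U.mul_mem (U.inv_mem hu) (hτU r))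
        (by rw [mul_smul, hr, inv_smul_eq_iff, huc])
      exact (inv_mul_eq_one.1 h).symm
  have hτ0 : τ 0 = 1 := by simp only [τ, map_zero]; rfl
  have hne : ∀ r, τ r • b ≠ a := fun r h =>
    hab ((MulAction.injective (τ r) (h.trans (hτa r).symm)).symm)
  -- scalings
  have hj : ∀ x ∈ T, ∃ c : F, c ≠ 0 ∧ ∀ r, x • τ r • b = τ (c * r) • b := by
    intro x hx
    obtain ⟨c, hc⟩ := hιT _ ⟨⟨x, hx⟩, rfl⟩
    have hc' : ∀ r, τ (c * r) = x * τ r * x⁻¹ := fun r => by
      simp only [τ, ← hc]; exact hθ _ _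
    refine ⟨c, fun h => ?_, fun r => ?_⟩
    · have h1 := hc' 1
      rw [h, zero_mul, hτ0, eq_comm, conj_eq_one_iff, ← hτ0] at h1
      exact one_ne_zero (hτinj h1)
    · rw [hc', mul_smul, mul_smul, inv_smul_eq_iff.2 hx.2.symm]
  choose j hj0 hjspec using hj
  have hpt : ∀ r s, τ r • b = τ s • b → r = s := fun r s h => (hreg _ (hne s)).unique h rfl
  have hjinj : ∀ x (hx : x ∈ T) y (hy : y ∈ T), j x hx = j y hy → x = y := by
    intro x hx y hy h
    have := hZ.1
    refine eq_of_smul_eq_smul fun c : Ω => ?_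
    by_cases hca : c = a
    · rw [hca, hx.1, hy.1]
    · obtain ⟨r, rfl, -⟩ := hreg c hca
      rw [hjspec x hx, hjspec y hy, h]
  have hjmul : ∀ x (hx : x ∈ T) y (hy : y ∈ T),
      j (x * y) (T.mul_mem hx hy) = j x hx * j y hy := by
    intro x hx y hy
    have h1 := hjspec (x * y) (T.mul_mem hx hy) 1
    rw [mul_smul, hjspec y hy, hjspec x hx, mul_one, mul_one] at h1
    exact (hpt _ _ h1).symm
  have hj1 : j 1 T.one_mem = 1 := by
    have h1 := hjspec 1 T.one_mem 1
    rw [one_smul, mul_one] at h1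
    exact (hpt _ _ h1).symm
  let jh : T →* F :=
    { toFun := fun x => j x x.2, map_one' := hj1, map_mul' := fun x y => hjmul x x.2 y y.2 }
  have hjhinj : Function.Injective jh := fun x y h => Subtype.ext (hjinj x x.2 y y.2 h)
  have hsq_j : ∀ x : T, IsSquare (jh x) := fun x => by
    rw [FiniteField.isSquare_iff hchar (show jh x ≠ 0 from hj0 x x.2), hhalf, ← map_pow, pow_card_eq_one', map_one]
  have hsurj_j : ∀ c : F, c ≠ 0 → IsSquare c → ∃ x : T, jh x = c := by
    intro c hc hcs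
    set R := (Polynomial.nthRoots (Nat.card T) (1 : F)).toFinset
    have hR : ∀ d : F, d ≠ 0 → IsSquare d → d ∈ R := by
      intro d hd hds
      rw [Multiset.mem_toFinset, Polynomial.mem_nthRoots Nat.card_pos, ← hhalf]
      exact (FiniteField.isSquare_iff hchar hd).1 hds
    have hsub : Finset.univ.image jh ⊆ R := by
      intro d hd
      obtain ⟨x, -, rfl⟩ := Finset.mem_image.1 hd
      exact hR _ (hj0 x x.2) (hsq_j x)
    have heq := Finset.eq_of_subset_of_card_le hsub (by
      rw [Finset.card_image_of_injective _ hjhinj, Finset.card_univ, ← Nat.card_eq_fintype_card]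
      exact (Multiset.toFinset_card_le _).trans (Polynomial.card_nthRoots _ _))
    have hcR := hR c hc hcs
    rw [← heq, Finset.mem_image] at hcR
    obtain ⟨x, -, hx⟩ := hcR
    exact ⟨x, hx⟩
  have hratio : ∀ {r s : F}, r ≠ 0 → s ≠ 0 → ¬ IsSquare r → ¬ IsSquare s → IsSquare (r / s) := by
    intro r s hr hs hrn hsn
    have h : ∀ {d : F}, d ≠ 0 → ¬ IsSquare d → d ^ (Fintype.card F / 2) = -1 := fun hd hdn =>
      (FiniteField.pow_dichotomy hchar hd).resolve_left fun h =>
        hdn ((FiniteField.isSquare_iff hchar hd).2 h)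
    rw [FiniteField.isSquare_iff hchar (div_ne_zero hr hs), div_pow, h hr hrn, h hs hsn]
    norm_num
  have hm1 : ¬ IsSquare (-1 : F) := by
    rw [FiniteField.isSquare_iff hchar (neg_ne_zero.2 one_ne_zero), hhalf, hodd.neg_one_pow]
    exact Ring.neg_one_ne_one_of_char_ne_two hchar
  -- the shape of a swap
  have hshape : ∀ v : G, (v • a = b ∧ v • b = a) → ∃ f : F → F,
      (∀ r, r ≠ 0 → f r ≠ 0 ∧ v • τ r • b = τ (f r) • b) ∧ (∀ r, r ≠ 0 → f (f r) = r) ∧
      (∀ c r, c ≠ 0 → IsSquare c → r ≠ 0 → f (c * r) = c⁻¹ * f r) := by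
    intro v hv
    have hex : ∀ r, r ≠ 0 → ∃ s, s ≠ 0 ∧ v • τ r • b = τ s • b := by
      intro r hr
      obtain ⟨s, hs, -⟩ := hreg (v • τ r • b) fun h => hr (hpt _ _
        ((MulAction.injective v (h.trans hv.2.symm)).trans (by rw [hτ0, one_smul])))
      refine ⟨s, fun h => hne r (MulAction.injective v ?_), hs.symm⟩
      show v • τ r • b = v • a
      rw [← hs, h, hτ0, one_smul]
      exact hv.1.symm
    choose f hf0 hf using hex
    refine ⟨fun r => if h : r = 0 then 0 else f r h, fun r hr => by simp [hr, hf0, ← hf],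
      fun r hr => ?_, fun c r hc hcs hr => ?_⟩
    · have h2 := hf (f r hr) (hf0 r hr)
      rw [← hf r hr, ← mul_smul, (Zass.swap_sq hZ hab hodd hv.1 hv.2), one_smul] at h2
      simp [hr, hf0, ← hpt _ _ h2]
    · obtain ⟨⟨x, hx⟩, hxc⟩ := hsurj_j c hc hcs
      have hxc' : j x hx = c := hxc
      have hinv : j x⁻¹ (T.inv_mem hx) = c⁻¹ := by
        have h := hjmul x⁻¹ (T.inv_mem hx) x hx
        simp only [inv_mul_cancel, hj1] at h
        rw [← hxc']
        exact eq_inv_of_mul_eq_one_left h.symm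
      simp only [hc, hr, mul_eq_zero, or_self, dite_false]
      apply hpt
      rw [← hf (c * r) (mul_ne_zero hc hr), ← hxc', ← hjspec x hx, ← mul_smul,
        mul_inv_eq_iff_eq_mul.1 (Zass.inverts hZ hab hodd hv hx), mul_smul, hf r hr, hjspec _ (T.inv_mem hx), hinv,
        hxc']
  -- the image of `1` is a non-square
  have hf1 : ∀ v : G, (v • a = b ∧ v • b = a) → ∀ f : F → F,
      (∀ r, r ≠ 0 → f r ≠ 0 ∧ v • τ r • b = τ (f r) • b) →
      (∀ c r, c ≠ 0 → IsSquare c → r ≠ 0 → f (c * r) = c⁻¹ * f r) → ¬ IsSquare (f 1) := by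
    intro v hv f hf hfc hs
    obtain ⟨s, hss⟩ := hs
    have hs0 : s ≠ 0 := fun h => (hf 1 one_ne_zero).1 (by rw [hss, h, mul_zero])
    obtain ⟨s, hss, hs0, hsq⟩ : ∃ s : F, f 1 = s * s ∧ s ≠ 0 ∧ IsSquare s := by
      by_cases h : IsSquare s
      · exact ⟨s, hss, hs0, h⟩
      · refine ⟨-s, by rw [hss]; ring, neg_ne_zero.2 hs0, ?_⟩
        have := hratio hs0 (neg_ne_zero.2 one_ne_zero) h hm1
        rwa [div_neg, div_one] at this
    have h1 := hfc s 1 hs0 hsq one_ne_zero
    rw [mul_one, hss, ← mul_assoc, inv_mul_cancel₀ hs0, one_mul] at h1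
    have hvv : v ∈ Zass.invs G := by
      refine Zass.mem_invs.2 ⟨fun h => ?_, Zass.swap_sq hZ hab hodd hv.1 hv.2⟩
      have := hv.1
      rw [h, one_smul] at this
      exact hab this
    exact Zass.not_fix_of_even hZ hab hodd (even_degree hZ hab hU hUc' hodd hh) hvv (τ s • b)
      (by rw [(hf s hs0).2, h1])
  -- normalise the swap
  obtain ⟨v₀, hv₀⟩ := Zass.exists_swap hZ hab
  obtain ⟨f₀, hf₀, -, hfc₀⟩ := hshape v₀ hv₀
  obtain ⟨⟨x₀, hx₀⟩, hjx₀⟩ := hsurj_j (-1 / f₀ 1) (div_ne_zero (neg_ne_zero.2 one_ne_zero)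
    (hf₀ 1 one_ne_zero).1) (hratio (neg_ne_zero.2 one_ne_zero) (hf₀ 1 one_ne_zero).1 hm1
      (hf1 v₀ hv₀ f₀ hf₀ hfc₀))
  set w := x₀ * v₀ with hwdef
  have hw : w • a = b ∧ w • b = a := by
    constructor <;> rw [hwdef, mul_smul]
    · rw [hv₀.1, hx₀.2]
    · rw [hv₀.2, hx₀.1]
  obtain ⟨f, hf, hff, hfc⟩ := hshape w hw
  have hf_one : f 1 = -1 := by
    apply hpt
    rw [← (hf 1 one_ne_zero).2, hwdef, mul_smul, (hf₀ 1 one_ne_zero).2, hjspec x₀ hx₀,
      show j x₀ hx₀ = -1 / f₀ 1 from hjx₀, div_mul_cancel₀ _ (hf₀ 1 one_ne_zero).1]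
  have hneg1 : f (-1) = 1 := by
    have := hff 1 one_ne_zero
    rwa [hf_one] at this
  have hfall : ∀ r, r ≠ 0 → f r = -r⁻¹ := by
    intro r hr
    by_cases hrs : IsSquare r
    · have := hfc r 1 hr hrs one_ne_zero
      rwa [mul_one, hf_one, mul_neg_one] at this
    · have h1 := hratio hr (neg_ne_zero.2 one_ne_zero) hrs hm1
      rw [div_neg, div_one] at h1
      have := hfc (-r) (-1) (neg_ne_zero.2 hr) h1 (neg_ne_zero.2 one_ne_zero)
      rw [hneg1, mul_one, neg_mul_neg, mul_one, inv_neg] at this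
      exact this
  have := hZ.1
  refine nonempty_equiv_psl (a := a) (b := b) τ hab hτ hτa hreg ?_ ?_ hw.1 hw.2
    fun r hr => by rw [(hf r hr).2, hfall r hr]
  · intro s hs
    obtain ⟨⟨x, hx⟩, hxs⟩ := hsurj_j (s ^ 2) (pow_ne_zero 2 hs) (IsSquare.sq s)
    exact ⟨x, hx.1, fun r => by rw [hjspec x hx, show j x hx = s ^ 2 from hxs]⟩
  · intro g hga hgb
    obtain ⟨s, hs⟩ := hsq_j ⟨g, hga, hgb⟩
    have hs0 : s ≠ 0 := fun h => hj0 g ⟨hga, hgb⟩ (by rw [h, mul_zero] at hs; exact hs)
    exact ⟨s, hs0, fun r => by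
      rw [hjspec g ⟨hga, hgb⟩, show j g ⟨hga, hgb⟩ = s * s from hs, pow_two]⟩

end Cfsg.Agent.PermB.AbPSL
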