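import Cfsg.Agent.PermB.AbBound
import Cfsg.Agent.PermB.AbPSL
import Cfsg.Agent.Lib.Zassenhaus.Normal

/-!
Zassenhaus groups with abelian kernel: sharply three-transitive, or `PSL(2, q)` with `q` odd.
-/

set_option autoImplicit false
set_option linter.unusedSectionVars false

namespace Cfsg.Agent.PermB.AbMain

open MulAction
open Cfsg.Agent.CharDeep

variable {G Ω : Type*} [Group G] [Fintype G] [DecidableEq G] [MulAction G Ω] [Fintype Ω]
  [DecidableEq Ω] (hZ : Cfsg.IsZassenhausGroup G Ω) {a b : Ω} (hab : a ≠ b) {U : Subgroup G}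
  (hU : Zass.IsKernel a U)

include hZ hab

/-- Full two-point stabilisers give a sharply three-transitive group. -/
theorem sharp_of_full (hfull : Nat.card ↥(Zass.two G a b) + 2 = Fintype.card Ω) :
    IsMultiplyPretransitive G Ω 3 ∧ ∀ t : Fin 3 ↪ Ω, stabilizer G t = ⊥ := by
  classical
  have hne : ∀ (t : Fin 3 ↪ Ω) (i j : Fin 3), i ≠ j → t i ≠ t j := fun t i j h e =>
    h (t.injective e)
  refine ⟨⟨fun x y => ?_⟩, fun t => ?_⟩
  · obtain ⟨g, g0, g1⟩ := Zass.exists_pair hZ (hne x 0 1 (by decide)) (hne y 0 1 (by decide))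
    have hc0 : g • x 2 ≠ y 0 := fun h =>
      hne x 2 0 (by decide) (MulAction.injective g (h.trans g0.symm))
    have hc1 : g • x 2 ≠ y 1 := fun h =>
      hne x 2 1 (by decide) (MulAction.injective g (h.trans g1.symm))
    set T := Zass.two G (y 0) (y 1)
    set S := ((Finset.univ : Finset Ω).erase (y 0)).erase (y 1)
    have hmem : ∀ k : T, (k : G) • (g • x 2) ∈ S := fun k => by
      simp only [S, Finset.mem_erase, Finset.mem_univ, and_true]
      exact ⟨fun h => hc1 (MulAction.injective (k : G) (h.trans k.2.2.symm)),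
        fun h => hc0 (MulAction.injective (k : G) (h.trans k.2.1.symm))⟩
    have hinj : Function.Injective fun k : T => (⟨_, hmem k⟩ : S) := fun k k' h => by
      have h' : (k : G) • (g • x 2) = (k' : G) • (g • x 2) := congrArg Subtype.val h
      have hm := (k'⁻¹ * k).2
      refine (inv_mul_eq_one.1 (Subtype.ext ?_)).symm
      exact Zass.eq_one_of_three hZ (hne y 0 1 (by decide)) hc1.symm hc0.symm hm.1 hm.2
        (show ((k' : G)⁻¹ * (k : G)) • (g • x 2) = g • x 2 by rw [mul_smul, h', inv_smul_smul])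
    have hcard : Nat.card S = Nat.card T := by
      rw [Nat.card_eq_finsetCard, Finset.card_erase_of_mem
        (Finset.mem_erase.2 ⟨hne y 1 0 (by decide), Finset.mem_univ _⟩),
        Finset.card_erase_of_mem (Finset.mem_univ _), Finset.card_univ,
        Zass.card_two_eq hZ hab (hne y 0 1 (by decide)), ← hfull]
      omega
    obtain ⟨k, hk⟩ := ((Nat.bijective_iff_injective_and_card _).2 ⟨hinj, hcard.symm⟩).2
      ⟨y 2, by simp [S, hne y 2 0 (by decide), hne y 2 1 (by decide)]⟩
    refine ⟨(k : G) * g, Function.Embedding.ext fun i => ?_⟩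
    show ((k : G) * g) • x i = y i
    rw [mul_smul]
    fin_cases i
    · show (k : G) • g • x 0 = y 0
      rw [g0]; exact k.2.1
    · show (k : G) • g • x 1 = y 1
      rw [g1]; exact k.2.2
    · exact congrArg Subtype.val hk
  · rw [Subgroup.eq_bot_iff_forall]
    intro g hg
    have hfix : ∀ i, g • t i = t i := fun i => congrArg (fun u : Fin 3 ↪ Ω => u i) hg
    exact Zass.eq_one_of_three hZ (hne t 0 1 (by decide)) (hne t 1 2 (by decide))
      (hne t 0 2 (by decide)) (hfix 0) (hfix 1) (hfix 2)

include hU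

/-- **Zassenhaus groups with abelian kernel.** -/
theorem classify_card (hc : ∀ x ∈ U, ∀ y ∈ U, x * y = y * x) :
    (Nat.card ↥(Zass.two G a b) + 2 = Fintype.card Ω ∧ IsMultiplyPretransitive G Ω 3 ∧
        ∀ t : Fin 3 ↪ Ω, stabilizer G t = ⊥) ∨
      ∃ (K : Type) (_ : Field K) (_ : Fintype K),
        Nat.card ↥(Zass.two G a b) * 2 + 2 = Fintype.card Ω ∧
        Fintype.card K + 1 = Fintype.card Ω ∧ ringChar K ≠ 2 ∧
        Nonempty (G ≃* Matrix.ProjectiveSpecialLinearGroup (Fin 2) K) := by
  classical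
  set e := Nat.card ↥(Zass.two G a b) with he
  have h3 := Zass.three_le_card hZ hab
  have he1 := Zass.two_card_gt_one hZ hab
  obtain ⟨m, hm⟩ := ZassNormal.two_dvd_card_kernel_sub_one hZ hab hU
  rw [← he] at hm he1
  by_cases hm1 : m = 1
  · have hfull : e + 2 = Fintype.card Ω := by subst hm1; omega
    exact Or.inl ⟨hfull, sharp_of_full hZ hab hfull⟩
  rcases Nat.even_or_odd e with hev | hodd
  · -- two-point stabilisers of even order
    have hk := ZassNormal.card_swap_two hZ hab hU hev
    have hle := (Finset.card_filter_le (Zass.invSwap G a b) fun x => Zass.nfix Ω x = 2).trans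
      (Zass.card_invSwap_le hZ hab)
    rw [← he] at hle
    have hm2 : e * m ≤ e * 2 := by omega
    have hm0 : m ≠ 0 := fun h => by subst h; omega
    have : m = 2 := by
      have := Nat.le_of_mul_le_mul_left hm2 (by omega)
      omega
    subst this
    obtain ⟨F, i1, i2, hcard, -, hch, hiso⟩ := ZassNormal.exists_psl hZ hab hU hev (by omega)
    exact Or.inr ⟨F, i1, i2, by omega, hcard, hch, hiso⟩
  · -- two-point stabilisers of odd order: pass to the minimal normal subgroup
    have : Nontrivial G := by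
      obtain ⟨g, hg, -⟩ := hZ.2.2.2.1
      exact ⟨⟨g, 1, hg⟩⟩
    obtain ⟨N, ⟨hNn, hN⟩, hmin⟩ := WellFounded.has_min (wellFounded_lt (α := Subgroup G))
      {K : Subgroup G | K.Normal ∧ K ≠ ⊥} ⟨⊤, inferInstance, top_ne_bot⟩
    have hZN := ZassNormal.isZassenhaus_normal hZ N hN
    have hUN : U ≤ N := ZassNormal.kernel_le hZ N hN hU
    have hUN' : Zass.IsKernel a (U.subgroupOf N) :=
      ⟨fun x hx => hU.le hx,
        by rw [Nat.card_congr (Subgroup.subgroupOfEquivOfLe hUN).toEquiv, hU.card],
        fun x hx hx1 c hc' => hU.fix (x : G) hx (fun h => hx1 (Subtype.ext h)) c hc'⟩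
    have hsimple : IsSimpleGroup N := by
      have : Nontrivial N := (Subgroup.nontrivial_iff_ne_bot N).2 hN
      refine ⟨fun M hMn => or_iff_not_imp_left.2 fun hM => ?_⟩
      set S : Set G := {g | ∃ c : Ω, g ≠ 1 ∧ g • c = c ∧ ∀ d, g • d = d → d = c}
      set L := Subgroup.closure S with hL
      have hLn : L.Normal := by
        rw [hL]
        have hS : Group.conjugatesOfSet S = S := by
          refine subset_antisymm ?_ Group.subset_conjugatesOfSet
          intro g hg
          obtain ⟨s, ⟨c, hs1, hsc, hsu⟩, hconj⟩ := Group.mem_conjugatesOfSet_iff.1 hg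
          obtain ⟨k, rfl⟩ := isConj_iff.1 hconj
          refine ⟨k • c, fun h => hs1 (conj_eq_one_iff.1 h), by simp [mul_smul, hsc], fun d hd => ?_⟩
          rw [mul_smul, mul_smul, smul_eq_iff_eq_inv_smul] at hd
          exact inv_smul_eq_iff.1 (hsu _ hd)
        rw [← hS]
        exact Subgroup.normalClosure_normal
      have hLb : L ≠ ⊥ := fun h => by
        obtain ⟨u, hu, hu1⟩ := Zass.kernel_ne_bot hZ hU
        have : u ∈ L := Subgroup.subset_closure
          ⟨a, hu1, mem_stabilizer_iff.1 (hU.le hu), fun d hd => hU.fix u hu hu1 d hd⟩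
        rw [h, Subgroup.mem_bot] at this
        exact hu1 this
      have hLM : L ≤ M.map N.subtype := by
        rw [hL, Subgroup.closure_le]
        rintro g ⟨c, hg1, hgc, hgu⟩
        obtain ⟨d, hd⟩ := Fintype.exists_ne_of_one_lt_card (show 1 < Fintype.card Ω by omega) c
        obtain ⟨K, hK⟩ := Zass.exists_kernel hZ (Ne.symm hd)
        have hgK : g ∈ K := (Zass.mem_kernel_iff hZ hK).2 (Or.inr ⟨hgc, hgu⟩)
        have hKN : K ≤ N := ZassNormal.kernel_le hZ N hN hK
        have hK' : Zass.IsKernel c (K.subgroupOf N) :=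
          ⟨fun x hx => hK.le hx,
            by rw [Nat.card_congr (Subgroup.subgroupOfEquivOfLe hKN).toEquiv, hK.card],
            fun x hx hx1 p hp => hK.fix (x : G) hx (fun h => hx1 (Subtype.ext h)) p hp⟩
        exact ⟨⟨g, hKN hgK⟩, ZassNormal.kernel_le hZN M hM hK'
          (show (⟨g, hKN hgK⟩ : N) ∈ K.subgroupOf N from hgK), rfl⟩
      have hLN : L ≤ N := hLM.trans (Subgroup.map_subtype_le M)
      have hLe : L = N := by
        by_contra hne
        exact hmin L ⟨hLn, hLb⟩ (lt_of_le_of_ne hLN hne)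
      rw [Subgroup.eq_top_iff']
      intro x
      obtain ⟨y, hy, hyx⟩ := hLM (show (x : G) ∈ L by rw [hLe]; exact x.2)
      rwa [show x = y from Subtype.ext hyx.symm]
    have hdvd : Nat.card ↥(Zass.two N a b) ∣ e := by
      rw [he, Nat.card_congr
        ((Zass.two N a b).equivMapOfInjective N.subtype N.subtype_injective).toEquiv]
      refine Subgroup.card_dvd_of_le ?_
      rintro _ ⟨x, hx, rfl⟩
      exact hx
    have hoddN : Odd (Nat.card ↥(Zass.two N a b)) := Odd.of_dvd_nat hodd hdvd
    have hbound := AbZass.card_le_of_abelian hZN hab hUN' hoddN fun x hx y hy =>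
      Subtype.ext (hc x hx y hy)
    have hle := Nat.le_of_dvd (show 0 < e by omega) hdvd
    have hm0 : m ≠ 0 := fun h => by subst h; omega
    have : m = 2 := by
      have hm2 : e * m ≤ e * 2 := by omega
      have := Nat.le_of_mul_le_mul_left hm2 (by omega)
      omega
    subst this
    have heq : Nat.card ↥(Zass.two N a b) = e := by omega
    have htwo : ∀ x ∈ Zass.two G a b, x ∈ N := by
      intro x hx
      have hmap : (Zass.two N a b).map N.subtype = Zass.two G a b := by
        refine Subgroup.eq_of_le_of_card_ge ?_ (le_of_eq ?_)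
        · rintro _ ⟨y, hy, rfl⟩; exact hy
        · rw [← Nat.card_congr
            ((Zass.two N a b).equivMapOfInjective N.subtype N.subtype_injective).toEquiv, heq]
      rw [← hmap] at hx
      exact Subgroup.map_subtype_le _ hx
    have hNtop : ∀ g : G, g ∈ N := by
      intro g
      have := ZassNormal.pretransitive_normal hZ N hN
      obtain ⟨k, hk⟩ := MulAction.exists_smul_eq N (g • a) a
      have hga : ((k : G) * g) • a = a := by rw [mul_smul]; exact hk
      obtain ⟨u, hu, x, hx, hux⟩ := Zass.exists_kernel_mul hZ hab hU hga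
      rw [show g = (k : G)⁻¹ * ((k : G) * g) by group, hux]
      exact N.mul_mem (N.inv_mem k.2) (N.mul_mem (hUN hu) (htwo x hx))
    have : IsSimpleGroup G :=
      IsSimpleGroup.isSimpleGroup_of_surjective N.subtype fun g => ⟨⟨g, hNtop g⟩, rfl⟩
    obtain ⟨F, i1, i2, hcard, -, hch, hiso⟩ :=
      AbPSL.exists_psl hZ hab hU hc hodd (by omega)
    exact Or.inr ⟨F, i1, i2, by omega, hcard, hch, hiso⟩

end Cfsg.Agent.PermB.AbMain
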