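import Cfsg.Agent.Lib.Perm.PermModule
import Cfsg.Agent.Lib.CharCore.Complete

/-!
The centraliser algebra of a complex permutation module and its action on multiplicity spaces.
-/

set_option autoImplicit false
set_option linter.unusedSectionVars false

namespace Cfsg.Agent.PermB

open MulAction Module
open scoped ComplexConjugate TensorProduct

universe u v

variable (G : Type u) [Group G] [Fintype G] (Ω : Type v) [Fintype Ω] [MulAction G Ω]

/-- The complex permutation representation. -/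
noncomputable abbrev Pp : Representation ℂ G (Ω → ℂ) := Cfsg.permRep ℂ G Ω

/-- The centraliser algebra of the permutation representation. -/
noncomputable abbrev cAlg : Subalgebra ℂ (Module.End ℂ (Ω → ℂ)) :=
  Subalgebra.centralizer ℂ (Set.range (Pp G Ω))

/-- The class function `g ↦ tr (A P(g))`. -/
noncomputable def trFun (A : Module.End ℂ (Ω → ℂ)) : G → ℂ :=
  fun g => LinearMap.trace ℂ _ (A * Pp G Ω g)

variable {G Ω}

theorem trace_fun (X : Module.End ℂ (Ω → ℂ)) [DecidableEq Ω] :
    LinearMap.trace ℂ _ X = ∑ x, X (Pi.single x 1) x := by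
  rw [LinearMap.trace_eq_matrix_trace ℂ (Pi.basisFun ℂ Ω), Matrix.trace]
  exact Finset.sum_congr rfl fun x _ => by simp [LinearMap.toMatrix_apply]

theorem mem_cAlg {A : Module.End ℂ (Ω → ℂ)} :
    A ∈ cAlg G Ω ↔ ∀ g : G, Pp G Ω g * A = A * Pp G Ω g := by
  simp [cAlg, Subalgebra.mem_centralizer_iff]

theorem cAlg_entry [DecidableEq Ω] {A : Module.End ℂ (Ω → ℂ)} (hA : A ∈ cAlg G Ω) (g : G)
    (x y : Ω) : A (Pi.single (g • x) 1) (g • y) = A (Pi.single x 1) y := by
  have h := congrFun (LinearMap.congr_fun ((mem_cAlg.1 hA) g) (Pi.single x 1)) (g • y)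
  rw [Module.End.mul_apply, Module.End.mul_apply, Perm.permRep_single, Perm.permRep_apply,
    inv_smul_smul] at h
  exact h.symm

theorem kerMap_mem_cAlg {φ : Ω → Ω → ℂ} (hφ : ∀ (g : G) y x, φ (g • y) (g • x) = φ y x) :
    Perm.kerMap φ ∈ cAlg G Ω :=
  mem_cAlg.2 fun g => LinearMap.ext fun f => (Perm.kerMap_comm hφ g f).symm

/-- Conjugate transposition of a kernel. -/
noncomputable def adjT (A : Module.End ℂ (Ω → ℂ)) [DecidableEq Ω] : Module.End ℂ (Ω → ℂ) :=
  Perm.kerMap fun y x => conj (A (Pi.single y 1) x)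

/-- Transposition of a kernel. -/
noncomputable def transp (A : Module.End ℂ (Ω → ℂ)) [DecidableEq Ω] : Module.End ℂ (Ω → ℂ) :=
  Perm.kerMap fun y x => A (Pi.single y 1) x

theorem adjT_mem [DecidableEq Ω] {A : Module.End ℂ (Ω → ℂ)} (hA : A ∈ cAlg G Ω) :
    adjT A ∈ cAlg G Ω :=
  kerMap_mem_cAlg fun g y x => by rw [cAlg_entry hA g y x]

theorem transp_mem [DecidableEq Ω] {A : Module.End ℂ (Ω → ℂ)} (hA : A ∈ cAlg G Ω) :
    transp A ∈ cAlg G Ω :=
  kerMap_mem_cAlg fun g y x => cAlg_entry hA g y x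

theorem trace_adjT_mul [DecidableEq Ω] (A : Module.End ℂ (Ω → ℂ)) :
    LinearMap.trace ℂ _ (adjT A * A) =
      ((∑ x, ∑ y, Complex.normSq (A (Pi.single x 1) y) : ℝ) : ℂ) := by
  rw [trace_fun]
  push_cast
  refine Finset.sum_congr rfl fun x _ => ?_
  rw [Module.End.mul_apply, adjT, Perm.kerMap_apply]
  exact Finset.sum_congr rfl fun y _ => (Complex.normSq_eq_conj_mul_self).symm

theorem eq_zero_of_trace_adjT_mul [DecidableEq Ω] {A : Module.End ℂ (Ω → ℂ)}
    (h : LinearMap.trace ℂ _ (adjT A * A) = 0) : A = 0 := by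
  rw [trace_adjT_mul, Complex.ofReal_eq_zero] at h
  apply LinearMap.pi_ext'
  intro x
  apply LinearMap.ext_ring
  funext y
  have h1 := (Finset.sum_eq_zero_iff_of_nonneg
    (fun z _ => Finset.sum_nonneg fun w _ => Complex.normSq_nonneg _)).1 h x (Finset.mem_univ x)
  have h2 := (Finset.sum_eq_zero_iff_of_nonneg
    (fun w _ => Complex.normSq_nonneg _)).1 h1 y (Finset.mem_univ y)
  simpa [Complex.normSq_eq_zero] using h2

theorem trFun_isClassFunction {A : Module.End ℂ (Ω → ℂ)} (hA : A ∈ cAlg G Ω) :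
    Cfsg.IsClassFunction G (trFun G Ω A) := by
  intro g h
  simp only [trFun]
  have hh : A * Pp G Ω (h * g * h⁻¹) = Pp G Ω h * (A * Pp G Ω g * Pp G Ω h⁻¹) := by
    rw [map_mul, map_mul, ← mul_assoc (Pp G Ω h), ← mul_assoc (Pp G Ω h), mem_cAlg.1 hA h]
    simp only [mul_assoc]
  rw [hh, LinearMap.trace_mul_comm, mul_assoc, ← map_mul, inv_mul_cancel, map_one, mul_one]

/-- Linear maps into a permutation module form a group (spelled out to help instance search). -/
noncomputable instance linMapAddCommGroup {n : ℕ} {Ω : Type v} :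
    AddCommGroup ((Fin n → ℂ) →ₗ[ℂ] (Ω → ℂ)) :=
  @LinearMap.addCommGroup ℂ ℂ _ _ _ _ _ Pi.addCommGroup _ _ _

variable (G Ω)

/-- The permutation character. -/
noncomputable def permChar : G → ℂ := fun g => (Nat.card (fixedBy Ω g) : ℂ)

theorem permChar_eq : (Pp G Ω).character = permChar G Ω := by
  classical
  funext g
  rw [Representation.character, trace_fun, permChar, Nat.card_eq_fintype_card]
  simp only [Perm.permRep_single, Pi.single_apply, eq_comm (b := g • (_ : Ω))]
  rw [Finset.sum_boole, Fintype.card_subtype]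
  congr 1

theorem isCharacter_permChar : Cfsg.IsCharacter G (permChar G Ω) :=
  permChar_eq G Ω ▸ CharCore.isCharacter_character _

theorem trFun_one : trFun G Ω 1 = permChar G Ω := by
  funext g
  rw [trFun, one_mul, ← permChar_eq]
  rfl

/-! ### Multiplicity spaces -/

variable {G}
variable {n : ℕ} (ρ : Representation ℂ G (Fin n → ℂ))

/-- The multiplicity space of a representation in the permutation module. -/
noncomputable abbrev mSp : Submodule ℂ ((Fin n → ℂ) →ₗ[ℂ] (Ω → ℂ)) := (ρ.linHom (Pp G Ω)).invariants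

variable {Ω}

theorem comp_mem_mSp (A : cAlg G Ω) {φ : (Fin n → ℂ) →ₗ[ℂ] (Ω → ℂ)} (hφ : φ ∈ mSp Ω ρ) :
    (A : Module.End ℂ (Ω → ℂ)).comp φ ∈ mSp Ω ρ := by
  intro g
  have h := hφ g
  rw [Representation.linHom_apply] at h ⊢
  conv_rhs => rw [← h]
  rw [← LinearMap.comp_assoc, ← LinearMap.comp_assoc, ← LinearMap.comp_assoc,
    ← LinearMap.comp_assoc, ← Module.End.mul_eq_comp, ← Module.End.mul_eq_comp,
    mem_cAlg.1 A.2 g]

/-- The centraliser algebra acts on each multiplicity space. -/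
noncomputable def mAct : cAlg G Ω →ₐ[ℂ] Module.End ℂ (mSp Ω ρ) where
  toFun A :=
    { toFun := fun φ => ⟨(A : Module.End ℂ (Ω → ℂ)).comp φ.1, comp_mem_mSp ρ A φ.2⟩
      map_add' := fun φ ψ => Subtype.ext (LinearMap.comp_add _ _ _)
      map_smul' := fun c φ => Subtype.ext (LinearMap.comp_smul _ _ _) }
  map_one' := LinearMap.ext fun φ => Subtype.ext (LinearMap.id_comp _)
  map_mul' A B := LinearMap.ext fun φ => Subtype.ext (LinearMap.comp_assoc _ _ _)
  map_zero' := LinearMap.ext fun φ => Subtype.ext (LinearMap.zero_comp _)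
  map_add' A B := LinearMap.ext fun φ => Subtype.ext (LinearMap.add_comp _ _ _)
  commutes' c := LinearMap.ext fun φ => Subtype.ext (LinearMap.ext fun x => rfl)

theorem mAct_apply (A : cAlg G Ω) (φ : mSp Ω ρ) :
    ((mAct ρ A φ : mSp Ω ρ) : (Fin n → ℂ) →ₗ[ℂ] (Ω → ℂ)) =
      (A : Module.End ℂ (Ω → ℂ)).comp φ.1 := rfl

/-- Pre- and post-composition. -/
noncomputable def sandwich {V W : Type*} [AddCommGroup V] [Module ℂ V] [AddCommGroup W]
    [Module ℂ W] (X : V →ₗ[ℂ] V) (Y : W →ₗ[ℂ] W) : Module.End ℂ (W →ₗ[ℂ] V) where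
  toFun φ := X.comp (φ.comp Y)
  map_add' φ ψ := by rw [LinearMap.add_comp, LinearMap.comp_add]
  map_smul' c φ := by rw [LinearMap.smul_comp, LinearMap.comp_smul]; rfl

theorem trace_sandwich {V W : Type*} [AddCommGroup V] [Module ℂ V] [FiniteDimensional ℂ V]
    [AddCommGroup W] [Module ℂ W] [FiniteDimensional ℂ W] (X : V →ₗ[ℂ] V) (Y : W →ₗ[ℂ] W) :
    LinearMap.trace ℂ _ (sandwich X Y) = LinearMap.trace ℂ V X * LinearMap.trace ℂ W Y := by
  have h : sandwich X Y = (dualTensorHomEquiv ℂ W V).conj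
      (TensorProduct.map (Module.Dual.transpose (R := ℂ) Y) X) := by
    apply LinearMap.ext
    intro φ
    obtain ⟨t, rfl⟩ := (dualTensorHomEquiv ℂ W V).surjective φ
    rw [LinearEquiv.conj_apply, LinearMap.comp_apply, LinearMap.comp_apply, LinearEquiv.coe_coe,
      LinearEquiv.coe_coe, LinearEquiv.symm_apply_apply]
    induction t using TensorProduct.induction_on with
    | zero => simp
    | tmul d v =>
      apply LinearMap.ext
      intro w
      simp [sandwich, Module.Dual.transpose]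
    | add a b ha hb => simp only [map_add, ha, hb]
  rw [h, LinearMap.trace_conj', LinearMap.trace_tensorProduct', LinearMap.trace_transpose',
    mul_comm]

/-- The trace of an element of the centraliser algebra on a multiplicity space. -/
theorem trace_mAct (A : cAlg G Ω) :
    LinearMap.trace ℂ _ (mAct ρ A) = Cfsg.classInner (trFun G Ω A) ρ.character := by
  let T : Module.End ℂ ((Fin n → ℂ) →ₗ[ℂ] (Ω → ℂ)) :=
    (Nat.card G : ℂ)⁻¹ • ∑ g : G, sandwich ((A : Module.End ℂ (Ω → ℂ)) * Pp G Ω g) (ρ g⁻¹)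
  have hS : ∀ (g : G) (φ : (Fin n → ℂ) →ₗ[ℂ] (Ω → ℂ)),
      sandwich ((A : Module.End ℂ (Ω → ℂ)) * Pp G Ω g) (ρ g⁻¹) φ =
        (A : Module.End ℂ (Ω → ℂ)).comp (ρ.linHom (Pp G Ω) g φ) := by
    intro g φ
    rw [Representation.linHom_apply]
    rfl
  have hTφ : ∀ φ, T φ = (A : Module.End ℂ (Ω → ℂ)).comp
      ((Nat.card G : ℂ)⁻¹ • ∑ g : G, ρ.linHom (Pp G Ω) g φ) := by
    intro φ
    simp only [T, LinearMap.smul_apply, LinearMap.sum_apply, hS, LinearMap.comp_smul]
    refine congrArg _ (LinearMap.ext fun x => ?_)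
    simp [LinearMap.sum_apply, map_sum]
  have hT : ∀ φ, T φ ∈ mSp Ω ρ := by
    intro φ
    rw [hTφ]
    refine comp_mem_mSp ρ A fun h => ?_
    rw [map_smul, map_sum]
    congr 1
    refine Fintype.sum_equiv (Equiv.mulLeft h) _ _ fun g => ?_
    rw [← Module.End.mul_apply, ← map_mul]
    rfl
  have hres : mAct ρ A = T.restrict (fun φ (_ : φ ∈ mSp Ω ρ) => hT φ) := by
    refine LinearMap.ext fun φ => Subtype.ext ?_
    rw [mAct_apply, LinearMap.coe_restrict_apply, hTφ, Finset.sum_congr rfl fun g _ => φ.2 g,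
      Finset.sum_const, Finset.card_univ, ← Nat.cast_smul_eq_nsmul ℂ, smul_smul,
      ← Nat.card_eq_fintype_card, inv_mul_cancel₀ (Nat.cast_ne_zero.mpr Nat.card_pos.ne'),
      one_smul]
  rw [hres, LinearMap.trace_restrict_eq_of_forall_mem _ T hT,
    CharCore.classInner_eq_inv _ (CharCore.isCharacter_character ρ)]
  simp only [T, map_smul, map_sum, trace_sandwich, smul_eq_mul]
  rfl

theorem finrank_mSp :
    (finrank ℂ (mSp Ω ρ) : ℂ) = Cfsg.classInner (permChar G Ω) ρ.character := by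
  have h := trace_mAct ρ (1 : cAlg G Ω)
  rw [map_one, Module.End.one_eq_id] at h
  rw [LinearMap.trace_id] at h
  rw [h]
  exact congrArg (fun f => Cfsg.classInner f _) (trFun_one G Ω)

theorem isIntegral_trace {M : Type*} [AddCommGroup M] [Module ℂ M] [FiniteDimensional ℂ M]
    (S : Module.End ℂ M) (hS : IsIntegral ℤ S) : IsIntegral ℤ (LinearMap.trace ℂ M S) := by
  classical
  obtain ⟨p, hp, hp0⟩ := hS
  have b := Module.finBasis ℂ M
  rw [LinearMap.trace_eq_matrix_trace ℂ b, Matrix.trace_eq_sum_roots_charpoly]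
  refine IsIntegral.multiset_sum fun μ hμ => ?_
  rw [LinearMap.charpoly_toMatrix, Polynomial.mem_roots'] at hμ
  obtain ⟨x, hx⟩ := ((Module.End.hasEigenvalue_iff_isRoot_charpoly S μ).2 hμ.2).exists_hasEigenvector
  refine ⟨p, hp, ?_⟩
  have h := Module.End.aeval_apply_of_hasEigenvector (p := p.map (algebraMap ℤ ℂ)) hx
  rw [Polynomial.aeval_map_algebraMap, Polynomial.aeval_def, hp0, LinearMap.zero_apply] at h
  have h' := (smul_eq_zero.1 h.symm).resolve_right hx.2
  rwa [Polynomial.eval_map] at h'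

/-- The trace of an integral kernel on a multiplicity space is an algebraic integer. -/
theorem isIntegral_classInner_trFun (A : cAlg G Ω) (hA : ∀ [DecidableEq Ω], ∀ x y, ∃ z : ℤ,
    (A : Module.End ℂ (Ω → ℂ)) (Pi.single x 1) y = z) :
    IsIntegral ℤ (Cfsg.classInner (trFun G Ω A) ρ.character) := by
  classical
  rw [← trace_mAct]
  refine isIntegral_trace _ ?_
  suffices h : IsIntegral ℤ A from h.map ((mAct ρ).restrictScalars ℤ)
  rw [← isIntegral_algHom_iff ((cAlg G Ω).val.restrictScalars ℤ) Subtype.val_injective]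
  choose z hz using fun x y => hA x y
  have h : ((cAlg G Ω).val.restrictScalars ℤ) A =
      ((Matrix.toLinAlgEquiv' (R := ℂ) (n := Ω)).toAlgHom.toRingHom.comp
        (Int.castRingHom ℂ).mapMatrix).toIntAlgHom (Matrix.of fun y x => z x y) := by
    apply LinearMap.pi_ext'
    intro x
    apply LinearMap.ext_ring
    funext y
    simp [hz x y]
  rw [h]
  exact (IsIntegral.of_finite ℤ _).map _

/-! ### All constituents together -/

variable (Ω)

/-- A representation affording an irreducible character. -/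
noncomputable def irrDim (χ : Cfsg.IrrCharacter G) : ℕ := χ.2.choose

/-- A representation affording an irreducible character. -/
noncomputable def irrRep (χ : Cfsg.IrrCharacter G) : Representation ℂ G (Fin (irrDim χ) → ℂ) :=
  χ.2.choose_spec.choose

theorem irrRep_char (χ : Cfsg.IrrCharacter G) : (irrRep χ).character = (χ : G → ℂ) :=
  χ.2.choose_spec.choose_spec.2

variable {Ω}

theorem trFun_apply_one (A : Module.End ℂ (Ω → ℂ)) :
    trFun G Ω A 1 = LinearMap.trace ℂ _ A := by simp [trFun]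

theorem trace_eq_sum (A : cAlg G Ω) :
    LinearMap.trace ℂ _ (A : Module.End ℂ (Ω → ℂ)) =
      ∑ χ : Cfsg.IrrCharacter G, Cfsg.classInner (trFun G Ω A) χ * (χ : G → ℂ) 1 := by
  rw [← trFun_apply_one (G := G)]
  conv_lhs => rw [CharCore.eq_sum_classInner (trFun_isClassFunction A.2)]
  simp [Finset.sum_apply]

theorem cAlg_ext_zero {A : cAlg G Ω} (h : ∀ χ : Cfsg.IrrCharacter G, mAct (irrRep χ) A = 0) :
    A = 0 := by
  classical
  have h1 : LinearMap.trace ℂ _
      (adjT (A : Module.End ℂ (Ω → ℂ)) * (A : Module.End ℂ (Ω → ℂ))) = 0 := by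
    rw [show adjT (A : Module.End ℂ (Ω → ℂ)) * (A : Module.End ℂ (Ω → ℂ)) =
      (((⟨adjT A.1, adjT_mem A.2⟩ : cAlg G Ω) * A : cAlg G Ω) : Module.End ℂ (Ω → ℂ)) from rfl,
      trace_eq_sum]
    refine Finset.sum_eq_zero fun χ _ => ?_
    rw [← irrRep_char χ, ← trace_mAct, map_mul, h χ, mul_zero, map_zero, zero_mul]
  exact Subtype.ext (eq_zero_of_trace_adjT_mul h1)

theorem cAlg_ext {A B : cAlg G Ω}
    (h : ∀ χ : Cfsg.IrrCharacter G, mAct (irrRep χ) A = mAct (irrRep χ) B) : A = B :=
  sub_eq_zero.1 (cAlg_ext_zero fun χ => by rw [map_sub, h χ, sub_self])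

/-- The centraliser algebra as equivariant endomorphisms. -/
def cAlgEquiv : cAlg G Ω ≃ₗ[ℂ] ((Pp G Ω).linHom (Pp G Ω)).invariants where
  toFun A := ⟨A.1, fun g => by
    rw [Representation.linHom_apply]
    show Pp G Ω g * (A.1 * Pp G Ω g⁻¹) = A.1
    rw [← mul_assoc, mem_cAlg.1 A.2 g, mul_assoc, ← map_mul, mul_inv_cancel, map_one, mul_one]⟩
  invFun T := ⟨T.1, mem_cAlg.2 fun g => by
    have h : Pp G Ω g * (T.1 * Pp G Ω g⁻¹) = T.1 := by
      have := T.2 g; rwa [Representation.linHom_apply] at this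
    conv_rhs => rw [← h]
    rw [mul_assoc, mul_assoc, ← map_mul, inv_mul_cancel, map_one, mul_one]⟩
  map_add' A B := rfl
  map_smul' c A := rfl
  left_inv A := rfl
  right_inv T := rfl

theorem finrank_cAlg :
    (finrank ℂ (cAlg G Ω) : ℂ) = Cfsg.classInner (permChar G Ω) (permChar G Ω) := by
  have : Invertible (Nat.card G : ℂ) := (CharCore.invertibleCard (G := G)).some
  rw [(cAlgEquiv (G := G) (Ω := Ω)).finrank_eq,
    ← Representation.card_inv_mul_sum_char_eq_finrank,
    CharCore.classInner_eq_inv _ (isCharacter_permChar G Ω)]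
  congr 1
  exact Finset.sum_congr rfl fun g _ => by rw [Representation.char_linHom, permChar_eq, mul_comm]

/-- The centraliser algebra is the product of the endomorphism algebras. -/
theorem mAct_bijective :
    Function.Bijective fun (A : cAlg G Ω) (χ : Cfsg.IrrCharacter G) => mAct (irrRep χ) A := by
  let Ψ : cAlg G Ω →ₗ[ℂ] ((χ : Cfsg.IrrCharacter G) → Module.End ℂ (mSp Ω (irrRep χ))) :=
    LinearMap.pi fun χ => (mAct (irrRep χ)).toLinearMap
  have hinj : Function.Injective Ψ := fun A B h => cAlg_ext fun χ => congrFun h χ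
  have hdim : finrank ℂ (cAlg G Ω) =
      finrank ℂ ((χ : Cfsg.IrrCharacter G) → Module.End ℂ (mSp Ω (irrRep χ))) := by
    rw [Module.finrank_pi_fintype]
    apply Nat.cast_injective (R := ℂ)
    rw [finrank_cAlg, Nat.cast_sum]
    conv_lhs => rw [CharCore.IsCharacter.eq_sum_classInner (isCharacter_permChar G Ω),
      CharCore.classInner_sum_sum]
    refine Finset.sum_congr rfl fun χ _ => ?_
    rw [Module.finrank_linearMap, Nat.cast_mul, finrank_mSp, irrRep_char, CharCore.conj_classInner]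
    obtain ⟨k, hk⟩ := CharCore.IsCharacter.exists_classInner_irr_eq_natCast
      (isCharacter_permChar G Ω) χ
    rw [← CharCore.conj_classInner (permChar G Ω), hk, map_natCast]
  have hs : Function.Surjective Ψ :=
    LinearMap.range_eq_top.1
      (Submodule.eq_top_of_finrank_eq ((LinearMap.finrank_range_of_inj hinj).trans hdim))
  exact ⟨hinj, hs⟩

theorem mult_mSp (χ : Cfsg.IrrCharacter G) :
    Cfsg.classInner (permChar G Ω) (χ : G → ℂ) = (finrank ℂ (mSp Ω (irrRep χ)) : ℂ) := by
  rw [finrank_mSp, irrRep_char]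

theorem classInner_trFun_eq_zero {A : cAlg G Ω} {χ : Cfsg.IrrCharacter G}
    (h : Cfsg.classInner (permChar G Ω) (χ : G → ℂ) = 0) :
    Cfsg.classInner (trFun G Ω A) (χ : G → ℂ) = 0 := by
  rw [← irrRep_char χ, ← trace_mAct]
  have : Subsingleton (mSp Ω (irrRep χ)) :=
    Module.finrank_zero_iff.1 (by rw [mult_mSp] at h; exact_mod_cast h)
  rw [Subsingleton.elim (mAct (irrRep χ) A) 0, map_zero]

end Cfsg.Agent.PermB
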