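import Cfsg.Agent.PermB.Support
import Mathlib.GroupTheory.Sylow

/-!
Jordan's theorem on primitive groups containing a cycle of prime length.
-/

set_option autoImplicit false

namespace Cfsg.Agent.PermB

open MulAction Equiv
open scoped Pointwise

theorem jordan_prime_cycle {α : Type*} [Fintype α] [DecidableEq α] (G : Subgroup (Perm α))
    (hG : IsPreprimitive G α) {p : ℕ} (hp : p.Prime) (hpn : p + 3 ≤ Fintype.card α)
    {g : Perm α} (hgc : g.IsCycle) (hgp : g.support.card = p) (hg : g ∈ G) :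
    alternatingGroup α ≤ G := by
  classical
  by_cases hp3 : p = 3
  · exact alternating_le_of_small_support G hG hg hgc.ne_one (by omega)
  haveI : Fact p.Prime := ⟨hp⟩
  set Γ : Finset α := g.supportᶜ with hΓ
  have hΓc : Γ.card + p = Fintype.card α := by
    rw [hΓ, Finset.card_compl, hgp]; omega
  have hΓset : ((g.support : Set α)ᶜ).ncard = Γ.card := by
    rw [← Finset.coe_compl, Set.ncard_coe_finset]
  haveI htr := Perm.isPretransitive_of_isCycle_mem hgc hg
  set K := fixingSubgroup G ((g.support : Set α)ᶜ) with hK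
  have hcardΔ : Nat.card (SubMulAction.ofFixingSubgroup G ((g.support : Set α)ᶜ)) = p := by
    rw [Nat.card_eq_fintype_card, Fintype.card_subtype, ← hgp]
    apply congr_arg
    ext x
    simp [SubMulAction.mem_ofFixingSubgroup_iff]
  haveI : IsPreprimitive K (SubMulAction.ofFixingSubgroup G ((g.support : Set α)ᶜ)) :=
    IsPreprimitive.of_prime_card (by rw [hcardΔ]; exact hp)
  obtain ⟨n, hn⟩ : ∃ n, Γ.card = n + 1 := ⟨Γ.card - 1, by omega⟩
  have hmp := hG.isMultiplyPreprimitive (hΓset.trans hn)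
    (by rw [Nat.card_eq_fintype_card]; have := hp.two_le; omega) this
  have hmt : IsMultiplyPretransitive G α (n + 2) :=
    IsMultiplyPreprimitive.isMultiplyPretransitive ..
  obtain ⟨a, b, c, ha, hb, hc, hab, hac, hbc⟩ :=
    Finset.two_lt_card_iff.mp (show 2 < Γ.card by omega)
  have hnot : ∀ x, x ∈ Γ ↔ g x = x := fun x => by simp [hΓ]
  -- elements normalising the cycle with prescribed effect on the fixed points
  have hfac : (Nat.card K).factorization p = 1 := by
    have hinj : Function.Injective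
        (MulAction.toPermHom K (SubMulAction.ofFixingSubgroup G ((g.support : Set α)ᶜ))) := by
      rw [injective_iff_map_eq_one]
      intro k hk
      apply Subtype.ext
      apply Subtype.ext
      ext x
      by_cases hx : x ∈ g.support
      · have h2 := congrArg (fun e : Perm _ => ((e ⟨x, by
          simp [SubMulAction.mem_ofFixingSubgroup_iff, Perm.mem_support.mp hx]⟩ :
            SubMulAction.ofFixingSubgroup G ((g.support : Set α)ᶜ)) : α)) hk
        exact h2
      · exact (mem_fixingSubgroup_iff G).mp k.2 x (by simpa using hx)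
    have hdvd : Nat.card K ∣ p.factorial := by
      have := Subgroup.card_dvd_of_injective _ hinj
      rwa [Nat.card_perm, hcardΔ] at this
    have hfix : (⟨g, hg⟩ : G) ∈ K := by
      rw [hK, mem_fixingSubgroup_iff]
      intro y hy
      show g y = y
      simpa using hy
    have hpK : p ∣ Nat.card K := by
      have h2 : orderOf (⟨⟨g, hg⟩, hfix⟩ : K) = p := by
        rw [← Subgroup.orderOf_coe, ← Subgroup.orderOf_coe]
        exact hgc.orderOf.trans hgp
      rw [← h2]
      exact orderOf_dvd_natCard _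
    have h1 := hp.factorization_pos_of_dvd Nat.card_pos.ne' hpK
    have h2 := (Nat.factorization_le_iff_dvd Nat.card_pos.ne' (Nat.factorial_ne_zero p)).mpr hdvd p
    have h3 : p.factorial.factorization p = 1 := by
      obtain ⟨m, hm⟩ : ∃ m, p = m + 1 := ⟨p - 1, by have := hp.pos; omega⟩
      have hnd : ¬ p ∣ m.factorial := by rw [hp.dvd_factorial]; omega
      rw [show p.factorial = p * m.factorial by rw [hm, Nat.factorial_succ],
        Nat.factorization_mul hp.ne_zero (Nat.factorial_ne_zero m), Finsupp.add_apply,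
        Nat.Prime.factorization_self hp, Nat.factorization_eq_zero_of_not_dvd hnd]
    omega
  have hnorm : ∀ σ : Perm α, (∀ z, z ∈ Γ ↔ σ z ∈ Γ) → ∃ u ∈ G, (∀ z ∈ Γ, u z = σ z) ∧
      u * g * u⁻¹ ∈ Subgroup.zpowers g := by
    intro σ hσ
    obtain ⟨u, hu⟩ := exists_extend hmt (by have := hp.two_le; omega) Γ (by omega) σ σ.injective.injOn
    have hu' : ∀ z ∈ Γ, (u : Perm α) z = σ z := hu
    have huΓ : ∀ z ∈ Γ, (u : Perm α)⁻¹ z ∈ Γ := by
      intro z hz
      have h1 : σ⁻¹ z ∈ Γ := (hσ _).mpr (by simpa using hz)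
      have h2 : (u : Perm α) (σ⁻¹ z) = z := by rw [hu' _ h1]; simp
      rw [← h2]
      simpa using h1
    have hgK : (⟨g, hg⟩ : G) ∈ K := by
      rw [hK, mem_fixingSubgroup_iff]
      intro y hy
      show g y = y
      simpa using hy
    have hcK : u * ⟨g, hg⟩ * u⁻¹ ∈ K := by
      rw [hK, mem_fixingSubgroup_iff]
      intro y hy
      show (u : Perm α) (g ((u : Perm α)⁻¹ y)) = y
      have hy' : y ∈ Γ := by simpa [hΓ] using hy
      rw [(hnot _).mp (huΓ y hy')]
      simp
    set x : K := ⟨⟨g, hg⟩, hgK⟩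
    set y : K := ⟨u * ⟨g, hg⟩ * u⁻¹, hcK⟩
    have hx : orderOf x = p := by
      rw [← Subgroup.orderOf_coe, ← Subgroup.orderOf_coe]
      exact hgc.orderOf.trans hgp
    have hy : orderOf y = p := by
      rw [← hx, ← Subgroup.orderOf_coe y, ← Subgroup.orderOf_coe x]
      exact (orderOf_injective (MulAut.conj u).toMonoidHom (MulAut.conj u).injective _)
    obtain ⟨k, hk⟩ := MulAction.exists_smul_eq K
      (Sylow.ofCard (Subgroup.zpowers y) (by rw [Nat.card_zpowers, hy, hfac, pow_one]))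
      (Sylow.ofCard (Subgroup.zpowers x) (by rw [Nat.card_zpowers, hx, hfac, pow_one]))
    have hmem : k * y * k⁻¹ ∈ Subgroup.zpowers x := by
      have h1 := congrArg (fun P : Sylow p K => (P : Subgroup K)) hk
      simp only [Sylow.coe_subgroup_smul] at h1
      have h2 := Subgroup.smul_mem_pointwise_smul y (MulAut.conj k) _ (Subgroup.mem_zpowers y)
      have h3 : MulAut.conj k • y ∈ (MulAut.conj k • Subgroup.zpowers y : Subgroup K) := h2
      have h4 : (MulAut.conj k • Subgroup.zpowers y : Subgroup K) = Subgroup.zpowers x := h1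
      rw [h4] at h3
      simpa using h3
    refine ⟨((k : G) : Perm α) * u, G.mul_mem (k : G).2 u.2, fun z hz => ?_, ?_⟩
    · show ((k : G) : Perm α) ((u : Perm α) z) = σ z
      rw [hu' z hz]
      exact (mem_fixingSubgroup_iff G).mp k.2 _ (by simpa [hΓ] using (hσ z).mp hz)
    · obtain ⟨i, hi⟩ := hmem
      refine ⟨i, ?_⟩
      have h2 := congrArg (fun w : K => ((w : G) : Perm α)) hi
      simp [x, y] at h2
      simp only [h2]
      group
  have hswap : ∀ i j, i ∈ Γ → j ∈ Γ → ∀ z, z ∈ Γ ↔ Equiv.swap i j z ∈ Γ := by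
    intro i j hi hj z
    rcases eq_or_ne z i with rfl | hzi
    · simp [hi, hj]
    rcases eq_or_ne z j with rfl | hzj
    · simp [hi, hj]
    · rw [Equiv.swap_apply_of_ne_of_ne hzi hzj]
  obtain ⟨u, huG, huΓ, ⟨i, hi⟩⟩ := hnorm _ (hswap b a hb ha)
  obtain ⟨v, hvG, hvΓ, ⟨j, hj⟩⟩ := hnorm _ (hswap b c hb hc)
  have hi' : u * g * u⁻¹ = g ^ i := hi.symm
  have hj' : v * g * v⁻¹ = g ^ j := hj.symm
  set w : Perm α := (v * u)⁻¹ * (u * v) with hw
  have hcomm : w * g = g * w := by
    have e1 : (u * v) * g * (u * v)⁻¹ = g ^ (i * j) := by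
      rw [show (u * v) * g * (u * v)⁻¹ = u * (v * g * v⁻¹) * u⁻¹ by group, hj', ← conj_zpow,
        hi', ← zpow_mul]
    have e2 : (v * u) * g * (v * u)⁻¹ = g ^ (i * j) := by
      rw [show (v * u) * g * (v * u)⁻¹ = v * (u * g * u⁻¹) * v⁻¹ by group, hi', ← conj_zpow,
        hj', ← zpow_mul, mul_comm]
    calc w * g = (v * u)⁻¹ * ((u * v) * g * (u * v)⁻¹) * (u * v) := by rw [hw]; group
      _ = (v * u)⁻¹ * ((v * u) * g * (v * u)⁻¹) * (u * v) := by rw [e1, e2]
      _ = g * w := by rw [hw]; group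
  set σ : Perm α := Equiv.swap b a * Equiv.swap b c with hσdef
  have hσΓ : ∀ z ∈ Γ, σ z ∈ Γ := fun z hz =>
    (hswap b a hb ha _).mp ((hswap b c hb hc z).mp hz)
  have huv : ∀ z ∈ Γ, (u * v) z = σ z := by
    intro z hz
    rw [hσdef, Perm.mul_apply, Perm.mul_apply, hvΓ z hz, huΓ _ ((hswap b c hb hc z).mp hz)]
  have hvuinv : ∀ z ∈ Γ, (v * u)⁻¹ z = σ z := by
    intro z hz
    rw [Perm.inv_eq_iff_eq]
    have h1 : σ z ∈ Γ := hσΓ z hz
    rw [Perm.mul_apply, huΓ _ h1, hvΓ _ ((hswap b a hb ha _).mp h1), hσdef]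
    simp
  have hwΓ : ∀ z ∈ Γ, w z = (σ ^ 2) z := by
    intro z hz
    rw [hw, Perm.mul_apply, huv z hz, hvuinv _ (hσΓ z hz), pow_two, Perm.mul_apply]
    try (rw [hσdef]; rfl)
  have hσ2Γ : ∀ (m : ℕ), ∀ z ∈ Γ, (w ^ m) z = ((σ ^ 2) ^ m) z ∧ ((σ ^ 2) ^ m) z ∈ Γ := by
    intro m
    induction m with
    | zero => intro z hz; exact ⟨rfl, hz⟩
    | succ m ih =>
      intro z hz
      have h1 : (σ ^ 2) z ∈ Γ := by
        rw [pow_two, Perm.mul_apply]; exact hσΓ _ (hσΓ z hz)
      rw [show (w ^ (m + 1)) z = (w ^ m) (w z) by rw [pow_succ]; rfl,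
        show ((σ ^ 2) ^ (m + 1)) z = ((σ ^ 2) ^ m) ((σ ^ 2) z) by rw [pow_succ]; rfl, hwΓ z hz]
      exact ih _ h1
  have hΔfix : ∀ z, z ∉ Γ → (w ^ p) z = z := by
    intro z hz
    have hgz : g z ≠ z := fun e => hz ((hnot z).mpr e)
    have hgw : g (w z) ≠ w z := by
      intro e
      apply hgz
      have h1 : w (g z) = g (w z) := congrArg (fun f : Perm α => f z) hcomm
      rw [e] at h1
      exact w.injective h1
    obtain ⟨m, hm⟩ := hgc.exists_zpow_eq hgz hgw
    have hc1 : Commute w g := hcomm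
    have hall : ∀ q : ℕ, (w ^ q) z = (g ^ (m * q)) z := by
      intro q
      induction q with
      | zero => simp
      | succ q ih =>
        rw [pow_succ', Perm.mul_apply, ih]
        have h1 : w ((g ^ (m * (q : ℤ))) z) = (g ^ (m * (q : ℤ))) (w z) :=
          congrArg (fun f : Perm α => f z) ((hc1.zpow_right (m * (q : ℤ))).eq)
        rw [h1, ← hm, ← Perm.mul_apply, ← zpow_add]
        congr 2
        push_cast
        ring
    rw [hall, mul_comm, zpow_mul, zpow_natCast]
    have h1 : g ^ p = 1 := by rw [← hgp, ← hgc.orderOf]; exact pow_orderOf_eq_one g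
    rw [h1, one_zpow, Perm.one_apply]
  have h3 : σ.IsThreeCycle := Perm.isThreeCycle_swap_mul_swap_same (Ne.symm hab) hbc hac
  have hne : (σ ^ 2) ^ p ≠ 1 := by
    rw [← pow_mul]
    intro e
    have h4 := orderOf_dvd_of_pow_eq_one e
    rw [h3.orderOf] at h4
    rcases (Nat.Prime.dvd_mul Nat.prime_three).mp h4 with h5 | h5
    · exact absurd (Nat.le_of_dvd (by norm_num) h5) (by norm_num)
    · exact hp3 (((Nat.prime_dvd_prime_iff_eq Nat.prime_three hp).mp h5).symm)
  have hout : ∀ z, z ≠ a → z ≠ b → z ≠ c → σ z = z := by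
    intro z h1 h2 h4
    rw [hσdef, Perm.mul_apply, Equiv.swap_apply_of_ne_of_ne h2 h4,
      Equiv.swap_apply_of_ne_of_ne h2 h1]
  have hwp : w ^ p = (σ ^ 2) ^ p := by
    ext z
    by_cases hz : z ∈ Γ
    · exact (hσ2Γ p z hz).1
    · rw [hΔfix z hz]
      have : σ z = z := hout z (fun e => hz (e ▸ ha)) (fun e => hz (e ▸ hb)) (fun e => hz (e ▸ hc))
      rw [← pow_mul, Perm.pow_apply_eq_self_of_apply_eq_self this]
  apply alternating_le_of_small_support G hG (u := w ^ p)
    (G.pow_mem (G.mul_mem (G.inv_mem (G.mul_mem hvG huG)) (G.mul_mem huG hvG)) _)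
  · rwa [hwp]
  · rw [hwp, ← pow_mul]
    exact (Finset.card_le_card (Perm.support_pow_le σ _)).trans (le_of_eq h3.card_support)

end Cfsg.Agent.PermB
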