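import Mathlib.GroupTheory.GroupAction.Jordan
import Mathlib.GroupTheory.Perm.Support
import Mathlib.GroupTheory.Perm.Cycle.Type

/-!
Elements of small support in multiply transitive groups (Wielandt 15.1).
-/

set_option autoImplicit false

namespace Cfsg.Agent.PermB

open MulAction Equiv

/-- In a `k`-transitive group any injective map on at most `k` points is induced. -/
theorem exists_extend {G α : Type*} [Group G] [MulAction G α] [Fintype α] {k : ℕ}
    (hG : IsMultiplyPretransitive G α k) (hkn : k ≤ Fintype.card α) (T : Finset α)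
    (hT : T.card ≤ k) (f : α → α) (hf : Set.InjOn f T) :
    ∃ g : G, ∀ z ∈ T, g • z = f z := by
  haveI := hG
  have hT' : IsMultiplyPretransitive G α T.card :=
    isMultiplyPretransitive_of_le hT (by rwa [Nat.card_eq_fintype_card])
  rw [isMultiplyPretransitive_iff] at hT'
  let x : Fin T.card ↪ α := (T.equivFin.symm.toEmbedding).trans (Function.Embedding.subtype _)
  let y : Fin T.card ↪ α :=
    ⟨fun i => f (x i), fun i j h => x.injective (hf (T.equivFin.symm i).2 (T.equivFin.symm j).2 h)⟩
  obtain ⟨g, hg⟩ := hT' x y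
  refine ⟨g, fun z hz => ?_⟩
  have h1 : g • x (T.equivFin ⟨z, hz⟩) = y (T.equivFin ⟨z, hz⟩) :=
    congrFun (congrArg DFunLike.coe hg) _
  simpa [x, y] using h1

variable {α : Type*} [Fintype α] [DecidableEq α]

/-- A set of any size inside the support with at most one exit. -/
theorem exists_chain (g : Perm α) {j : ℕ} (hj : j ≤ g.support.card) :
    ∃ T ⊆ g.support, T.card = j ∧
      ∀ z ∈ T, ∀ z' ∈ T, g z ∉ T → g z' ∉ T → z = z' := by
  induction j with
  | zero => exact ⟨∅, by simp, rfl, by simp⟩
  | succ j ih =>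
    obtain ⟨T, hTs, hTc, hT⟩ := ih (by omega)
    by_cases hex : ∃ t ∈ T, g t ∉ T
    · obtain ⟨t, ht, hgt⟩ := hex
      have key : ∀ z ∈ insert (g t) T, g z ∉ insert (g t) T → z = g t := by
        intro z hz hgz
        simp only [Finset.mem_insert, not_or] at hz hgz
        rcases hz with h | h
        · exact h
        · exact absurd (congrArg g (hT z h t ht hgz.2 hgt)) hgz.1
      refine ⟨insert (g t) T, Finset.insert_subset ?_ hTs,
        by rw [Finset.card_insert_of_notMem hgt, hTc],
        fun z hz z' hz' h h' => (key z hz h).trans (key z' hz' h').symm⟩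
      exact Perm.apply_mem_support.mpr (hTs ht)
    · obtain ⟨x, hx, hxT⟩ : ∃ x ∈ g.support, x ∉ T :=
        Finset.exists_mem_notMem_of_card_lt_card (by omega)
      have key : ∀ z ∈ insert x T, g z ∉ insert x T → z = x := by
        intro z hz hgz
        simp only [Finset.mem_insert, not_or] at hz hgz
        rcases hz with h | h
        · exact h
        · exact absurd ⟨z, h, hgz.2⟩ hex
      exact ⟨insert x T, Finset.insert_subset hx hTs,
        by rw [Finset.card_insert_of_notMem hxT, hTc],
        fun z hz z' hz' h h' => (key z hz h).trans (key z' hz' h').symm⟩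

/-- The support of a commutator `g⁻¹ (h g h⁻¹)`, with `U` bounding both supports and `Z` points
where `g` and its conjugate agree. -/
theorem card_support_quotient (g h : Perm α) (U Z : Finset α) (h1 : g.support ⊆ U)
    (h2 : ∀ z, g z ≠ z → h z ∈ U) (hZ : ∀ z ∈ Z, z ∈ U ∧ h z = z ∧ h (g z) = g z) :
    (g⁻¹ * (h * g * h⁻¹)).support.card ≤ U.card - Z.card := by
  rw [← Finset.card_sdiff_of_subset (fun z hz => (hZ z hz).1)]
  apply Finset.card_le_card
  intro z hz
  rw [Perm.mem_support] at hz
  rw [Finset.mem_sdiff]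
  constructor
  · by_contra hzU
    apply hz
    have e1 : g z = z := Perm.notMem_support.mp (fun m => hzU (h1 m))
    have e2 : g (h⁻¹ z) = h⁻¹ z := by
      by_contra e
      exact hzU (by simpa using h2 _ e)
    have e3 : g⁻¹ z = z := Perm.inv_eq_iff_eq.mpr e1.symm
    simp only [Perm.mul_apply, e2]
    simpa using e3
  · intro hzZ
    obtain ⟨_, e1, e2⟩ := hZ z hzZ
    apply hz
    have e3 : h⁻¹ z = z := Perm.inv_eq_iff_eq.mpr e1.symm
    simp [Perm.mul_apply, e3, e2]

theorem exists_smaller_support (G : Subgroup (Perm α)) {k : ℕ} (hkn : k ≤ Fintype.card α)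
    (hG : IsMultiplyPretransitive G α k) (g : Perm α) (hg : g ∈ G)
    (h4 : 4 ≤ g.support.card) (hk : g.support.card < 2 * k - 2) :
    ∃ u ∈ G, u ≠ 1 ∧ u.support.card < g.support.card := by
  set S := g.support
  have conc : ∀ h : G, ∀ (U Z : Finset α), S ⊆ U → (∀ z, g z ≠ z → (h : Perm α) z ∈ U) →
      (∀ z ∈ Z, z ∈ U ∧ (h : Perm α) z = z ∧ (h : Perm α) (g z) = g z) →
      U.card - Z.card < S.card →
      (∃ z, (h : Perm α) (g z) ≠ g ((h : Perm α) z)) →
      ∃ u ∈ G, u ≠ 1 ∧ u.support.card < S.card := by
    intro h U Z h1 h2 hZ hlt hne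
    refine ⟨g⁻¹ * ((h : Perm α) * g * (h : Perm α)⁻¹),
      G.mul_mem (G.inv_mem hg) (G.mul_mem (G.mul_mem h.2 hg) (G.inv_mem h.2)), ?_,
      (card_support_quotient g h U Z h1 h2 hZ).trans_lt hlt⟩
    intro e
    obtain ⟨z, hz⟩ := hne
    apply hz
    rw [inv_mul_eq_one] at e
    conv_rhs => rw [e]
    simp [Perm.mul_apply]
  by_cases hmk : S.card ≤ k
  · by_cases hfull : S.card = Fintype.card α
    · obtain ⟨x, y, hxy⟩ := Finset.one_lt_card_iff.mp (by omega : 1 < S.card)
      obtain ⟨h, hh⟩ := exists_extend hG hkn Finset.univ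
        (by rw [Finset.card_univ]; omega) (Equiv.swap x y) (Equiv.injective _).injOn
      have e : (h : Perm α) = Equiv.swap x y := Equiv.ext fun z => hh z (Finset.mem_univ z)
      refine ⟨_, h.2, ?_, ?_⟩
      · rw [e, Ne, Equiv.swap_eq_one_iff]; exact hxy.2.2
      · rw [e, Perm.card_support_swap hxy.2.2]; omega
    obtain ⟨y, hy⟩ : ∃ y, y ∉ S := by
      by_contra hc
      exact hfull (by rw [show S = Finset.univ from Finset.eq_univ_of_forall
        fun z => not_not.mp fun e => hc ⟨z, e⟩, Finset.card_univ])
    obtain ⟨x, hx⟩ := Finset.card_pos.mp (by omega : 0 < S.card)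
    obtain ⟨h, hh⟩ := exists_extend hG hkn S hmk (fun z => if z = x then y else z) (by
      intro a ha b hb e
      simp only at e
      split_ifs at e with h1 h2 h2
      · rw [h1, h2]
      · exact absurd (e ▸ hb) hy
      · exact absurd (e ▸ ha) hy
      · exact e)
    set Z := S.filter (fun z => z ≠ x ∧ g z ≠ x) with hZ
    have hh' : ∀ z ∈ S, z ≠ x → (h : Perm α) z = z := fun z hz hne => by
      have := hh z hz
      simpa [hne, Subgroup.smul_def] using this
    have hhx : (h : Perm α) x = y := by
      have := hh x hx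
      simpa [Subgroup.smul_def] using this
    apply conc h (insert y S) Z (Finset.subset_insert _ _)
    · intro z hz
      have hzS : z ∈ S := Perm.mem_support.mpr hz
      rcases eq_or_ne z x with rfl | hne
      · rw [hhx]; exact Finset.mem_insert_self _ _
      · rw [hh' z hzS hne]; exact Finset.mem_insert_of_mem hzS
    · intro z hz
      simp only [hZ, Finset.mem_filter] at hz
      exact ⟨Finset.mem_insert_of_mem hz.1, hh' z hz.1 hz.2.1,
        hh' _ (Perm.apply_mem_support.mpr hz.1) hz.2.2⟩
    · have hsub : S \ {x, g⁻¹ x} ⊆ Z := by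
        intro z hz
        simp only [Finset.mem_sdiff, Finset.mem_insert, Finset.mem_singleton, not_or] at hz
        simp only [hZ, Finset.mem_filter]
        exact ⟨hz.1, hz.2.1, fun e => hz.2.2 (Perm.eq_inv_iff_eq.mpr e)⟩
      have h1 := Finset.card_le_card hsub
      have h2 := Finset.le_card_sdiff {x, g⁻¹ x} S
      have h3 : ({x, g⁻¹ x} : Finset α).card ≤ 2 := Finset.card_le_two
      rw [Finset.card_insert_of_notMem hy]
      omega
    · refine ⟨x, ?_⟩
      rw [hhx]
      have hgy : g y = y := Perm.notMem_support.mp hy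
      rw [hgy]
      intro e
      have hgx : g x ∈ S := Perm.apply_mem_support.mpr hx
      rw [hh' (g x) hgx (Perm.mem_support.mp hx)] at e
      exact hy (e ▸ hgx)
  push Not at hmk
  obtain ⟨T, hTS, hTc, hT⟩ := exists_chain g (j := k - 1) (show k - 1 ≤ S.card by omega)
  replace hTS : T ⊆ S := hTS
  -- move one point outside a given `(k - 1)`-set
  have mk : ∀ (T : Finset α), T.card = k - 1 → ∀ x, x ∉ T → ∀ y, y ∉ T →
      ∃ h : G, (∀ z ∈ T, (h : Perm α) z = z) ∧ (h : Perm α) x = y := by
    intro T hT x hx y hy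
    obtain ⟨h, hh⟩ := exists_extend hG hkn (insert x T)
      (by rw [Finset.card_insert_of_notMem hx, hT]; omega) (fun z => if z = x then y else z) (by
      intro a ha b hb e
      rw [Finset.mem_coe, Finset.mem_insert] at ha hb
      simp only at e
      split_ifs at e with h1 h2 h2
      · rw [h1, h2]
      · rcases hb with h | h
        · exact absurd h h2
        · exact absurd (e ▸ h) hy
      · rcases ha with h | h
        · exact absurd h h1
        · exact absurd (e ▸ h) hy
      · exact e)
    refine ⟨h, fun z hz => ?_, ?_⟩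
    · have h2 := hh z (Finset.mem_insert_of_mem hz)
      have hne : z ≠ x := fun e => hx (e ▸ hz)
      simpa [hne, Subgroup.smul_def] using h2
    · simpa [Subgroup.smul_def] using hh x (Finset.mem_insert_self _ _)
  by_cases hex : ∃ t ∈ T, g t ∉ T
  · obtain ⟨t, ht, hgt⟩ := hex
    set x := g t
    have hx : x ∈ S := Perm.apply_mem_support.mpr (hTS ht)
    have hrest : 0 < ((S \ T).erase x).card := by
      rw [Finset.card_erase_of_mem (Finset.mem_sdiff.mpr ⟨hx, hgt⟩),
        Finset.card_sdiff_of_subset hTS]
      omega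
    obtain ⟨y, hy⟩ := Finset.card_pos.mp hrest
    rw [Finset.mem_erase, Finset.mem_sdiff] at hy
    obtain ⟨h, hfixT, hhx⟩ := mk T hTc x hgt y hy.2.2
    set U := S ∪ ((S \ T).erase x).image (h : Perm α) with hU
    apply conc h U (T.erase t) Finset.subset_union_left
    · intro z hz
      have hzS : z ∈ S := Perm.mem_support.mpr hz
      by_cases hzT : z ∈ T
      · rw [hfixT z hzT]; exact Finset.mem_union_left _ hzS
      · rcases eq_or_ne z x with rfl | hne
        · rw [hhx]; exact Finset.mem_union_left _ hy.2.1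
        · exact Finset.mem_union_right _ (Finset.mem_image_of_mem _
            (Finset.mem_erase.mpr ⟨hne, Finset.mem_sdiff.mpr ⟨hzS, hzT⟩⟩))
    · intro z hz
      rw [Finset.mem_erase] at hz
      refine ⟨Finset.mem_union_left _ (hTS hz.2), hfixT z hz.2, hfixT _ ?_⟩
      by_contra e
      exact hz.1 (hT z hz.2 t ht e hgt)
    · have h1 : U.card ≤ S.card + ((S \ T).erase x).card :=
        (Finset.card_union_le _ _).trans (Nat.add_le_add_left Finset.card_image_le _)
      rw [Finset.card_erase_of_mem (Finset.mem_sdiff.mpr ⟨hx, hgt⟩),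
        Finset.card_sdiff_of_subset hTS] at h1
      rw [Finset.card_erase_of_mem ht]
      omega
    · refine ⟨t, ?_⟩
      rw [hfixT t ht, show g t = x from rfl, hhx]
      exact hy.1
  have hclosed : ∀ z ∈ T, g z ∈ T := fun z hz => not_not.mp fun e => hex ⟨z, hz, e⟩
  obtain ⟨x, hx, hxT⟩ : ∃ x ∈ S, x ∉ T :=
    Finset.exists_mem_notMem_of_card_lt_card (by omega)
  by_cases hfull : S.card = Fintype.card α
  · obtain ⟨t0, ht0⟩ := Finset.card_pos.mp (by omega : 0 < T.card)
    set T' := insert x (T.erase t0)
    have hxe : x ∉ T.erase t0 := fun e => hxT (Finset.mem_of_mem_erase e)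
    have hT'c : T'.card = k - 1 := by
      rw [Finset.card_insert_of_notMem hxe, Finset.card_erase_of_mem ht0]; omega
    have ht0' : t0 ∉ T' := by
      simp only [T', Finset.mem_insert, not_or]
      exact ⟨fun e => hxT (e ▸ ht0), Finset.notMem_erase _ _⟩
    obtain ⟨y, hy, hyne⟩ : ∃ y, y ∉ T' ∧ y ≠ t0 := by
      have h1 : (insert t0 T').card < (Finset.univ : Finset α).card := by
        rw [Finset.card_insert_of_notMem ht0', hT'c, Finset.card_univ]; omega
      obtain ⟨y, -, hy⟩ := Finset.exists_mem_notMem_of_card_lt_card h1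
      simp only [Finset.mem_insert, not_or] at hy
      exact ⟨y, hy.2, hy.1⟩
    obtain ⟨h, hfixT, hhx⟩ := mk T' hT'c t0 ht0' y hy
    apply conc h Finset.univ (T'.filter fun z => g z ∈ T') (Finset.subset_univ _)
      (fun z _ => Finset.mem_univ _)
    · intro z hz
      rw [Finset.mem_filter] at hz
      exact ⟨Finset.mem_univ _, hfixT z hz.1, hfixT _ hz.2⟩
    · have hpos : 0 < (T'.filter fun z => g z ∈ T').card := by
        have h2 : ((T.erase t0).filter fun z => g z ≠ t0).Nonempty := by
          rw [← Finset.card_pos]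
          have h3 : (T.erase t0).erase (g⁻¹ t0) ⊆ (T.erase t0).filter fun z => g z ≠ t0 := by
            intro z hz
            rw [Finset.mem_erase] at hz
            exact Finset.mem_filter.mpr ⟨hz.2, fun e => hz.1 (Perm.eq_inv_iff_eq.mpr e)⟩
          have h4 := Finset.card_le_card h3
          have h5 := Finset.pred_card_le_card_erase (a := g⁻¹ t0) (s := T.erase t0)
          rw [Finset.card_erase_of_mem ht0] at h5
          omega
        obtain ⟨z, hz⟩ := h2
        rw [Finset.mem_filter, Finset.mem_erase] at hz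
        refine Finset.card_pos.mpr ⟨z, Finset.mem_filter.mpr ⟨?_, ?_⟩⟩
        · exact Finset.mem_insert_of_mem (Finset.mem_erase.mpr hz.1)
        · exact Finset.mem_insert_of_mem (Finset.mem_erase.mpr ⟨hz.2, hclosed z hz.1.2⟩)
      rw [Finset.card_univ, ← hfull]
      omega
    · refine ⟨g⁻¹ t0, ?_⟩
      have hmem : g⁻¹ t0 ∈ T := by
        have h2 : T.image g = T := Finset.eq_of_subset_of_card_le
          (fun z hz => by obtain ⟨w, hw, rfl⟩ := Finset.mem_image.mp hz; exact hclosed w hw)
          (le_of_eq (Finset.card_image_of_injective _ g.injective).symm)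
        have h3 : t0 ∈ T.image g := by rw [h2]; exact ht0
        obtain ⟨w, hw, hwe⟩ := Finset.mem_image.mp h3
        rw [← hwe]
        simpa using hw
      have hne : g⁻¹ t0 ≠ t0 := by
        intro e
        have := Perm.mem_support.mp (hTS ht0)
        exact this (Perm.inv_eq_iff_eq.mp e).symm
      rw [hfixT _ (Finset.mem_insert_of_mem (Finset.mem_erase.mpr ⟨hne, hmem⟩)),
        show g (g⁻¹ t0) = t0 by simp, hhx]
      exact hyne
  · obtain ⟨y, hy⟩ : ∃ y, y ∉ S := by
      by_contra hc
      exact hfull (by rw [show S = Finset.univ from Finset.eq_univ_of_forall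
        fun z => not_not.mp fun e => hc ⟨z, e⟩, Finset.card_univ])
    obtain ⟨h, hfixT, hhx⟩ := mk T hTc x hxT y (fun e => hy (hTS e))
    set U := insert y (S ∪ ((S \ T).erase x).image (h : Perm α)) with hU
    apply conc h U T (fun z hz => Finset.mem_insert_of_mem (Finset.mem_union_left _ hz))
    · intro z hz
      have hzS : z ∈ S := Perm.mem_support.mpr hz
      by_cases hzT : z ∈ T
      · rw [hfixT z hzT]; exact Finset.mem_insert_of_mem (Finset.mem_union_left _ hzS)
      · rcases eq_or_ne z x with rfl | hne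
        · rw [hhx]; exact Finset.mem_insert_self _ _
        · exact Finset.mem_insert_of_mem (Finset.mem_union_right _ (Finset.mem_image_of_mem _
            (Finset.mem_erase.mpr ⟨hne, Finset.mem_sdiff.mpr ⟨hzS, hzT⟩⟩)))
    · intro z hz
      exact ⟨Finset.mem_insert_of_mem (Finset.mem_union_left _ (hTS hz)), hfixT z hz,
        hfixT _ (hclosed z hz)⟩
    · have h1 : U.card ≤ S.card + ((S \ T).erase x).card + 1 := by
        refine (Finset.card_insert_le _ _).trans (Nat.add_le_add_right ?_ 1)
        exact (Finset.card_union_le _ _).trans (Nat.add_le_add_left Finset.card_image_le _)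
      rw [Finset.card_erase_of_mem (Finset.mem_sdiff.mpr ⟨hx, hxT⟩),
        Finset.card_sdiff_of_subset hTS] at h1
      omega
    · refine ⟨x, ?_⟩
      rw [hhx, Perm.notMem_support.mp hy]
      intro e
      have h2 : g x = x := (h : Perm α).injective (e.trans hhx.symm)
      exact Perm.mem_support.mp hx h2

theorem small_support (G : Subgroup (Perm α)) {k : ℕ} (hkn : k ≤ Fintype.card α)
    (hG : IsMultiplyPretransitive G α k) (g : Perm α) (hg : g ∈ G) (hg1 : g ≠ 1)
    (hsupp : g.support.card < 2 * k - 2) :
    ∃ u ∈ G, u ≠ 1 ∧ u.support.card ≤ 3 := by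
  induction hm : g.support.card using Nat.strong_induction_on generalizing g with
  | h m ih =>
    rcases le_or_gt g.support.card 3 with h | h
    · exact ⟨g, hg, hg1, h⟩
    · obtain ⟨u, hu, hu1, hlt⟩ := exists_smaller_support G hkn hG g hg h hsupp
      exact ih _ (hm ▸ hlt) u hu hu1 (by omega) rfl

theorem alternating_le_of_small_support (G : Subgroup (Perm α)) (hG : IsPreprimitive G α)
    {u : Perm α} (hu : u ∈ G) (hu1 : u ≠ 1) (h3 : u.support.card ≤ 3) :
    alternatingGroup α ≤ G := by
  have h2 : 2 ≤ u.support.card := Perm.two_le_card_support_of_ne_one hu1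
  rcases eq_or_lt_of_le h2 with h | h
  · rw [Perm.subgroup_eq_top_of_isPreprimitive_of_isSwap_mem hG u
      (Perm.card_support_eq_two.mp h.symm) hu]
    exact le_top
  · exact Perm.alternatingGroup_le_of_isPreprimitive_of_isThreeCycle_mem hG
      (card_support_eq_three_iff.mp (by omega)) hu

/-- A `k`-transitive group, `k ≥ 3`, is primitive. -/
theorem isPreprimitive_of_multiply (G : Subgroup (Perm α)) {k : ℕ} (hk : 2 ≤ k)
    (hkn : k ≤ Fintype.card α) (hG : IsMultiplyPretransitive G α k) : IsPreprimitive G α := by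
  haveI := hG
  exact isPreprimitive_of_is_two_pretransitive
    (isMultiplyPretransitive_of_le hk (by rwa [Nat.card_eq_fintype_card]))

end Cfsg.Agent.PermB
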