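import Mathlib

/-!
A characteristically simple finite group is a power of a simple group.
-/

set_option autoImplicit false

namespace Cfsg.Agent.PermB

variable {K : Type*} [Group K]

/-- `M` is a normal subgroup containing `T`, isomorphic to a power of `T`, and normalising every
subgroup that is normalised by `T` and contained in it. -/
structure IsPowerOf (T M : Subgroup K) : Prop where
  normal : M.Normal
  le : T ≤ M
  iso : ∃ m : ℕ, 0 < m ∧ Nonempty (↥M ≃* (Fin m → ↥T))
  normalises : ∀ L : Subgroup K, L ≤ T → T ≤ Subgroup.normalizer (L : Set K) →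
    M ≤ Subgroup.normalizer (L : Set K)

theorem IsPowerOf.self (T : Subgroup K) [hT : T.Normal] : IsPowerOf T T := by
  refine ⟨hT, le_rfl, ⟨1, one_pos, ⟨?_⟩⟩, fun L _ h => h⟩
  exact
    { toFun := fun x _ => x
      invFun := fun f => f 0
      left_inv := fun x => rfl
      right_inv := fun f => funext fun i => by rw [Subsingleton.elim i 0]
      map_mul' := fun x y => rfl }

theorem IsPowerOf.extend {T M T' : Subgroup K} (hM : IsPowerOf T M) [hT' : T'.Normal]
    (hd : T' ⊓ M = ⊥) (e : ↥T' ≃* ↥T) : IsPowerOf T (M ⊔ T') := by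
  haveI := hM.normal
  have hc : ∀ x ∈ M, ∀ y ∈ T', x * y = y * x := fun x hx y hy =>
    Subgroup.commute_of_normal_of_disjoint M T' hM.normal hT'
      (disjoint_iff.2 (by rw [inf_comm]; exact hd)) x y hx hy
  refine ⟨inferInstance, hM.le.trans le_sup_left, ?_, fun L hL h => sup_le (hM.normalises L hL h) ?_⟩
  · obtain ⟨m, -, ⟨f⟩⟩ := hM.iso
    refine ⟨m + 1, Nat.succ_pos m, ?_⟩
    let φ : ↥M × ↥T' →* K :=
      M.subtype.noncommCoprod T'.subtype fun x y => hc x x.2 y y.2
    have hinj : Function.Injective φ :=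
      (MonoidHom.noncommCoprod_injective _ _ _).2
        ⟨M.subtype_injective, T'.subtype_injective, by
          simpa [disjoint_iff, inf_comm] using hd⟩
    have hr : φ.range = M ⊔ T' := by
      exact (MonoidHom.noncommCoprod_range M.subtype T'.subtype _).trans
        (by rw [Subgroup.range_subtype, Subgroup.range_subtype])
    refine ⟨((MulEquiv.subgroupCongr hr.symm).trans (MonoidHom.ofInjective hinj).symm).trans
      ((f.prodCongr e).trans ?_)⟩
    exact
      { toFun := fun p => Fin.snoc p.1 p.2
        invFun := fun g => (Fin.init g, g (Fin.last m))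
        left_inv := fun p => by simp
        right_inv := fun g => Fin.snoc_init_self g
        map_mul' := fun p q => by
          ext i
          induction i using Fin.lastCases <;> simp }
  · refine fun y hy => Subgroup.centralizer_le_normalizer _ ?_
    exact fun x hx => hc x (hM.le (hL hx)) y hy

theorem exists_simple_power [Finite K] [Nontrivial K]
    (hchar : ∀ M : Subgroup K, (∀ φ ∈ (Set.univ : Set (MulAut K)),
      ∀ x ∈ M, (φ : K → K) x ∈ M) → M = ⊥ ∨ M = ⊤) :
    ∃ T : Subgroup K, IsSimpleGroup ↥T ∧ ∃ m : ℕ, 0 < m ∧ Nonempty (K ≃* (Fin m → ↥T)) := by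
  classical
  obtain ⟨T, hT⟩ := Set.Finite.exists_minimal
    (s := {T : Subgroup K | T.Normal ∧ T ≠ ⊥}) (Set.toFinite _)
    ⟨⊤, inferInstance, top_ne_bot⟩
  haveI := hT.1.1
  have hmin : ∀ L : Subgroup K, L.Normal → L ≤ T → L = ⊥ ∨ L = T := fun L hL hle =>
    or_iff_not_imp_left.2 fun h0 => le_antisymm hle (hT.2 ⟨hL, h0⟩ hle)
  obtain ⟨M, hM⟩ := Set.Finite.exists_maximal
    (s := {M : Subgroup K | IsPowerOf T M}) (Set.toFinite _) ⟨T, IsPowerOf.self T⟩
  have hPM : IsPowerOf T M := hM.1
  have hall : ∀ φ : MulAut K, T.map (φ : K →* K) ≤ M := by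
    intro φ
    by_contra hle
    haveI : (T.map (φ : K →* K)).Normal := Subgroup.Normal.map inferInstance _ φ.surjective
    haveI := hPM.normal
    have hd : T.map (φ : K →* K) ⊓ M = ⊥ := by
      rw [← Subgroup.map_comap_eq_self_of_surjective (f := (φ : K →* K)) φ.surjective
        (T.map (φ : K →* K) ⊓ M)]
      have hle' : (T.map (φ : K →* K) ⊓ M).comap (φ : K →* K) ≤ T := by
        refine le_trans (Subgroup.comap_mono inf_le_left) ?_
        rw [Subgroup.comap_map_eq_self_of_injective φ.injective]
      rcases hmin _ (Subgroup.Normal.comap inferInstance _) hle' with h | h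
      · rw [h, Subgroup.map_bot]
      · exfalso
        refine hle (le_trans ?_ (inf_le_right (a := T.map (φ : K →* K))))
        exact Subgroup.map_le_iff_le_comap.2 h.ge
    exact hle (le_sup_right.trans
      (hM.2 (IsPowerOf.extend hPM hd (T.equivMapOfInjective _ φ.injective).symm) le_sup_left))
  have htop : ⨆ φ : MulAut K, T.map (φ : K →* K) = ⊤ := by
    refine (hchar _ fun ψ _ x hx => ?_).resolve_left fun h => ?_
    · have h1 : (⨆ φ : MulAut K, T.map (φ : K →* K)).map (ψ : K →* K) ≤
          ⨆ φ : MulAut K, T.map (φ : K →* K) := by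
        rw [Subgroup.map_iSup]
        refine iSup_le fun φ => le_iSup_of_le (ψ * φ) ?_
        rw [Subgroup.map_map]
        exact le_rfl
      exact h1 (Subgroup.mem_map_of_mem _ hx)
    · refine hT.1.2 (eq_bot_iff.2 (le_trans ?_ h.le))
      refine le_iSup_of_le (1 : MulAut K) ?_
      exact fun x hx => ⟨x, hx, rfl⟩
  have hMtop : M = ⊤ := top_le_iff.1 (htop.ge.trans (iSup_le hall))
  obtain ⟨m, hm, ⟨f⟩⟩ := hPM.iso
  refine ⟨T, ?_, m, hm, ⟨(Subgroup.topEquiv.symm.trans
    (MulEquiv.subgroupCongr hMtop.symm)).trans f⟩⟩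
  haveI : Nontrivial T := (Subgroup.nontrivial_iff_ne_bot T).2 hT.1.2
  refine ⟨fun L hL => ?_⟩
  have hn : T ≤ Subgroup.normalizer ((L.map T.subtype : Subgroup K) : Set K) := by
    haveI := hL
    refine le_trans ?_ (Subgroup.le_normalizer_map T.subtype (H := L))
    rw [Subgroup.normalizer_eq_top, ← MonoidHom.range_eq_map, Subgroup.range_subtype]
  have hLn : (L.map T.subtype).Normal := by
    rw [← Subgroup.normalizer_eq_top_iff]
    exact top_le_iff.1 (hMtop.ge.trans (hPM.normalises _ (Subgroup.map_subtype_le L) hn))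
  rcases hmin _ hLn (Subgroup.map_subtype_le L) with h | h
  · exact Or.inl ((Subgroup.map_eq_bot_iff_of_injective L T.subtype_injective).1 h)
  · refine Or.inr (Subgroup.map_injective T.subtype_injective ?_)
    rw [h, ← MonoidHom.range_eq_map, Subgroup.range_subtype]

end Cfsg.Agent.PermB
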