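import Mathlib

/-!
Finite groups of automorphisms acting regularly on the non-zero elements of an abelian group.
-/

set_option autoImplicit false

namespace Cfsg.Agent.PermB

variable {V : Type*} [AddCommGroup V] [Finite V] {H : Type*} [Group H]

/-- A large subgroup is everything. -/
theorem addSubgroup_eq_top_of_card (W : AddSubgroup V) (h : Nat.card V < 2 * Nat.card W) :
    W = ⊤ := by
  obtain ⟨m, hm⟩ := W.card_addSubgroup_dvd_card
  have hW : 0 < Nat.card W := Nat.card_pos
  have : m = 1 := by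
    rcases m with _ | _ | m
    · simp [Nat.card_pos.ne'] at hm
    · rfl
    · exfalso
      rw [hm] at h
      nlinarith
  exact AddSubgroup.eq_top_of_card_eq W (by rw [hm, this, mul_one])

variable (ρ : H →* AddMonoid.End V) {one : V} (hone : one ≠ 0)
  (hreg : ∀ v : V, v ≠ 0 → ∃! h : H, ρ h one = v)

include hone hreg

omit [Finite V] hone hreg in
theorem rho_ne_zero (h : H) {v : V} (hv : v ≠ 0) : ρ h v ≠ 0 := by
  intro e
  apply hv
  have := congrArg (ρ h⁻¹) e
  rw [map_zero] at this
  change (ρ h⁻¹ * ρ h) v = 0 at this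
  rwa [← map_mul, inv_mul_cancel, map_one] at this

omit [Finite V] hreg in
theorem rho_inj_one (hreg : ∀ v : V, v ≠ 0 → ∃! h : H, ρ h one = v) {h k : H}
    (e : ρ h one = ρ k one) : h = k :=
  (hreg _ (rho_ne_zero ρ h hone)).unique rfl e.symm

theorem card_eq_card_add_one [Finite H] : Nat.card V = Nat.card H + 1 := by
  classical
  have e : H ≃ {v : V // v ≠ 0} := Equiv.ofBijective
    (fun h => ⟨ρ h one, rho_ne_zero ρ h hone⟩)
    ⟨fun h k he => rho_inj_one ρ hone hreg (congrArg Subtype.val he),
      fun v => ⟨(hreg v v.2).choose, Subtype.ext (hreg v v.2).choose_spec.1⟩⟩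
  have := Fintype.ofFinite V
  rw [Nat.card_congr e, Nat.card_eq_fintype_card, Nat.card_eq_fintype_card,
    Fintype.card_subtype_compl, Fintype.card_subtype_eq]
  have : 0 < Fintype.card V := Fintype.card_pos_iff.2 ⟨one⟩
  omega

/-- A subgroup invariant under a subgroup of index at most two is trivial. -/
theorem addSubgroup_invariant [Finite H] (N : Subgroup H) (hN : N.index ≤ 2) (W : AddSubgroup V)
    {w : V} (hw : w ∈ W) (hw0 : w ≠ 0) (hinv : ∀ n ∈ N, ∀ x ∈ W, ρ n x ∈ W) : W = ⊤ := by
  classical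
  have := Fintype.ofFinite V
  obtain ⟨k, hk, -⟩ := hreg w hw0
  apply addSubgroup_eq_top_of_card
  have hinj : Function.Injective fun n : Option N =>
      (n.elim ⟨0, W.zero_mem⟩ fun n => ⟨ρ n w, hinv n n.2 w hw⟩ : W) := by
    intro m m' e
    rcases m with _ | m <;> rcases m' with _ | m'
    · rfl
    · exact absurd (congrArg Subtype.val e).symm (rho_ne_zero ρ _ hw0)
    · exact absurd (congrArg Subtype.val e) (rho_ne_zero ρ _ hw0)
    · have e' : ρ (m : H) w = ρ (m' : H) w := congrArg Subtype.val e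
      rw [← hk] at e'
      have e'' : ρ ((m : H) * k) one = ρ ((m' : H) * k) one := by
        rw [map_mul, map_mul]
        exact e'
      rw [Subtype.ext (mul_right_cancel (rho_inj_one ρ hone hreg e''))]
  have h1 := Nat.card_le_card_of_injective _ hinj
  rw [Finite.card_option] at h1
  have h2 := N.card_mul_index
  have h3 := card_eq_card_add_one ρ hone hreg
  nlinarith

/-- An abelian group acting regularly gives a field. -/
theorem exists_field (hc : ∀ h k : H, h * k = k * h) :
    ∃ (K : Type) (_ : Field K) (_ : Fintype K) (e : V ≃+ K) (μ : H → K),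
      e one = 1 ∧ (∀ h v, e (ρ h v) = μ h * e v) := by
  classical
  let hh : ∀ v : V, v ≠ 0 → H := fun v hv => (hreg v hv).choose
  have hhs : ∀ v hv, ρ (hh v hv) one = v := fun v hv => (hreg v hv).choose_spec.1
  let m : V → V → V := fun v w => if hv : v = 0 then 0 else ρ (hh v hv) w
  have m0 : ∀ w, m 0 w = 0 := fun w => by simp [m]
  have madd : ∀ v w w', m v (w + w') = m v w + m v w' := fun v w w' => by
    by_cases hv : v = 0 <;> simp [m, hv]
  have mzero : ∀ v, m v 0 = 0 := fun v => by by_cases hv : v = 0 <;> simp [m, hv]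
  have mρ : ∀ (h : H) (w : V), m (ρ h one) w = ρ h w := fun h w => by
    have h0 := rho_ne_zero ρ h hone
    simp only [m, dif_neg h0]
    rw [rho_inj_one ρ hone hreg (hhs _ h0)]
  have hrep : ∀ v, v ≠ 0 → ∃ h, v = ρ h one := fun v hv => ⟨_, (hhs v hv).symm⟩
  have mcomm : ∀ v w, m v w = m w v := by
    intro v w
    by_cases hv : v = 0
    · subst hv; rw [m0, mzero]
    by_cases hw : w = 0
    · subst hw; rw [m0, mzero]
    obtain ⟨h, rfl⟩ := hrep v hv
    obtain ⟨k, rfl⟩ := hrep w hw
    rw [mρ, mρ]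
    show (ρ h * ρ k) one = (ρ k * ρ h) one
    rw [← map_mul, ← map_mul, hc]
  have massoc : ∀ u v w, m (m u v) w = m u (m v w) := by
    intro u v w
    by_cases hu : u = 0
    · subst hu; rw [m0, m0, m0]
    by_cases hv : v = 0
    · subst hv; rw [mzero, m0, mzero]
    obtain ⟨h, rfl⟩ := hrep u hu
    obtain ⟨k, rfl⟩ := hrep v hv
    rw [mρ, mρ, mρ, show ρ h (ρ k one) = ρ (h * k) one by rw [map_mul]; rfl, mρ, map_mul]
    rfl
  have mone : ∀ w, m one w = w := fun w => by
    have := mρ 1 w
    rw [map_one] at this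
    exact this
  let iv : V → V := fun v => if hv : v = 0 then 0 else ρ (hh v hv)⁻¹ one
  let R : CommRing V :=
    { (inferInstance : AddCommGroup V) with
      mul := m
      one := one
      mul_assoc := massoc
      one_mul := mone
      mul_one := fun w => (mcomm w one).trans (mone w)
      zero_mul := m0
      mul_zero := mzero
      left_distrib := madd
      right_distrib := fun u v w => by
        show m (u + v) w = m u w + m v w
        rw [mcomm, madd, mcomm w, mcomm w]
      mul_comm := mcomm }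
  have hfield : @IsField V R.toSemiring :=
    { exists_pair_ne := ⟨one, 0, hone⟩
      mul_comm := mcomm
      mul_inv_cancel := fun {v} hv => ⟨iv v, by
        show m v (iv v) = one
        have hv' : iv v = ρ (hh v hv)⁻¹ one := dif_neg hv
        rw [hv']
        refine (congrArg (fun x => m x _) (hhs v hv).symm).trans ?_
        rw [mρ]
        show (ρ (hh v hv) * ρ (hh v hv)⁻¹) one = one
        rw [← map_mul, mul_inv_cancel, map_one]
        rfl⟩ }
  have := Fintype.ofFinite V
  let F : Field V := @IsField.toField V R.toRing hfield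
  let q₀ : {i : Fin (Fintype.card V) // True} ≃ V :=
    (Equiv.subtypeUnivEquiv fun _ => trivial).trans (Fintype.equivFin V).symm
  let FK : Field {i : Fin (Fintype.card V) // True} := q₀.field
  let e : V ≃+ {i : Fin (Fintype.card V) // True} :=
    { q₀.symm with
      map_add' := fun x y => q₀.injective (by
        show q₀ (q₀.symm (x + y)) = q₀ (q₀.symm x + q₀.symm y)
        rw [q₀.apply_symm_apply]
        show x + y = q₀ (q₀.symm (q₀ (q₀.symm x) + q₀ (q₀.symm y)))
        rw [q₀.apply_symm_apply, q₀.apply_symm_apply, q₀.apply_symm_apply]) }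
  refine ⟨_, FK, inferInstance, e, fun h => e (ρ h one), ?_, fun h v => ?_⟩
  · exact q₀.injective ((q₀.apply_symm_apply one).trans (q₀.apply_symm_apply one).symm)
  · refine q₀.injective ((q₀.apply_symm_apply _).trans ?_)
    show ρ h v = q₀ (q₀.symm (m (q₀ (q₀.symm (ρ h one))) (q₀ (q₀.symm v))))
    rw [q₀.apply_symm_apply, q₀.apply_symm_apply, q₀.apply_symm_apply, mρ]

omit [Finite V] hone hreg in
theorem smul_eq_zero_of_card (q : ℕ) (hq : Nat.card V = q) (e : AddMonoid.End V) :
    q • e = 0 := by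
  ext v
  show q • e v = 0
  rw [← hq]
  exact card_nsmul_eq_zero'

/-- If a commutative subgroup of index at most two acts, and the order is an odd power of an odd
prime, the whole group is commutative. -/
theorem comm_of_index_two [Finite H] (N : Subgroup H) [N.Normal] (hN : N.index ≤ 2)
    (hcomm : ∀ x ∈ N, ∀ y ∈ N, x * y = y * x) {p f : ℕ} (hp : p.Prime) (hp2 : p ≠ 2)
    (hf : Odd f) (hV : Nat.card V = p ^ f) : ∀ h k : H, h * k = k * h := by
  classical
  let ι := (fun n : H => ρ n) '' (N : Set H)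
  let E : Subring (AddMonoid.End V) := Subring.closure ι
  have hgen : ∀ n ∈ N, ρ n ∈ E := fun n hn => Subring.subset_closure ⟨n, hn, rfl⟩
  have hEN : ∀ e ∈ E, ∀ n ∈ N, e * ρ n = ρ n * e := by
    intro e he n hn
    induction he using Subring.closure_induction with
    | mem x hx => obtain ⟨m, hm, rfl⟩ := hx; simp only [← map_mul, hcomm m hm n hn]
    | zero => rw [zero_mul, mul_zero]
    | one => rw [one_mul, mul_one]
    | add x y _ _ hx hy => rw [add_mul, mul_add, hx, hy]
    | neg x _ hx => rw [neg_mul, mul_neg, hx]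
    | mul x y _ _ hx hy => rw [mul_assoc, hy, ← mul_assoc, hx, mul_assoc]
  have hEE : ∀ e ∈ E, ∀ e' ∈ E, e * e' = e' * e := by
    intro e he e' he'
    induction he' using Subring.closure_induction with
    | mem x hx => obtain ⟨m, hm, rfl⟩ := hx; exact hEN e he m hm
    | zero => rw [zero_mul, mul_zero]
    | one => rw [one_mul, mul_one]
    | add x y _ _ hx hy => rw [mul_add, add_mul, hx, hy]
    | neg x _ hx => rw [neg_mul, mul_neg, hx]
    | mul x y _ _ hx hy => rw [← mul_assoc, hx, mul_assoc, hy, ← mul_assoc]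
  -- evaluation at `one` is bijective on `E`
  have hsurj : ∀ v : V, ∃ e ∈ E, e one = v := by
    let W : AddSubgroup V :=
      { carrier := {v | ∃ e ∈ E, e one = v}
        zero_mem' := ⟨0, E.zero_mem, rfl⟩
        add_mem' := by rintro x y ⟨e, he, rfl⟩ ⟨e', he', rfl⟩; exact ⟨e + e', E.add_mem he he', rfl⟩
        neg_mem' := by rintro x ⟨e, he, rfl⟩; exact ⟨-e, E.neg_mem he, rfl⟩ }
    have hW : W = ⊤ := addSubgroup_invariant ρ hone hreg N hN W (w := one)
      ⟨1, E.one_mem, rfl⟩ hone
      fun n hn x ⟨e, he, hx⟩ => ⟨ρ n * e, E.mul_mem (hgen n hn) he, by rw [← hx]; rfl⟩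
    intro v
    have : v ∈ W := hW ▸ AddSubgroup.mem_top v
    exact this
  have hker : ∀ e ∈ E, ∀ v, v ≠ 0 → e v = 0 → e = 0 := by
    intro e he v hv0 hv
    let W : AddSubgroup V := AddMonoidHom.ker (e : V →+ V)
    have hW : W = ⊤ := addSubgroup_invariant ρ hone hreg N hN W (w := v) hv hv0
      fun n hn x hx => by
        show e (ρ n x) = 0
        show (e * ρ n) x = 0
        rw [hEN e he n hn]
        show ρ n (e x) = 0
        rw [show e x = 0 from hx, map_zero]
    ext x
    have : x ∈ W := hW ▸ AddSubgroup.mem_top x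
    exact this
  -- conjugation by an element of `H` is trivial on `E`
  have hconj : ∀ (h : H), ∀ e ∈ E, ρ h * e * ρ h⁻¹ ∈ E := by
    intro h e he
    induction he using Subring.closure_induction with
    | mem x hx =>
      obtain ⟨m, hm, rfl⟩ := hx
      simp only [← map_mul]
      exact hgen _ (Subgroup.Normal.conj_mem inferInstance m hm h)
    | zero => rw [mul_zero, zero_mul]; exact E.zero_mem
    | one => rw [mul_one, ← map_mul, mul_inv_cancel, map_one]; exact E.one_mem
    | add x y _ _ hx hy => rw [mul_add, add_mul]; exact E.add_mem hx hy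
    | neg x _ hx => rw [mul_neg, neg_mul]; exact E.neg_mem hx
    | mul x y _ _ hx hy =>
      have : ρ h * (x * y) * ρ h⁻¹ = (ρ h * x * ρ h⁻¹) * (ρ h * y * ρ h⁻¹) := by
        calc ρ h * (x * y) * ρ h⁻¹ = ρ h * x * (ρ h⁻¹ * ρ h) * y * ρ h⁻¹ := by
              rw [← map_mul, inv_mul_cancel, map_one, mul_one]
              simp only [mul_assoc]
          _ = _ := by simp only [mul_assoc]
      rw [this]
      exact E.mul_mem hx hy
  have hfix : ∀ (h : H), ∀ e ∈ E, ρ h * e = e * ρ h := by
    intro h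
    set τ : AddMonoid.End V → AddMonoid.End V := fun e => ρ h * e * ρ h⁻¹ with hτ
    have hτ2 : ∀ e ∈ E, τ (τ e) = e := by
      intro e he
      have h2 : h * h ∈ N := by
        by_cases h1 : N.index = 2
        · exact (Subgroup.mul_mem_iff_of_index_two h1).2 Iff.rfl
        · have : N = ⊤ := Subgroup.index_eq_one.1 (by
            have := N.index_ne_zero_of_finite
            omega)
          rw [this]; exact Subgroup.mem_top _
      show ρ h * (ρ h * e * ρ h⁻¹) * ρ h⁻¹ = e
      calc ρ h * (ρ h * e * ρ h⁻¹) * ρ h⁻¹ = ρ (h * h) * e * ρ (h * h)⁻¹ := by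
            rw [mul_inv_rev, map_mul, map_mul]; simp only [mul_assoc]
        _ = e * ρ (h * h) * ρ (h * h)⁻¹ := by rw [hEN e he _ h2]
        _ = e := by rw [mul_assoc, ← map_mul, mul_inv_cancel, map_one, mul_one]
    suffices hid : ∀ e ∈ E, τ e = e by
      intro e he
      conv_rhs => rw [← hid e he]
      show ρ h * e = ρ h * e * ρ h⁻¹ * ρ h
      rw [mul_assoc _ (ρ h⁻¹), ← map_mul, inv_mul_cancel, map_one, mul_one]
    by_contra hne
    push Not at hne
    obtain ⟨e₀, he₀, hne⟩ := hne
    have τsub : ∀ x y, τ (x - y) = τ x - τ y := fun x y => by simp [τ, mul_sub, sub_mul]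
    have τadd : ∀ x y, τ (x + y) = τ x + τ y := fun x y => by simp [τ, mul_add, add_mul]
    have τmul : ∀ x y, τ (x * y) = τ x * τ y := fun x y => by
      show _ = ρ h * x * ρ h⁻¹ * (ρ h * y * ρ h⁻¹)
      calc ρ h * (x * y) * ρ h⁻¹ = ρ h * x * (ρ h⁻¹ * ρ h) * y * ρ h⁻¹ := by
            rw [← map_mul, inv_mul_cancel, map_one, mul_one]
            simp only [mul_assoc]
        _ = _ := by simp only [mul_assoc]
    set a := e₀ - τ e₀ with ha
    have haE : a ∈ E := E.sub_mem he₀ (hconj h e₀ he₀)
    have haτ : τ a = -a := by rw [ha, τsub, hτ2 e₀ he₀, neg_sub]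
    have ha0 : a ≠ 0 := fun hh => hne (sub_eq_zero.1 hh).symm
    have hcancel : ∀ x ∈ E, ∀ y ∈ E, a * x = a * y → x = y := by
      intro x hx y hy hxy
      refine sub_eq_zero.1 (hker _ (E.sub_mem hx hy) one hone ?_)
      by_contra hne'
      refine ha0 (hker a haE _ hne' ?_)
      show (a * (x - y)) one = 0
      rw [mul_sub, hxy, sub_self]
      rfl
    let Ep : Set (AddMonoid.End V) := {x | x ∈ E ∧ τ x = x}
    let Em : Set (AddMonoid.End V) := {x | x ∈ E ∧ τ x = -x}
    have : Finite (AddMonoid.End V) := Finite.of_injective (fun e => ⇑e) DFunLike.coe_injective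
    have hcardEq : Nat.card Ep = Nat.card Em := by
      refine le_antisymm (Nat.card_le_card_of_injective (fun x => ⟨a * x.1, E.mul_mem haE x.2.1, by
          rw [τmul, haτ, x.2.2, neg_mul]⟩) fun x y hxy => Subtype.ext
            (hcancel _ x.2.1 _ y.2.1 (congrArg Subtype.val hxy)))
        (Nat.card_le_card_of_injective (fun x => ⟨a * x.1, E.mul_mem haE x.2.1, by
          rw [τmul, haτ, x.2.2, neg_mul_neg]⟩) fun x y hxy => Subtype.ext
            (hcancel _ x.2.1 _ y.2.1 (congrArg Subtype.val hxy)))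
    obtain ⟨j, hj⟩ : Odd (p ^ f) := (hp.odd_of_ne_two hp2).pow
    have hq0 : ∀ e : AddMonoid.End V, (2 * j + 1) • e = 0 := fun e =>
      smul_eq_zero_of_card _ (hV.trans hj) e
    have hhalf : ∀ x : AddMonoid.End V, (j + 1) • (x + x) = x := fun x => by
      rw [← two_nsmul, smul_smul, show (j + 1) * 2 = 2 * j + 1 + 1 by ring, succ_nsmul, hq0,
        zero_add]
    have τnsmul : ∀ (k : ℕ) x, τ (k • x) = k • τ x := fun k x => by
      simp only [τ, mul_smul_comm, smul_mul_assoc]
    have hbij : Function.Bijective fun x : Ep × Em =>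
        (⟨x.1.1 + x.2.1, E.add_mem x.1.2.1 x.2.2.1⟩ : E) := by
      constructor
      · rintro ⟨x, y⟩ ⟨x', y'⟩ hxy
        have h1 : x.1 + y.1 = x'.1 + y'.1 := congrArg Subtype.val hxy
        have h2 : x.1 - y.1 = x'.1 - y'.1 := by
          have := congrArg τ h1
          rwa [τadd, τadd, x.2.2, y.2.2, x'.2.2, y'.2.2, ← sub_eq_add_neg, ← sub_eq_add_neg] at this
        have h3 : x.1 + x.1 = x'.1 + x'.1 := by
          have := congrArg₂ (· + ·) h1 h2
          simpa [add_add_sub_cancel] using this
        have hx : x = x' := Subtype.ext (by rw [← hhalf x.1, h3, hhalf])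
        subst hx
        exact Prod.ext rfl (Subtype.ext (add_left_cancel h1))
      · rintro ⟨e, he⟩
        refine ⟨(⟨(j + 1) • (e + τ e), E.nsmul_mem (E.add_mem he (hconj h e he)) _, ?_⟩,
          ⟨(j + 1) • (e - τ e), E.nsmul_mem (E.sub_mem he (hconj h e he)) _, ?_⟩), Subtype.ext ?_⟩
        · rw [τnsmul, τadd, hτ2 e he, add_comm (τ e) e]
        · rw [τnsmul, τsub, hτ2 e he, ← neg_sub e (τ e), neg_nsmul]
        · show (j + 1) • (e + τ e) + (j + 1) • (e - τ e) = e
          rw [← nsmul_add, show e + τ e + (e - τ e) = e + e by abel, hhalf]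
    have hcE : Nat.card E = Nat.card V := Nat.card_congr (Equiv.ofBijective
      (fun e : E => (e : AddMonoid.End V) one) ⟨fun x y hxy => Subtype.ext (sub_eq_zero.1
        (hker _ (E.sub_mem x.2 y.2) one hone (sub_eq_zero.2 hxy))),
        fun v => (hsurj v).elim fun e ⟨he, hev⟩ => ⟨⟨e, he⟩, hev⟩⟩)
    rw [← Nat.card_eq_of_bijective _ hbij, Nat.card_prod, hcardEq, hV, ← sq] at hcE
    obtain ⟨i, -, hi⟩ := (Nat.dvd_prime_pow hp).1 (⟨_, by rw [← hcE, sq]⟩ : Nat.card Em ∣ p ^ f)
    rw [hi, ← pow_mul] at hcE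
    have := Nat.pow_right_injective hp.two_le hcE
    obtain ⟨l, hl⟩ := hf
    omega
  intro h k
  obtain ⟨eh, heh, heh1⟩ := hsurj (ρ h one)
  obtain ⟨ek, hek, hek1⟩ := hsurj (ρ k one)
  refine rho_inj_one ρ hone hreg ?_
  rw [map_mul, map_mul]
  show ρ h (ρ k one) = ρ k (ρ h one)
  rw [← hek1, ← heh1]
  show (ρ h * ek) one = (ρ k * eh) one
  rw [hfix h ek hek, hfix k eh heh]
  show ek (ρ h one) = eh (ρ k one)
  rw [← hek1, ← heh1]
  show (ek * eh) one = (eh * ek) one
  rw [hEE ek hek eh heh]

end Cfsg.Agent.PermB
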