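import Cfsg.Agent.PermB.AbInvolution
import Cfsg.Agent.Lib.Zassenhaus.TwoPointEven

/-!
A simple Zassenhaus group with abelian kernel and two-point stabilisers of odd order `e` has degree
at most `2 e + 2`.
-/

set_option autoImplicit false
set_option linter.unusedSectionVars false
set_option maxHeartbeats 1600000

namespace Cfsg.Agent.PermB.AbZass

open MulAction Finset
open Cfsg.Agent.CharDeep
open scoped ComplexConjugate

variable {G Ω : Type*} [Group G] [Fintype G] [DecidableEq G] [MulAction G Ω] [Fintype Ω]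
  [DecidableEq Ω] {a b : Ω} {Q : Subgroup G}
  (hZ : Cfsg.IsZassenhausGroup G Ω) (hab : a ≠ b) (hU : Zass.IsKernel a Q)
  (hodd : Odd (Nat.card ↥(Zass.two G a b)))

include hZ hab hU hodd

/-- Two non-identity elements of the kernel are conjugate only under the two-point stabiliser. -/
theorem fusion (H : Case G Ω a b Q) {v w : Q} (hv : v ≠ 1) (h : IsConj (v : G) w) :
    ∃ d : ↥(Zass.two G a b), conjQ H d v = w := by
  obtain ⟨g, hg⟩ := isConj_iff.1 h
  have hga : g⁻¹ • a = a := mem_Q_conj_iff H hv (by rw [inv_inv, hg]; exact w.2)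
  obtain ⟨u, hu, d, hd, hud⟩ := H.decomp g⁻¹ hga
  refine ⟨⟨d, hd⟩, Subtype.ext ?_⟩
  rw [conjQ_coe H, ← hg, show g = (g⁻¹)⁻¹ from (inv_inv g).symm, hud]
  calc d⁻¹ * (v : G) * d = d⁻¹ * (u⁻¹ * ((v : G) * u)) * d := by rw [H.comm v v.2 u hu]; group
    _ = _ := by group

theorem isConj_conjQ (H : Case G Ω a b Q) (d : ↥(Zass.two G a b)) (v : Q) :
    IsConj (v : G) ((conjQ H d v : Q) : G) :=
  isConj_iff.2 ⟨(d : G)⁻¹, by rw [conjQ_coe, inv_inv]⟩

theorem conjQ_eq_one (H : Case G Ω a b Q) {d : ↥(Zass.two G a b)} {v : Q}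
    (h : conjQ H d v = 1) : v = 1 := by
  have h' : (d : G)⁻¹ * v * d = 1 := congrArg Subtype.val h
  refine Subtype.ext ?_
  calc (v : G) = (d : G) * ((d : G)⁻¹ * v * d) * (d : G)⁻¹ := by group
    _ = 1 := by rw [h']; group

/-- Every class meeting the kernel meets `t Q` exactly once. -/
theorem existsUnique_conj (H : Case G Ω a b Q) {t : G} (hta : t • a = b) (htb : t • b = a)
    (hinv : ∀ d ∈ Zass.two G a b, t * d = d⁻¹ * t) {v : Q} (hv : v ≠ 1) :
    ∃! u : Q, IsConj (v : G) (t * u) := by
  classical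
  set e := Nat.card ↥(Zass.two G a b) with he
  have hv' : (v : G) ≠ 1 := fun h => hv (Subtype.ext h)
  set C := Finset.univ.filter fun y : G => IsConj (v : G) y with hC
  have hconj : ∀ y ∈ C, ∀ g : G, g * y * g⁻¹ ∈ C := fun y hy g => by
    simp only [hC, Finset.mem_filter, Finset.mem_univ, true_and] at hy ⊢
    exact hy.trans (isConj_iff.2 ⟨g, rfl⟩)
  -- the centraliser of `v` is `Q`
  have hcen : ∀ g : G, g * v * g⁻¹ = v → g ∈ Q := by
    intro g hg
    have hga : g⁻¹ • a = a := mem_Q_conj_iff H hv (by rw [inv_inv, hg]; exact v.2)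
    obtain ⟨u, hu, d, hd, hud⟩ := H.decomp g⁻¹ hga
    have hd1 : d = 1 := by
      refine free H hd v.2 ?_ hv'
      have h1 : g⁻¹ * v = v * g⁻¹ := by
        calc g⁻¹ * (v : G) = g⁻¹ * (g * v * g⁻¹) := by rw [hg]
          _ = (v : G) * g⁻¹ := by group
      rw [hud] at h1
      refine mul_left_cancel (a := u) ?_
      calc u * (d * (v : G)) = (v : G) * (u * d) := by rw [← mul_assoc, h1]
        _ = u * ((v : G) * d) := by rw [← mul_assoc, H.comm v v.2 u hu, mul_assoc]
    rw [hd1, mul_one] at hud
    rw [← inv_inv g, hud]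
    exact inv_mem hu
  have hCcard : C.card * Nat.card Q = Fintype.card G := by
    rw [← Finset.card_univ, Finset.card_eq_sum_card_fiberwise
      (f := fun g : G => g * v * g⁻¹) (s := Finset.univ) (t := C) (fun g _ => by
        simp only [hC, Finset.coe_filter, Finset.mem_univ, true_and, Set.mem_setOf_eq]
        exact isConj_iff.2 ⟨g, rfl⟩), Finset.sum_const_nat]
    intro y hy
    simp only [hC, Finset.mem_filter, Finset.mem_univ, true_and] at hy
    obtain ⟨g₀, hg₀⟩ := isConj_iff.1 hy
    rw [Nat.card_eq_fintype_card, ← Finset.card_univ]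
    refine Finset.card_bij' (fun g hg => (⟨g₀⁻¹ * g, hcen _ ?_⟩ : Q))
      (fun u _ => g₀ * (u : G)) (fun _ _ => Finset.mem_univ _) (fun u _ => ?_)
      (fun g _ => by simp) (fun u _ => by simp)
    · simp only [Finset.mem_filter, Finset.mem_univ, true_and] at hg
      calc g₀⁻¹ * g * v * (g₀⁻¹ * g)⁻¹ = g₀⁻¹ * (g * v * g⁻¹) * g₀ := by group
        _ = v := by rw [hg, ← hg₀]; group
    · simp only [Finset.mem_filter, Finset.mem_univ, true_and]
      rw [← hg₀]
      calc g₀ * (u : G) * v * (g₀ * u)⁻¹ = g₀ * ((u : G) * v * (u : G)⁻¹) * g₀⁻¹ := by group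
        _ = _ := by rw [H.comm u u.2 v v.2, mul_inv_cancel_right]
  let N : Ω → Finset G := fun c => C.filter fun y => y • a = c
  have hNa : (N a).card = e := by
    rw [he, Nat.card_eq_fintype_card, ← Finset.card_univ]
    symm
    refine Finset.card_bij (fun (d : ↥(Zass.two G a b)) _ => ((conjQ H d v : Q) : G))
      (fun d _ => ?_) (fun d _ d' _ h => conjQ_free H hv (Subtype.ext h)) fun y hy => ?_
    · simp only [N, hC, Finset.mem_filter, Finset.mem_univ, true_and]
      exact ⟨isConj_conjQ hZ hab hU hodd H d v, mem_stabilizer_iff.1 (H.le (conjQ H d v).2)⟩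
    · simp only [N, hC, Finset.mem_filter, Finset.mem_univ, true_and] at hy
      obtain ⟨g, rfl⟩ := isConj_iff.1 hy.1
      have hga : g⁻¹ • a = a := H.fix v v.2 hv' _ (by
        have h := hy.2
        rw [mul_smul, mul_smul, smul_eq_iff_eq_inv_smul] at h
        exact h)
      have hgQ : g * v * g⁻¹ ∈ Q := H.conj_mem g (by
        rw [mem_stabilizer_iff]
        exact ((inv_smul_eq_iff.1 hga)).symm) v v.2
      obtain ⟨d, hd⟩ := fusion hZ hab hU hodd H hv (w := ⟨_, hgQ⟩) hy.1
      exact ⟨d, Finset.mem_univ _, congrArg Subtype.val hd⟩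
  have hNc : ∀ c, c ≠ a → (N c).card = (N b).card := by
    intro c hc
    obtain ⟨g, hga, hgb⟩ := Zass.exists_pair hZ hab (Ne.symm hc)
    symm
    have hga' : g⁻¹ • a = a := inv_smul_eq_iff.2 hga.symm
    refine Finset.card_bij' (fun y _ => g * y * g⁻¹) (fun y _ => g⁻¹ * y * g) (fun y hy => ?_)
      (fun y hy => ?_) (fun y _ => by group) (fun y _ => by group)
    · simp only [N, Finset.mem_filter] at hy ⊢
      exact ⟨hconj y hy.1 g, by rw [mul_smul, mul_smul, hga', hy.2, hgb]⟩
    · simp only [N, Finset.mem_filter] at hy ⊢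
      refine ⟨by simpa using hconj y hy.1 g⁻¹, ?_⟩
      rw [mul_smul, mul_smul, hga, hy.2, inv_smul_eq_iff, hgb]
  have hNb : (N b).card = e := by
    have h1 : C.card = ∑ c : Ω, (N c).card :=
      Finset.card_eq_sum_card_fiberwise (fun _ _ => Finset.mem_univ _)
    rw [← Finset.add_sum_erase _ _ (Finset.mem_univ a), Finset.sum_const_nat
      (fun c hc => hNc c (Finset.mem_erase.1 hc).1), Finset.card_erase_of_mem (Finset.mem_univ _),
      Finset.card_univ, hNa, ← hU.card, Nat.add_sub_cancel] at h1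
    rw [← Nat.card_eq_fintype_card, Zass.card_group hZ hab, ← hU.card, Nat.add_sub_cancel, ← he,
      h1] at hCcard
    have hq : 0 < Nat.card Q := Nat.card_pos
    have h2 : Nat.card Q * (N b).card = Nat.card Q * e := by nlinarith
    exact Nat.eq_of_mul_eq_mul_left hq h2
  -- the orbit of a member
  have horbit : ∀ u : Q, IsConj (v : G) (t * u) → ∀ y ∈ N b,
      ∃ d : ↥(Zass.two G a b), (d : G) * (t * u) * (d : G)⁻¹ = y := by
    intro u hu y hy
    have hua : (t * (u : G)) • a = b := by
      rw [mul_smul, mem_stabilizer_iff.1 (H.le u.2), hta]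
    set S := Finset.univ.image fun d : ↥(Zass.two G a b) => (d : G) * (t * u) * (d : G)⁻¹ with hS
    have hsub : S ⊆ N b := by
      intro z hz
      obtain ⟨d, -, rfl⟩ := Finset.mem_image.1 hz
      simp only [N, Finset.mem_filter]
      refine ⟨hconj _ (by simpa [hC] using hu) _, ?_⟩
      rw [mul_smul, mul_smul, inv_smul_eq_iff.2 (mem_stabilizer_iff.1 d.2.1).symm, hua,
        mem_stabilizer_iff.1 d.2.2]
    have hinj : Function.Injective fun d : ↥(Zass.two G a b) =>
        (d : G) * (t * u) * (d : G)⁻¹ := by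
      intro d d' hdd
      have hc : ((d' : G)⁻¹ * d) * (t * u) = (t * u) * ((d' : G)⁻¹ * d) := by
        have h := congrArg (fun z => (d' : G)⁻¹ * z * d) hdd
        simp only at h
        calc ((d' : G)⁻¹ * d) * (t * u) = (d' : G)⁻¹ * ((d : G) * (t * u) * (d : G)⁻¹) * d := by
              group
          _ = _ := by rw [h]; group
      by_contra hne
      obtain ⟨g, hg⟩ := isConj_iff.1 hu
      -- the unique fixed point of `t u`
      have hfix : (t * (u : G)) • (g • a) = g • a := by
        rw [← hg, mul_smul, mul_smul, inv_smul_smul, mem_stabilizer_iff.1 (H.le v.2)]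
      have huniq : ∀ p, (t * (u : G)) • p = p → p = g • a := by
        intro p hp
        rw [← hg, mul_smul, mul_smul, smul_eq_iff_eq_inv_smul] at hp
        exact (inv_smul_eq_iff.1 (H.fix v v.2 hv' _ hp))
      have hdd' : ((d' : G)⁻¹ * d) ∈ Zass.two G a b := mul_mem (inv_mem d'.2) d.2
      have hd1 : ((d' : G)⁻¹ * d) ≠ 1 := fun h => hne (Subtype.ext (inv_mul_eq_one.1 h).symm)
      have hm : ((d' : G)⁻¹ * d) • (g • a) = g • a := huniq _ (by
        rw [← mul_smul, ← hc, mul_smul, hfix])
      rcases Zass.fixed_of_mem_two hZ hab hdd' hd1 hm with h | h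
      · rw [h, hua] at hfix; exact hab hfix.symm
      · rw [h] at hfix
        exact hab (MulAction.injective (t * (u : G)) (hua.trans hfix.symm))
    have heq := Finset.eq_of_subset_of_card_le hsub (by
      rw [hNb, hS, Finset.card_image_of_injective _ hinj, Finset.card_univ, he,
        Nat.card_eq_fintype_card])
    rw [← heq, hS] at hy
    obtain ⟨d, -, hd⟩ := Finset.mem_image.1 hy
    exact ⟨d, hd⟩
  have he0 : 0 < e := he ▸ Nat.card_pos
  obtain ⟨y, hy⟩ : (N b).Nonempty := Finset.card_pos.1 (by omega)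
  simp only [N, hC, Finset.mem_filter, Finset.mem_univ, true_and] at hy
  obtain ⟨u₀, hu₀, x, hx, hux⟩ := H.decomp (t⁻¹ * y) (by
    rw [mul_smul, hy.2, inv_smul_eq_iff, hta])
  obtain ⟨s, hs⟩ := (powCoprime (G := ↥(Zass.two G a b)) (n := 2)
    (Nat.coprime_two_right.2 hodd)).surjective ⟨x, hx⟩
  have hs' : (s : G) * s = x := by
    have h := congrArg Subtype.val hs
    simpa [powCoprime, pow_two] using h
  obtain ⟨u₁, hu₁⟩ : ∃ u₁ : Q, IsConj (v : G) (t * u₁) := by
    have hmem : (s : G)⁻¹ * u₀ * (s : G) ∈ Q := by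
      have h := H.conj_mem (s : G)⁻¹ (inv_mem s.2.1) u₀ hu₀
      rwa [inv_inv] at h
    refine ⟨⟨_, hmem⟩, hy.1.trans (isConj_iff.2 ⟨(s : G), ?_⟩)⟩
    have hy' : y = t * (u₀ * x) := by rw [← hux]; group
    have hts : (s : G) * t = t * (s : G)⁻¹ := by
      rw [hinv _ (inv_mem s.2), inv_inv]
    rw [hy', ← hs']
    calc (s : G) * (t * (u₀ * ((s : G) * s))) * (s : G)⁻¹
        = ((s : G) * t) * u₀ * s := by group
      _ = _ := by rw [hts]; group
  refine ⟨u₁, hu₁, fun u hu => ?_⟩
  obtain ⟨d, hd⟩ := horbit u₁ hu₁ (t * u) (by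
    simp only [N, hC, Finset.mem_filter, Finset.mem_univ, true_and]
    exact ⟨hu, by rw [mul_smul, mem_stabilizer_iff.1 (H.le u.2), hta]⟩)
  have hdt : (d : G) * t = t * (d : G)⁻¹ := by rw [hinv _ (inv_mem d.2), inv_inv]
  have h1 : ((d : G)⁻¹ * u₁ * d) * ((d : G)⁻¹ * (d : G)⁻¹) = (u : G) * 1 := by
    rw [mul_one]
    refine mul_left_cancel (a := t) ?_
    rw [← hd, ← mul_assoc (d : G), hdt]
    group
  obtain ⟨hq1, hd2⟩ := decomp_unique H (conjQ H d u₁).2 (mul_mem (inv_mem d.2) (inv_mem d.2)) u.2
    (one_mem _) (by rw [conjQ_coe]; exact h1)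
  have hdsq : d * d = 1 := Subtype.ext (by
    have h := congrArg Inv.inv hd2
    simpa using h)
  have hd1 : d = 1 := (powCoprime (G := ↥(Zass.two G a b)) (n := 2)
    (Nat.coprime_two_right.2 hodd)).injective (by simp [powCoprime, pow_two, hdsq])
  refine Subtype.ext ?_
  rw [← hq1, hd1, conjQ_one]
  rfl

variable [IsSimpleGroup G]

/-- **The bound.** -/
theorem card_le_of_abelian (hc : ∀ x ∈ Q, ∀ y ∈ Q, x * y = y * x) :
    Fintype.card Ω - 2 ≤ 2 * Nat.card ↥(Zass.two G a b) := by
  classical
  by_contra hlt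
  push Not at hlt
  have H := mkCase hZ hab hU hc
  have := Fintype.ofFinite (Q →* ℂˣ)
  set e := Nat.card ↥(Zass.two G a b) with he
  have hQc : ∀ x y : Q, x * y = y * x := fun x y => Subtype.ext (hc x x.2 y y.2)
  have hqc := hU.card
  have h3 := Zass.three_le_card hZ hab
  have he1 := Zass.two_card_gt_one hZ hab
  -- the involution
  obtain ⟨t, ht⟩ := Zass.invSwap_nonempty hZ hab hodd
  obtain ⟨htI, hta, htb⟩ := Zass.mem_invSwap.1 ht
  obtain ⟨ht1, htt⟩ := Zass.mem_invs.1 htI
  have hinv : ∀ d ∈ Zass.two G a b, t * d = d⁻¹ * t := fun d hd =>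
    mul_inv_eq_iff_eq_mul.1 (Zass.inverts hZ hab hodd ⟨hta, htb⟩ hd)
  have hconj_t : ∀ d ∈ Zass.two G a b, IsConj t (t * d) := fun d hd => by
    refine Zass.invs_conj hZ hab hodd htI (Zass.mem_invs.2 ⟨fun h => ?_, ?_⟩)
    · have hb : (t * d) • a = b := by rw [mul_smul, hd.1, hta]
      rw [h, one_smul] at hb
      exact hab hb
    · have hdt : d * t = t * d⁻¹ := by rw [hinv _ (inv_mem hd), inv_inv]
      calc t * d * (t * d) = t * (d * t) * d := by group
        _ = t * t * (d⁻¹ * d) := by rw [hdt]; group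
        _ = 1 := by rw [htt]; group
  -- the exceptional characters
  obtain ⟨χ, hdiff, hmult⟩ := exists_exceptional hZ hab hU hodd hlt H
  have hspec : ∀ f : Q →* ℂˣ, f ≠ 1 →
      (∀ l : Q →* ℂˣ, ¬ Rel H f l → coef (χ f : G → ℂ) t l = 0) ∧
      (∀ l : Q →* ℂˣ, conj (coef (χ f : G → ℂ) t l) = coef (χ f : G → ℂ) t l) ∧
      (∑ d : ↥(Zass.two G a b), coef (χ f : G → ℂ) t (f.comp (conjQ H d)) *
        coef (χ f : G → ℂ) t (f.comp (conjQ H d)) = 1) ∧
      ((∑ d : ↥(Zass.two G a b), coef (χ f : G → ℂ) t (f.comp (conjQ H d))) = 1 ∨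
        (∑ d : ↥(Zass.two G a b), coef (χ f : G → ℂ) t (f.comp (conjQ H d))) = -1) := by
    intro f hf
    obtain ⟨n, ρ, -, hρ⟩ := (χ f).2
    have h := coef_spec H ρ hf (by rw [hρ]; exact fun g => hmult f g hf) hodd htt hinv
      (fun d hd => by
        rw [hρ]
        obtain ⟨g, hg⟩ := isConj_iff.1 (hconj_t d hd)
        rw [← hg, CharCore.irr_isClassFunction (χ f) t g])
    rw [hρ] at h
    exact h
  -- the points `u`
  have hex : ∀ v : Q, ∃ u : Q, v ≠ 1 → IsConj (v : G) (t * u) := fun v => by
    by_cases hv : v = 1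
    · exact ⟨1, fun h => absurd hv h⟩
    · exact (existsUnique_conj hZ hab hU hodd H hta htb hinv hv).exists.imp fun u hu _ => hu
  choose uof huof using hex
  have huniq : ∀ v : Q, v ≠ 1 → ∀ u : Q, IsConj (v : G) (t * u) → uof v = u := fun v hv u hu =>
    (existsUnique_conj hZ hab hU hodd H hta htb hinv hv).unique (huof v hv) hu
  have huq : ∀ d (v : Q), v ≠ 1 → uof (conjQ H d v) = uof v := fun d v hv => by
    have hne : conjQ H d v ≠ 1 := fun h => hv (conjQ_eq_one hZ hab hU hodd H h)
    exact huniq _ hne _ ((isConj_conjQ hZ hab hU hodd H d v).symm.trans (huof v hv))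
  have huv : ∀ v w : Q, v ≠ 1 → w ≠ 1 → uof v = uof w → ∃ d, conjQ H d v = w := fun v w hv hw h =>
    fusion hZ hab hU hodd H hv ((huof v hv).trans (h ▸ (huof w hw).symm))
  -- the key formula
  have key : ∀ f₀ : Q →* ℂˣ, f₀ ≠ 1 → ∀ l : Q →* ℂˣ, Rel H f₀ l → ∃ C : ℂ, ∀ v : Q, v ≠ 1 →
      lamVal l (uof v) = C + coef (χ f₀ : G → ℂ) t l * theta H f₀ v := by
    intro f₀ hf₀ l hl
    set Hf : Q → ℂ := fun v => if v = 1 then 0 else lamVal l (uof v) with hHf
    set c : (Q →* ℂˣ) → ℂ := fun f => Cfsg.classInner Hf (lamVal f) with hcdef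
    -- coefficient differences
    have hdc : ∀ f g : Q →* ℂˣ, f ≠ 1 → g ≠ 1 →
        c f - c g = coef (χ f : G → ℂ) t l - coef (χ g : G → ℂ) t l := by
      intro f g hf hg
      have hreal : coef (χ f : G → ℂ) t l - coef (χ g : G → ℂ) t l =
          conj (Cfsg.classInner (fun u : Q => (psi f - psi g) (t * u)) (lamVal l)) := by
        rw [hdiff f g hf hg, show (fun u : Q => ((χ f : G → ℂ) - (χ g : G → ℂ)) (t * u))
          = (fun u : Q => (χ f : G → ℂ) (t * u)) - fun u : Q => (χ g : G → ℂ) (t * u) from rfl,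
          CharCore.classInner_sub_left, map_sub]
        exact congrArg₂ (· - ·) ((hspec f hf).2.1 l).symm ((hspec g hg).2.1 l).symm
      rw [hreal, CharInd.classInner_swap, hcdef]
      simp only [CharCore.classInner_def, ← mul_sub, ← Finset.sum_sub_distrib]
      congr 1
      have hψc : Cfsg.IsClassFunction G (psi f - psi g) := fun x y => by
        simp only [Pi.sub_apply, psi, CharInd.isClassFunction_indFun Q _ x y]
      -- both sides as sums over the non-identity elements
      set Sv := Finset.univ.filter fun v : Q => v ≠ 1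
      have hR : ∑ u : Q, lamVal l u * conj ((psi f - psi g) (t * u)) =
          ∑ u ∈ Sv.image uof, lamVal l u * conj ((psi f - psi g) (t * u)) := by
        refine (Finset.sum_subset (Finset.subset_univ _) fun u _ hu => ?_).symm
        have h0 : ∀ x : G, x⁻¹ * (t * u) * x ∉ Q := by
          intro x hx
          refine hu (Finset.mem_image.2 ⟨⟨_, hx⟩, Finset.mem_filter.2 ⟨Finset.mem_univ _, ?_⟩,
            huniq ⟨_, hx⟩ ?_ u (isConj_iff.2 ⟨x, by group⟩)⟩)
          all_goals
            intro h
            have h' : x⁻¹ * (t * u) * x = 1 := congrArg Subtype.val h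
            have h'' : t * (u : G) = 1 := by
              calc t * (u : G) = x * (x⁻¹ * (t * u) * x) * x⁻¹ := by group
                _ = 1 := by rw [h']; group
            have hb : (t * (u : G)) • a = b := by
              rw [mul_smul, mem_stabilizer_iff.1 (H.le u.2), hta]
            rw [h'', one_smul] at hb
            exact hab hb
        simp only [Pi.sub_apply, psi, CharInd.indFun_eq_zero_of_forall_notMem Q _ h0, sub_self,
          map_zero, mul_zero]
      have hL : ∑ v : Q, Hf v * (conj (lamVal f v) - conj (lamVal g v)) =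
          ∑ u ∈ Sv.image uof, lamVal l u * conj ((psi f - psi g) (t * u)) := by
        rw [← Finset.sum_subset (Finset.subset_univ Sv) (fun v _ hv => by
          simp [Sv] at hv; simp [hHf, hv])]
        rw [← Finset.sum_fiberwise_of_maps_to (g := uof)
          (fun v hv => Finset.mem_image_of_mem uof hv)]
        refine Finset.sum_congr rfl fun u hu => ?_
        obtain ⟨v₀, hv₀, rfl⟩ := Finset.mem_image.1 hu
        have hv₀' : v₀ ≠ 1 := (Finset.mem_filter.1 hv₀).2
        have hfib : Sv.filter (fun v => uof v = uof v₀) =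
            Finset.univ.image (fun d => conjQ H d v₀) := by
          ext w
          simp only [Sv, Finset.mem_filter, Finset.mem_univ, true_and, Finset.mem_image]
          constructor
          · rintro ⟨hw, hwu⟩; exact huv v₀ w hv₀' hw hwu.symm
          · rintro ⟨d, rfl⟩
            exact ⟨fun h => hv₀' (conjQ_eq_one hZ hab hU hodd H h), huq d v₀ hv₀'⟩
        rw [hfib, Finset.sum_image fun d _ d' _ h => conjQ_free H hv₀' h]
        have hval : (psi f - psi g) (t * (uof v₀ : G)) = theta H f v₀ - theta H g v₀ := by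
          obtain ⟨x, hx⟩ := isConj_iff.1 (huof v₀ hv₀')
          rw [← hx, hψc, Pi.sub_apply, psi_restrict H f hv₀', psi_restrict H g hv₀']
        rw [hval, theta, theta, ← Finset.sum_sub_distrib, map_sum, Finset.mul_sum]
        refine Finset.sum_congr rfl fun d _ => ?_
        have hne : conjQ H d v₀ ≠ 1 := fun h => hv₀' (conjQ_eq_one hZ hab hU hodd H h)
        simp only [hHf, if_neg hne, huq d v₀ hv₀']
        rw [map_sub]
      rw [hL, hR]
    obtain ⟨g₀, hg₀, hfg₀⟩ : ∃ g, g ≠ 1 ∧ ¬ Rel H f₀ g := by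
      by_contra hcon
      push Not at hcon
      have hsub : (Finset.univ : Finset (Q →* ℂˣ)) ⊆
          insert 1 (Finset.univ.image fun d => f₀.comp (conjQ H d)) := by
        intro g _
        by_cases hg : g = 1
        · exact Finset.mem_insert.2 (Or.inl hg)
        · obtain ⟨d, hd⟩ := hcon g hg
          exact Finset.mem_insert.2 (Or.inr (Finset.mem_image.2 ⟨d, Finset.mem_univ _, hd⟩))
      have h1 := (Finset.card_le_card hsub).trans (Finset.card_insert_le _ _)
      have h2 := (Finset.univ : Finset ↥(Zass.two G a b)).card_image_le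
        (f := fun d => f₀.comp (conjQ H d))
      rw [Finset.card_univ, ← Nat.card_eq_fintype_card, card_lam H] at h1
      rw [Finset.card_univ, ← Nat.card_eq_fintype_card, ← he] at h2
      omega
    set γ := coef (χ f₀ : G → ℂ) t l with hγ
    have hcf : ∀ f : Q →* ℂˣ, f ≠ 1 → c f = c g₀ + if Rel H f₀ f then γ else 0 := by
      intro f hf
      have h1 := hdc f g₀ hf hg₀
      rw [(hspec g₀ hg₀).1 l (fun h => hfg₀ (rel_trans H hl (rel_symm H h))), sub_zero] at h1
      by_cases hr : Rel H f₀ f
      · rw [if_pos hr]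
        have h2 := hdc f f₀ hf hf₀
        have h3 : c f₀ - c g₀ = γ := by
          rw [hdc f₀ g₀ hf₀ hg₀, (hspec g₀ hg₀).1 l (fun h => hfg₀ (rel_trans H hl (rel_symm H h))),
            sub_zero]
        have hsame : coef (χ f : G → ℂ) t l = γ := by
          have hψ : psi f - psi f₀ = 0 := by
            have hn := psi_inner H (f₁ := f) (f₂ := f₀) hf hf₀
            rw [if_pos (rel_refl H f), if_pos (rel_refl H f₀), if_pos hr, if_pos (rel_symm H hr)]
              at hn
            have h0 : Cfsg.classInner (psi f - psi f₀) (psi f - psi f₀) = 0 := by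
              rw [hn]; ring
            obtain ⟨m, hm⟩ :=
              CharCore.IsGeneralizedCharacter.exists_sum (psi_sub_generalized H f f₀)
            rw [hm, CharCore.classInner_sum_sum] at h0
            simp only [map_intCast] at h0
            have h0' : ∑ ψ, m ψ * m ψ = 0 := by exact_mod_cast h0
            rw [hm]
            refine Finset.sum_eq_zero fun ψ _ => ?_
            have hz := (Finset.sum_eq_zero_iff_of_nonneg fun i _ => mul_self_nonneg (m i)).1 h0' ψ
              (Finset.mem_univ ψ)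
            rw [mul_self_eq_zero] at hz
            simp [hz]
          rw [hdiff f f₀ hf hf₀, sub_eq_zero] at hψ
          rw [hψ]
        rw [hsame] at h1
        linear_combination h1
      · rw [if_neg hr, add_zero]
        rw [(hspec f hf).1 l (fun h => hr (rel_trans H hl (rel_symm H h))), sub_eq_zero] at h1
        exact h1
    refine ⟨c 1 - c g₀, fun v hv => ?_⟩
    have hv' := sum_inner_lamVal hQc Hf v
    rw [show Hf v = lamVal l (uof v) from if_neg hv] at hv'
    rw [← hv', ← Finset.add_sum_erase _ _ (Finset.mem_univ (1 : Q →* ℂˣ))]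
    change c 1 * lamVal 1 v + ∑ f ∈ _, c f * lamVal f v = _
    rw [Finset.sum_congr rfl fun f hf => by rw [hcf f (Finset.mem_erase.1 hf).1, add_mul],
      Finset.sum_add_distrib, ← Finset.mul_sum]
    have hE : ∑ f ∈ Finset.univ.erase (1 : Q →* ℂˣ), lamVal f v = -1 := by
      have h1 := Finset.add_sum_erase Finset.univ (fun f => lamVal f v)
        (Finset.mem_univ (1 : Q →* ℂˣ))
      have h2 : ∑ f : Q →* ℂˣ, lamVal f v = 0 := by
        simp only [lamVal]
        rw [sum_hom_apply hQc, if_neg hv]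
      rw [h2, show lamVal (1 : Q →* ℂˣ) v = 1 by simp [lamVal]] at h1
      linear_combination h1
    have hT : ∑ f ∈ Finset.univ.erase (1 : Q →* ℂˣ), (if Rel H f₀ f then γ else 0) * lamVal f v
        = γ * theta H f₀ v := by
      simp only [ite_mul, zero_mul, ← Finset.sum_filter]
      rw [← Finset.mul_sum]
      congr 1
      have himg : ((Finset.univ.erase (1 : Q →* ℂˣ)).filter fun f => Rel H f₀ f) =
          Finset.univ.image (fun d => f₀.comp (conjQ H d)) := by
        ext f
        simp only [Finset.mem_filter, Finset.mem_erase, Finset.mem_univ, and_true, Finset.mem_image,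
          true_and]
        constructor
        · rintro ⟨-, d, hd⟩; exact ⟨d, hd⟩
        · rintro ⟨d, hd⟩
          refine ⟨fun h => ?_, d, hd⟩
          obtain ⟨d', hd'⟩ := rel_symm H (show Rel H f₀ f from ⟨d, hd⟩)
          exact hf₀ (by rw [← hd', h, MonoidHom.one_comp])
      rw [himg, Finset.sum_image fun d _ d' _ h => orbit_inj H hf₀ h]
      simp only [theta, lamVal, MonoidHom.comp_apply]
    rw [hE, hT]
    simp [lamVal]
    ring
  -- a point with trivial `u` in odd degree
  have hone : Odd (Nat.card Q) ∨ ∃ v : Q, v ≠ 1 ∧ uof v = 1 := by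
    rcases Nat.even_or_odd (Nat.card Q) with hev | hod
    · right
      obtain ⟨z, hz⟩ := exists_prime_orderOf_dvd_card' (G := Q) 2 (even_iff_two_dvd.1 hev)
      have hz1 : z ≠ 1 := fun h => by rw [h, orderOf_one] at hz; omega
      refine ⟨z, hz1, huniq z hz1 1 ?_⟩
      rw [OneMemClass.coe_one, mul_one]
      exact Zass.invs_conj hZ hab hodd
        (Zass.mem_invs_iff_orderOf.2 (by rw [Subgroup.orderOf_coe, hz])) htI
    · exact Or.inl hod
  -- at most two values
  have two : ∀ f : Q →* ℂˣ, ∀ v₀ v₁ v₂ : Q, v₀ ≠ 1 → v₁ ≠ 1 → v₂ ≠ 1 →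
      f (uof v₀) = f (uof v₁) ∨ f (uof v₀) = f (uof v₂) ∨ f (uof v₁) = f (uof v₂) := by
    intro f v₀ v₁ v₂ h0 h1 h2
    by_cases hf : f = 1
    · subst hf; simp
    by_contra hcon
    push Not at hcon
    obtain ⟨h01, h02, h12⟩ := hcon
    have lamne : ∀ {x y : Q}, f x ≠ f y → lamVal f x ≠ lamVal f y := fun h e => h (Units.ext e)
    have hnorm : ∀ (l : Q →* ℂˣ) (x : Q), ‖lamVal l x‖ = 1 := fun l x =>
      CharCore.norm_hom_apply l x
    obtain ⟨-, hreal, hsq, hsum⟩ := hspec f hf
    obtain ⟨C₀, hC₀⟩ := key f hf f (rel_refl H f)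
    set γ : ↥(Zass.two G a b) → ℂ := fun d => coef (χ f : G → ℂ) t (f.comp (conjQ H d)) with hγ
    have hγ1 : coef (χ f : G → ℂ) t f = γ 1 := by simp [hγ, conjQ_one H]
    have hγ0 : γ 1 ≠ 0 := by
      intro h
      apply lamne h01
      rw [hC₀ v₀ h0, hC₀ v₁ h1, hγ1, h, zero_mul, zero_mul]
    -- every other member is constant or equal
    have hdich : ∀ d, γ d = 0 ∨ γ d = γ 1 := by
      intro d
      by_cases hd : γ d = 0
      · exact Or.inl hd
      refine Or.inr ?_
      obtain ⟨C', hC'⟩ := key f hf (f.comp (conjQ H d)) ⟨d, rfl⟩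
      set k := γ d / γ 1 with hk
      set r := C' - k * C₀ with hr
      have haff : ∀ v : Q, v ≠ 1 →
          lamVal (f.comp (conjQ H d)) (uof v) = k * lamVal f (uof v) + r := by
        intro v hv
        rw [hC' v hv, hC₀ v hv, hγ1, hr, hk]
        show C' + γ d * theta H f v = _
        field_simp
        ring
      have hka : conj k = k := by
        rw [hk, map_div₀]
        exact congrArg₂ (· / ·) (hreal _) (by rw [← hγ1]; exact hreal _)
      have hk0 : k ≠ 0 := div_ne_zero hd hγ0
      have hr0 : r = 0 := units_affine (hnorm f _) (hnorm f _) (hnorm f _) (lamne h01) (lamne h02)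
        (lamne h12) hka hk0 (by rw [← haff v₀ h0]; exact hnorm _ _)
        (by rw [← haff v₁ h1]; exact hnorm _ _) (by rw [← haff v₂ h2]; exact hnorm _ _)
      have hk1 : k = 1 := by
        rcases hone with hq | ⟨v, hv, hvu⟩
        · have hkv := haff v₀ h0
          rw [hr0, add_zero] at hkv
          have hp : ∀ (l : Q →* ℂˣ) (x : Q), lamVal l x ^ Nat.card Q = 1 := fun l x => by
            rw [lamVal, ← Units.val_pow_eq_pow_val, ← map_pow, pow_card_eq_one', map_one,
              Units.val_one]
          have hkq : k ^ Nat.card Q = 1 := by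
            have h := congrArg (· ^ Nat.card Q) hkv
            simp only [mul_pow, hp, mul_one] at h
            exact h.symm
          have hkk : k * k = 1 := by
            have hn : ‖k‖ = 1 := by
              have h := congrArg norm hkv
              rw [hnorm, norm_mul, hnorm, mul_one] at h
              exact h.symm
            have h2 : k * conj k = 1 := by
              rw [Complex.mul_conj, Complex.normSq_eq_norm_sq, hn]; norm_num
            rwa [hka] at h2
          rcases mul_self_eq_one_iff.1 hkk with h | h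
          · exact h
          · rw [h, hq.neg_one_pow] at hkq
            norm_num at hkq
        · have hkv := haff v hv
          rw [hr0, add_zero, hvu] at hkv
          simpa [lamVal] using hkv.symm
      rw [hk, div_eq_one_iff_eq hγ0] at hk1
      exact hk1
    set M := Finset.univ.filter fun d => γ d ≠ 0 with hM
    have hS1 : ∑ d, γ d = (M.card : ℂ) * γ 1 := by
      rw [← Finset.sum_filter_ne_zero, ← hM, Finset.sum_congr rfl fun d hd =>
        (hdich d).resolve_left (Finset.mem_filter.1 hd).2, Finset.sum_const, nsmul_eq_mul]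
    have hS2 : ∑ d, γ d * γ d = (M.card : ℂ) * (γ 1 * γ 1) := by
      rw [← Finset.sum_subset (Finset.subset_univ M) (fun d _ hd => by
        simp [hM] at hd; simp [hd]), Finset.sum_congr rfl fun d hd => by
          rw [(hdich d).resolve_left (Finset.mem_filter.1 hd).2], Finset.sum_const, nsmul_eq_mul]
    have hsum' : (∑ d, γ d) * ∑ d, γ d = 1 := by
      rcases hsum with h | h <;> rw [show (∑ d, γ d) = _ from h] <;> norm_num
    have hMc : M.card = 1 := by
      have h1' : (M.card : ℂ) * (γ 1 * γ 1) = 1 := by rw [← hS2]; exact hsq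
      rw [hS1] at hsum'
      have : (M.card : ℂ) = 1 := by linear_combination hsum' - (M.card : ℂ) * h1'
      exact_mod_cast this
    have hzero : ∀ d, d ≠ 1 → γ d = 0 := by
      intro d hd
      by_contra h
      obtain ⟨x, hx⟩ := Finset.card_eq_one.1 hMc
      have hdm : d ∈ M := Finset.mem_filter.2 ⟨Finset.mem_univ _, h⟩
      have h1m : (1 : ↥(Zass.two G a b)) ∈ M := Finset.mem_filter.2 ⟨Finset.mem_univ _, hγ0⟩
      rw [hx, Finset.mem_singleton] at hdm h1m
      exact hd (hdm.trans h1m.symm)
    -- the product over the orbit is trivial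
    set φ : Q →* ℂˣ := ∏ d : ↥(Zass.two G a b), f.comp (conjQ H d) with hφ
    have hφ1 : φ = 1 := by
      by_contra hne
      obtain ⟨c, hc1⟩ : ∃ c : ↥(Zass.two G a b), c ≠ 1 :=
        Fintype.exists_ne_of_one_lt_card (by rw [← Nat.card_eq_fintype_card]; exact he1) 1
      refine hc1 (orbit_inj H hne ?_)
      rw [conjQ_one H, MonoidHom.comp_id]
      refine MonoidHom.ext fun x => ?_
      rw [hφ, MonoidHom.comp_apply]
      simp only [MonoidHom.finsetProd_apply, MonoidHom.comp_apply]
      refine Fintype.prod_equiv (Equiv.mulLeft c) _ _ fun d => ?_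
      rw [Equiv.coe_mulLeft]
      congr 1
      exact DFunLike.congr_fun (conjQ_comp H c d) x
    have hprod : ∀ x : Q, ∏ d : ↥(Zass.two G a b), f (conjQ H d x) = 1 := fun x => by
      have h := DFunLike.congr_fun hφ1 x
      simpa [hφ, MonoidHom.finsetProd_apply] using h
    have hrest : ∀ d, d ≠ 1 → f (conjQ H d (uof v₀)) = f (conjQ H d (uof v₁)) := by
      intro d hd
      obtain ⟨C', hC'⟩ := key f hf (f.comp (conjQ H d)) ⟨d, rfl⟩
      have e0 := hC' v₀ h0
      have e1 := hC' v₁ h1
      have hz : coef (χ f : G → ℂ) t (f.comp (conjQ H d)) = 0 := hzero d hd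
      rw [hz, zero_mul, add_zero] at e0 e1
      exact Units.ext (e0.trans e1.symm)
    have p0 := hprod (uof v₀)
    have p1 := hprod (uof v₁)
    rw [← Finset.mul_prod_erase _ _ (Finset.mem_univ (1 : ↥(Zass.two G a b)))] at p0 p1
    rw [Finset.prod_congr rfl fun d hd => hrest d (Finset.mem_erase.1 hd).1, ← p1] at p0
    have p2 := mul_right_cancel p0
    rw [conjQ_one H] at p2
    exact h01 p2
  -- three points
  have hT : Fintype.card ↥(Zass.two G a b) = e := by rw [he, Nat.card_eq_fintype_card]
  have pick : ∀ S : Finset Q, S.card ≤ 2 * e + 1 → ∃ v, v ∉ S := by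
    intro S hS
    by_contra hcon
    push Not at hcon
    have h := Finset.card_le_card (fun f (_ : f ∈ Finset.univ) => hcon f)
    rw [Finset.card_univ, ← Nat.card_eq_fintype_card] at h
    omega
  let orbQ : Q → Finset Q := fun v => Finset.univ.image fun d => conjQ H d v
  have horbQ : ∀ v, (orbQ v).card ≤ e := fun v =>
    Finset.card_image_le.trans (le_of_eq (by rw [Finset.card_univ, hT]))
  have hthree : ∀ v₀ v₁ : Q, v₀ ≠ 1 → v₁ ≠ 1 →
      ∃ v₂, v₂ ≠ 1 ∧ uof v₂ ≠ uof v₀ ∧ uof v₂ ≠ uof v₁ := by
    intro v₀ v₁ h0 h1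
    obtain ⟨v, hv⟩ := pick (insert 1 (orbQ v₀ ∪ orbQ v₁)) (by
      have := Finset.card_insert_le 1 (orbQ v₀ ∪ orbQ v₁)
      have := Finset.card_union_le (orbQ v₀) (orbQ v₁)
      have := horbQ v₀; have := horbQ v₁; omega)
    simp only [Finset.mem_insert, Finset.mem_union, not_or] at hv
    refine ⟨v, hv.1, fun h => hv.2.1 ?_, fun h => hv.2.2 ?_⟩
    · obtain ⟨d, hd⟩ := huv v₀ v h0 hv.1 h.symm
      exact Finset.mem_image.2 ⟨d, Finset.mem_univ _, hd⟩
    · obtain ⟨d, hd⟩ := huv v₁ v h1 hv.1 h.symm
      exact Finset.mem_image.2 ⟨d, Finset.mem_univ _, hd⟩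
  obtain ⟨v₀, v₁, h0, h1, hne, hsq1⟩ : ∃ v₀ v₁ : Q, v₀ ≠ 1 ∧ v₁ ≠ 1 ∧ uof v₁ ≠ uof v₀ ∧
      (uof v₁ * (uof v₀)⁻¹) * (uof v₁ * (uof v₀)⁻¹) ≠ 1 := by
    rcases hone with hq | ⟨v₀, h0, hv₀⟩
    · obtain ⟨v₀, h0⟩ := pick {1} (by simp)
      rw [Finset.mem_singleton] at h0
      obtain ⟨v₁, h1, hne, -⟩ := hthree v₀ v₀ h0 h0
      refine ⟨v₀, v₁, h0, h1, hne, fun h => hne (mul_inv_eq_one.1 ?_)⟩
      have ho : orderOf (uof v₁ * (uof v₀)⁻¹) ∣ 2 :=
        orderOf_dvd_of_pow_eq_one (by rw [pow_two]; exact h)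
      exact orderOf_eq_one_iff.1 (Nat.eq_one_of_dvd_coprimes (Nat.coprime_two_right.2 hq)
        (orderOf_dvd_natCard _) ho)
    · refine ⟨v₀, ?_⟩
      by_contra hcon
      push Not at hcon
      -- then the images are involutions, too few of them
      have hsq : ∀ v : Q, v ≠ 1 → uof v * uof v = 1 := by
        intro v hv
        by_cases hvv : uof v = uof v₀
        · rw [hvv, hv₀, mul_one]
        · have h := hcon v h0 hv hvv
          rwa [hv₀, inv_one, mul_one] at h
      have hev : Even (Nat.card Q) := by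
        rw [even_iff_two_dvd]
        have hq : ¬ Odd (Nat.card Q) := fun hq => by
          obtain ⟨v₁, h1, hne, -⟩ := hthree v₀ v₀ h0 h0
          rw [hv₀] at hne
          exact hne (orderOf_eq_one_iff.1 (Nat.eq_one_of_dvd_coprimes (Nat.coprime_two_right.2 hq)
            (orderOf_dvd_natCard _) (orderOf_dvd_of_pow_eq_one (by rw [pow_two]; exact hsq v₁ h1))))
        exact even_iff_two_dvd.1 (Nat.not_odd_iff_even.1 hq)
      have hn : Odd (Fintype.card Ω) := by rw [← hqc]; exact hev.add_one
      let O : Subgroup Q :=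
        { carrier := {x | x * x = 1}
          one_mem' := one_mul 1
          mul_mem' := fun {x y} hx hy => by
            show x * y * (x * y) = 1
            rw [mul_assoc, ← mul_assoc y x y, hQc y x, mul_assoc x y y,
              show y * y = 1 from hy, mul_one]
            exact hx
          inv_mem' := fun {x} hx => by
            show x⁻¹ * x⁻¹ = 1
            rw [← mul_inv_rev, show x * x = 1 from hx, inv_one] }
      have hO : Nat.card O = e + 1 := by
        have hA : (Zass.invAt G a).card = e :=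
          (Zass.card_invAt hZ hab hodd hn a).trans (Zass.card_invSwap_of_odd hZ hab hodd hn)
        rw [← hA]
        have hins : (insert (1 : G) (Zass.invAt G a)).card = (Zass.invAt G a).card + 1 :=
          Finset.card_insert_of_notMem fun h => (Zass.mem_invs.1 (Finset.mem_filter.1 h).1).1 rfl
        rw [← hins, Nat.card_eq_fintype_card, ← Finset.card_univ]
        refine Finset.card_bij (fun (x : O) _ => ((x : Q) : G)) (fun x _ => ?_)
          (fun x _ y _ h => Subtype.ext (Subtype.ext h)) fun y hy => ?_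
        · rw [Finset.mem_insert, or_iff_not_imp_left]
          intro hx1
          simp only [Zass.invAt, Finset.mem_filter]
          exact ⟨Zass.mem_invs.2 ⟨hx1, congrArg Subtype.val (show (x : Q) * x = 1 from x.2)⟩,
            mem_stabilizer_iff.1 (H.le (x : Q).2)⟩
        · rcases Finset.mem_insert.1 hy with rfl | hy
          · exact ⟨1, Finset.mem_univ _, rfl⟩
          · refine ⟨⟨⟨y, Zass.invAt_subset_kernel hZ hab hodd hU hy⟩, Subtype.ext ?_⟩,
              Finset.mem_univ _, rfl⟩
            exact (Zass.mem_invs.1 (Finset.mem_filter.1 hy).1).2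
      -- counting
      obtain ⟨m, hm⟩ := O.card_subgroup_dvd_card
      rw [hO] at hm
      have hle : (Finset.univ.filter fun v : Q => v ≠ 1).card ≤ e * (e + 1) := by
        rw [← hO, Nat.card_eq_fintype_card, ← Finset.card_univ (α := O), mul_comm]
        refine le_trans (Finset.card_le_mul_card_image (f := uof) _ e fun u hu => ?_) ?_
        · obtain ⟨v, hv, rfl⟩ := Finset.mem_image.1 hu
          refine le_trans (Finset.card_le_card fun w hw => ?_) (horbQ v)
          rw [Finset.mem_filter] at hw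
          obtain ⟨d, hd⟩ := huv v w (Finset.mem_filter.1 hv).2 (Finset.mem_filter.1 hw.1).2
            hw.2.symm
          exact Finset.mem_image.2 ⟨d, Finset.mem_univ _, hd⟩
        · rw [mul_comm]
          refine Nat.mul_le_mul_right _ ?_
          rw [← Finset.card_map (Function.Embedding.subtype _) (s := (Finset.univ : Finset O))]
          refine Finset.card_le_card fun u hu => ?_
          obtain ⟨v, hv, rfl⟩ := Finset.mem_image.1 hu
          exact Finset.mem_map.2 ⟨⟨uof v, hsq v (Finset.mem_filter.1 hv).2⟩, Finset.mem_univ _, rfl⟩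
      rw [Finset.filter_ne', Finset.card_erase_of_mem (Finset.mem_univ _), Finset.card_univ,
        ← Nat.card_eq_fintype_card, hm] at hle
      have hdvd : e ∣ (e + 1) * m - 1 := by
        have hd := ZassNormal.two_dvd_card_kernel_sub_one hZ hab hU
        rwa [← hqc, hm, show (e + 1) * m + 1 - 2 = (e + 1) * m - 1 by omega] at hd
      rcases m with _ | _ | m
      · simp [Nat.card_pos.ne'] at hm
      · omega
      · have hd2 : e ∣ m + 1 := by
          have h : (e + 1) * (m + 1 + 1) - 1 = e * (m + 1 + 1) + (m + 1) := by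
            have : (e + 1) * (m + 1 + 1) = e * (m + 1 + 1) + (m + 1) + 1 := by ring
            omega
          rw [h] at hdvd
          exact (Nat.dvd_add_right (Dvd.intro _ rfl)).1 hdvd
        have := Nat.le_of_dvd (Nat.succ_pos _) hd2
        have : e * (e + 1) + 1 < (e + 1) * (m + 1 + 1) := by nlinarith
        omega
  obtain ⟨v₂, h2, h20, h21⟩ := hthree v₀ v₁ h0 h1
  refine no_three_points hQc (x := uof v₁ * (uof v₀)⁻¹) (y := uof v₂ * (uof v₀)⁻¹)
    (fun h => hne (mul_inv_eq_one.1 h)) (fun h => h20 (mul_inv_eq_one.1 h))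
    (fun h => h21 (mul_right_cancel h)) hsq1 fun f => ?_
  simp only [map_mul, map_inv]
  rcases two f v₀ v₁ v₂ h0 h1 h2 with h | h | h
  · exact Or.inl (by rw [h, mul_inv_cancel])
  · exact Or.inr (Or.inl (by rw [h, mul_inv_cancel]))
  · exact Or.inr (Or.inr (by rw [h]))

end Cfsg.Agent.PermB.AbZass
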