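import Cfsg.Agent.PermB.AbCoherence
import Cfsg.Agent.CharDeep.ZassInduced
import Cfsg.Agent.CharDeep.ZassClasses
import Cfsg.Agent.Lib.CharCore.Complete
import Cfsg.Agent.Lib.Zassenhaus.SharpThree

/-!
The exceptional characters of a simple Zassenhaus group with abelian kernel and two-point
stabilisers of odd order less than half of the kernel: they restrict to the kernel as the sum of
one orbit of linear characters.
-/

set_option autoImplicit false
set_option linter.unusedSectionVars false
set_option maxHeartbeats 1600000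

namespace Cfsg.Agent.PermB.AbZass

open MulAction Finset
open Cfsg.Agent.CharDeep
open scoped ComplexConjugate

variable {G Ω : Type*} [Group G] [Fintype G] [DecidableEq G] [MulAction G Ω] [Fintype Ω]
  [DecidableEq Ω] {a b : Ω} {Q : Subgroup G}

theorem sum_hom_apply {A : Type*} [Group A] [Finite A] (hc : ∀ x y : A, x * y = y * x)
    [Fintype (A →* ℂˣ)] [DecidableEq A] (x : A) :
    ∑ f : A →* ℂˣ, (f x : ℂ) = if x = 1 then (Nat.card A : ℂ) else 0 := by
  letI : CommGroup A := { (inferInstance : Group A) with mul_comm := hc }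
  haveI : NeZero (Monoid.exponent A) := ⟨Monoid.exponent_ne_zero_of_finite⟩
  split_ifs with hx
  · subst hx
    simp [← Nat.card_eq_fintype_card, CommGroup.card_monoidHom_of_hasEnoughRootsOfUnity A ℂ]
  · obtain ⟨μ, hμ⟩ := CommGroup.exists_apply_ne_one_of_hasEnoughRootsOfUnity A ℂ hx
    have h : (μ x : ℂ) * ∑ f : A →* ℂˣ, (f x : ℂ) = ∑ f : A →* ℂˣ, (f x : ℂ) := by
      rw [Finset.mul_sum]
      exact Fintype.sum_equiv (Equiv.mulLeft μ) _ _ fun f => by simp
    have h2 : ((μ x : ℂ) - 1) * ∑ f : A →* ℂˣ, (f x : ℂ) = 0 := by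
      rw [sub_mul, h, one_mul, sub_self]
    exact (mul_eq_zero.1 h2).resolve_left (sub_ne_zero.2 fun e => hμ (Units.ext e))

/-- The multiplicity of a linear character of `Q` in a function on `G`. -/
noncomputable def mult [Fintype Q] (φ : G → ℂ) (f : Q →* ℂˣ) : ℂ :=
  Cfsg.classInner (fun x : Q => φ x) (lamVal f)

theorem mult_nat [Fintype Q] {φ : G → ℂ} (hφ : Cfsg.IsCharacter G φ) (f : Q →* ℂˣ) :
    ∃ m : ℕ, mult φ f = m :=
  CharCore.IsCharacter.exists_classInner_eq_natCast (CharCore.isCharacter_restrict hφ Q)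
    (isCharacter_lamVal f)

theorem mult_eq_inner_psi [Fintype Q] {φ : G → ℂ} (hφ : Cfsg.IsClassFunction G φ)
    (f : Q →* ℂˣ) : mult φ f = Cfsg.classInner φ (psi f) :=
  (CharInd.classInner_indFun_right Q (lamVal f) hφ).symm

/-- Fourier inversion on `Q`. -/
theorem sum_inner_lamVal [Fintype Q] [Fintype (Q →* ℂˣ)] (hc : ∀ x y : Q, x * y = y * x)
    (h : Q → ℂ) (x : Q) :
    ∑ f : Q →* ℂˣ, Cfsg.classInner h (lamVal f) * lamVal f x = h x := by
  classical
  simp only [CharCore.classInner_def, mul_assoc, Finset.sum_mul]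
  rw [← Finset.mul_sum, Finset.sum_comm]
  have : ∀ y : Q, ∑ f : Q →* ℂˣ, h y * (conj (lamVal f y) * lamVal f x)
      = if y = x then h y * (Nat.card Q : ℂ) else 0 := by
    intro y
    have e : ∀ f : Q →* ℂˣ, conj (lamVal f y) * lamVal f x = (f (y⁻¹ * x) : ℂ) := fun f => by
      rw [← CharCore.IsCharacter.apply_inv (isCharacter_lamVal f) y]
      simp [lamVal]
    rw [← Finset.mul_sum, Finset.sum_congr rfl fun f _ => e f, sum_hom_apply hc]
    by_cases hy : y = x
    · rw [if_pos hy, if_pos (by rw [hy, inv_mul_cancel])]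
    · rw [if_neg hy, if_neg (fun h' => hy (inv_mul_eq_one.1 h')), mul_zero]
  rw [Finset.sum_congr rfl fun y _ => this y, Finset.sum_ite_eq', if_pos (Finset.mem_univ x),
    ← mul_assoc, mul_comm (Nat.card Q : ℂ)⁻¹, mul_assoc,
    inv_mul_cancel₀ (Nat.cast_ne_zero.2 Nat.card_pos.ne'), mul_one]

/-- A function constant off `1` has the same coefficient at all non-principal characters. -/
theorem inner_of_const [Fintype Q] [DecidableEq Q] {h : Q → ℂ} {c : ℂ}
    (hc : ∀ x : Q, x ≠ 1 → h x = c) {f : Q →* ℂˣ} (hf : f ≠ 1) :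
    Cfsg.classInner h (lamVal f) = (Nat.card Q : ℂ)⁻¹ * (h 1 - c) := by
  rw [CharCore.classInner_def]
  congr 1
  have e : ∀ x : Q, h x * conj (lamVal f x) =
      c * conj (lamVal f x) + (if x = 1 then h 1 - c else 0) := fun x => by
    by_cases hx : x = 1
    · subst hx; simp [lamVal_one]
    · simp [hx, hc x hx]
  rw [Finset.sum_congr rfl fun x _ => e x, Finset.sum_add_distrib, ← Finset.mul_sum,
    ← map_sum, sum_lamVal hf, map_zero, mul_zero, zero_add, Finset.sum_ite_eq',
    if_pos (Finset.mem_univ _)]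

variable (hZ : Cfsg.IsZassenhausGroup G Ω) (hab : a ≠ b) (hU : Zass.IsKernel a Q)

include hZ hab hU

theorem mkCase (hc : ∀ x ∈ Q, ∀ y ∈ Q, x * y = y * x) : Case G Ω a b Q :=
  ⟨inferInstance, inferInstance, hZ, hab, hc, hU.le, hU.fix,
    fun _ hg _ hx => Zass.kernel_normal hZ hU hg hx,
    fun _ hg => Zass.exists_kernel_mul hZ hab hU hg⟩

/-- A constituent of the permutation character is `1` or the Steinberg character. -/
theorem perm_char_spec :
    Cfsg.IsIrrCharacter G ((Cfsg.indFun (stabilizer G a) fun _ => 1) - 1) ∧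
    ((Cfsg.indFun (stabilizer G a) fun _ => (1 : ℂ)) 1 = (Fintype.card Ω : ℂ)) ∧
    ∀ u ∈ Q, u ≠ 1 → (Cfsg.indFun (stabilizer G a) fun _ => (1 : ℂ)) u = 1 := by
  classical
  set P := Cfsg.indFun (stabilizer G a) (fun _ => (1 : ℂ)) with hPdef
  have := Zass.pretransitive hZ
  choose σ hσ using fun c : Ω => MulAction.exists_smul_eq G a c
  have hval : ∀ g, P g = (Zass.nfix Ω g : ℂ) := by
    intro g
    rw [hPdef, Zass.indFun_eq_sum_fix (fun _ _ => rfl) σ hσ, Zass.nfix,
      Finset.natCast_card_filter]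
    refine Finset.sum_congr rfl fun c _ => ?_
    have hiff : (σ c)⁻¹ * g * σ c ∈ stabilizer G a ↔ g • c = c := by
      rw [mem_stabilizer_iff, mul_smul, mul_smul, hσ, inv_smul_eq_iff, hσ]
    by_cases h : g • c = c
    · rw [if_pos h, CharInd.extendByZero_mem _ (hiff.2 h)]
    · rw [if_neg h, CharInd.extendByZero_notMem _ (fun h' => h (hiff.1 h'))]
  have h1 : P 1 = (Fintype.card Ω : ℂ) := by rw [hval, Zass.nfix_one]
  refine ⟨?_, h1, fun u hu hu1 => ?_⟩
  · have hP : Cfsg.IsCharacter G P := CharInd.isCharacter_indFun _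
      (CharCore.isCharacter_natCast (G := stabilizer G a) 1 |> fun h => by simpa using h)
    have hP1 : Cfsg.classInner P 1 = 1 := by
      rw [hPdef, CharInd.classInner_indFun_left _ _ (CharCore.irr_isClassFunction
        ⟨1, CharCore.isIrrCharacter_one⟩)]
      exact CharCore.classInner_irr_self (G := stabilizer G a) ⟨1, CharCore.isIrrCharacter_one⟩
    have hPP : Cfsg.classInner P P = 2 := by
      have hsum : ∑ g : stabilizer G a, Zass.nfix Ω (g : G) = 2 * Nat.card (stabilizer G a) := by
        simp only [Zass.nfix, Finset.card_filter]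
        rw [Finset.sum_comm]
        have hc : ∀ c : Ω, (∑ g : stabilizer G a, if (g : G) • c = c then 1 else 0)
            = if c = a then Nat.card (stabilizer G a) else Nat.card ↥(Zass.two G a b) := by
          intro c
          rw [← Finset.card_filter, ← Fintype.card_subtype, ← Nat.card_eq_fintype_card]
          split_ifs with h
          · subst h
            exact Nat.card_congr (Equiv.subtypeUnivEquiv fun g => g.2)
          · rw [← Zass.card_two_eq hZ hab (Ne.symm h)]
            exact Nat.card_congr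
              { toFun := fun g => ⟨(g.1 : G), g.1.2, g.2⟩
                invFun := fun g => ⟨⟨(g : G), g.2.1⟩, g.2.2⟩
                left_inv := fun _ => rfl
                right_inv := fun _ => rfl }
        rw [Finset.sum_congr rfl fun c _ => hc c, Finset.sum_ite, Finset.sum_const,
          Finset.sum_const, smul_eq_mul, smul_eq_mul, Finset.filter_eq', if_pos (Finset.mem_univ _),
          Finset.card_singleton, Finset.filter_ne', Finset.card_erase_of_mem (Finset.mem_univ _),
          Finset.card_univ, Zass.card_stabilizer hZ hab]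
        ring
      conv_lhs => arg 1; rw [hPdef]
      rw [CharInd.classInner_indFun_left _ _ (CharCore.IsCharacter.isClassFunction hP),
        CharCore.classInner_def]
      simp only [hval, map_natCast, one_mul]
      rw [← Nat.cast_sum, hsum, Nat.cast_mul, mul_comm (Nat.cast 2 : ℂ), ← mul_assoc,
        inv_mul_cancel₀ (Nat.cast_ne_zero.2 Nat.card_pos.ne'), one_mul, Nat.cast_two]
    have h11 : Cfsg.classInner (1 : G → ℂ) 1 = 1 :=
      CharCore.classInner_irr_self ⟨1, CharCore.isIrrCharacter_one⟩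
    refine CharCore.IsGeneralizedCharacter.isIrr_of_norm_one
      (CharCore.isGeneralized_sub (CharCore.IsCharacter.isGeneralized hP)
        CharCore.isGeneralized_one) ?_ ?_
    · rw [CharCore.classInner_sub_left, CharCore.classInner_sub_right,
        CharCore.classInner_sub_right, hPP, hP1, h11,
        ← CharInd.classInner_swap, hP1, map_one]
      norm_num
    · have := Zass.three_le_card hZ hab
      simp only [Pi.sub_apply, Pi.one_apply, h1, Complex.sub_re, Complex.natCast_re, Complex.one_re]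
      have : (3 : ℝ) ≤ (Fintype.card Ω : ℝ) := by exact_mod_cast this
      linarith
  · rw [hval]
    have : Zass.nfix Ω u = 1 := by
      rw [Zass.nfix, Finset.card_eq_one]
      exact ⟨a, Finset.eq_singleton_iff_unique_mem.2 ⟨by simpa using hU.le hu,
        fun c hc => hU.fix u hu hu1 c (by simpa using hc)⟩⟩
    rw [this, Nat.cast_one]

variable [IsSimpleGroup G] (hodd : Odd (Nat.card ↥(Zass.two G a b)))

include hodd

/-- An irreducible character with fixed vectors of the kernel is constant on its non-identity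
elements. -/
theorem const_of_fixed [Fintype Q] (hc : ∀ x ∈ Q, ∀ y ∈ Q, x * y = y * x)
    (φ : Cfsg.IrrCharacter G) (hφ : (φ : G → ℂ) ≠ 1) (h : mult (φ : G → ℂ) (1 : Q →* ℂˣ) ≠ 0) :
    ∃ c : ℂ, (φ : G → ℂ) 1 ≠ c ∧ ∀ u ∈ Q, u ≠ 1 → (φ : G → ℂ) u = c := by
  classical
  obtain ⟨π, hπ, hπu⟩ := ZassNormal.exists_proj hZ hab hU
  have hker : ∀ g : stabilizer G a, π g = 1 ↔ (g : G) ∈ Q := fun g =>
    ⟨fun h1 => by simpa [h1] using hπ g, fun hg => hπu g 1 (by simpa using hg)⟩
  have hTc : ∀ x y : ↥(Zass.two G a b), x * y = y * x := fun x y =>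
    Subtype.ext (Zass.commute_two hZ hab hU hodd x.2 y.2)
  have := Fintype.ofFinite (↥(Zass.two G a b) →* ℂˣ)
  have hsum : ∑ μ : ↥(Zass.two G a b) →* ℂˣ,
      Cfsg.classInner (fun s : stabilizer G a => (φ : G → ℂ) s) (fun s => (μ.comp π s : ℂ))
        = mult (φ : G → ℂ) (1 : Q →* ℂˣ) := by
    simp only [CharCore.classInner_def, mult]
    rw [← Finset.mul_sum, Finset.sum_comm]
    have hin : ∀ s : stabilizer G a, ∑ μ : ↥(Zass.two G a b) →* ℂˣ,
        (φ : G → ℂ) s * conj ((μ.comp π s : ℂˣ) : ℂ)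
        = if (s : G) ∈ Q then (φ : G → ℂ) s * (Nat.card ↥(Zass.two G a b) : ℂ) else 0 := by
      intro s
      simp only [MonoidHom.comp_apply]
      rw [← Finset.mul_sum, ← map_sum, sum_hom_apply hTc]
      simp only [hker]
      split_ifs <;> simp
    rw [Finset.sum_congr rfl fun s _ => hin s, ← Finset.sum_filter,
      Finset.sum_subtype (p := fun s : stabilizer G a => (s : G) ∈ Q) _ (by simp),
      ← Finset.sum_mul]
    have he : ∑ s : {s : stabilizer G a // (s : G) ∈ Q}, (φ : G → ℂ) (s.1 : G)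
        = ∑ x : Q, (φ : G → ℂ) x :=
      Fintype.sum_equiv
        { toFun := fun s => ⟨(s.1 : G), s.2⟩
          invFun := fun x => ⟨⟨(x : G), hU.le x.2⟩, x.2⟩
          left_inv := fun _ => rfl
          right_inv := fun _ => rfl } _ _ fun _ => rfl
    have hcard : Nat.card (stabilizer G a) = Nat.card Q * Nat.card ↥(Zass.two G a b) := by
      rw [Zass.card_stabilizer hZ hab, ← hU.card, Nat.add_sub_cancel]
    rw [he, hcard, Nat.cast_mul]
    have hT0 : (Nat.card ↥(Zass.two G a b) : ℂ) ≠ 0 := Nat.cast_ne_zero.2 Nat.card_pos.ne'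
    simp only [lamVal, MonoidHom.one_apply, Units.val_one, map_one, mul_one]
    field_simp
  obtain ⟨μ, -, hμ⟩ := Finset.exists_ne_zero_of_sum_ne_zero (hsum ▸ h)
  have h3 := Zass.three_le_card hZ hab
  rw [← CharInd.classInner_indFun_right _ _ (CharCore.irr_isClassFunction φ)] at hμ
  by_cases hμ1 : μ = 1
  · subst hμ1
    obtain ⟨hirr, hP1, hPu⟩ := perm_char_spec hZ hab hU
    have hsame : (fun s : stabilizer G a => (((1 : ↥(Zass.two G a b) →* ℂˣ).comp π s : ℂˣ) : ℂ))
        = fun _ => 1 := by funext s; simp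
    rw [hsame] at hμ
    set P := Cfsg.indFun (stabilizer G a) (fun _ => (1 : ℂ)) with hPdef
    have hne1 : φ ≠ ⟨1, CharCore.isIrrCharacter_one⟩ := fun e => hφ (congrArg Subtype.val e)
    have heq : φ = ⟨P - 1, hirr⟩ := by
      by_contra hne
      apply hμ
      have hd : P = (P - 1) + 1 := (sub_add_cancel P 1).symm
      rw [hd, CharCore.classInner_add_right,
        CharCore.classInner_irr_of_ne (ψ := ⟨P - 1, hirr⟩) hne,
        CharCore.classInner_irr_of_ne (ψ := ⟨1, CharCore.isIrrCharacter_one⟩) hne1, add_zero]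
    have hv : ∀ g, (φ : G → ℂ) g = P g - 1 := fun g => by rw [heq]; rfl
    refine ⟨0, ?_, fun u hu hu1 => by rw [hv, hPu u hu hu1, sub_self]⟩
    rw [hv, hP1, sub_ne_zero]
    exact_mod_cast (show Fintype.card Ω ≠ 1 by omega)
  · have hfH : ∀ u : stabilizer G a, (u : G) ∈ Q → μ.comp π u = 1 := fun u hu => by
      rw [MonoidHom.comp_apply, (hker u).2 hu, map_one]
    have hne : ∃ s, μ.comp π s ≠ 1 := by
      by_contra hcon
      push Not at hcon
      refine hμ1 (MonoidHom.ext fun x => ?_)
      have := hcon ⟨x, x.2.1⟩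
      rwa [MonoidHom.comp_apply, hπu ⟨x, x.2.1⟩ x (by simpa using one_mem Q)] at this
    have hirr := Zass.isIrr_indFun_hom hZ hab (μ.comp π) hodd hU hfH hne
    have heq : (φ : G → ℂ) =
        Cfsg.indFun (stabilizer G a) (fun s => ((μ.comp π) s : ℂ)) := by
      by_contra hne'
      generalize Cfsg.indFun (stabilizer G a) (fun s => ((μ.comp π) s : ℂ)) = ψ
        at hμ hirr hne'
      exact hμ (CharCore.classInner_irr_of_ne (χ := φ) (ψ := ⟨ψ, hirr⟩)
        (fun e => hne' (congrArg Subtype.val e)))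
    refine ⟨1, ?_, fun u hu hu1 => ?_⟩
    · rw [heq, Zass.indFun_hom_one hZ hab (μ.comp π)]
      exact_mod_cast (show Fintype.card Ω ≠ 1 by omega)
    · have hn : Zass.nfix Ω u = 1 := by
        rw [Zass.nfix, Finset.card_eq_one]
        exact ⟨a, Finset.eq_singleton_iff_unique_mem.2 ⟨by simpa using hU.le hu,
          fun c hc => hU.fix u hu hu1 c (by simpa using hc)⟩⟩
      rw [heq, Zass.indFun_hom_fix_one hZ hab (μ.comp π) (hU.le hu) hn, hfH _ hu, Units.val_one]

/-- The norm of an induced character. -/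
theorem psi_norm [Fintype Q] (hc : ∀ x ∈ Q, ∀ y ∈ Q, x * y = y * x) {f : Q →* ℂˣ} (hf : f ≠ 1) :
    Cfsg.classInner (psi f) (psi f) = ((Nat.card ↥(Zass.two G a b) + 1 : ℕ) : ℂ) := by
  classical
  have H := mkCase hZ hab hU hc
  have := Fintype.ofFinite ↥(Zass.two G a b)
  have hψ : Cfsg.IsClassFunction G (psi f) := CharInd.isClassFunction_indFun Q _
  conv_lhs => arg 1; rw [psi]
  rw [CharInd.classInner_indFun_left Q _ hψ]
  have hq : (Nat.card Q : ℂ) ≠ 0 := Nat.cast_ne_zero.2 Nat.card_pos.ne'
  have hG : Nat.card G = Fintype.card Ω * (Nat.card Q * Nat.card ↥(Zass.two G a b)) := by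
    rw [Zass.card_group hZ hab, ← hU.card, Nat.add_sub_cancel]
  have h1 : psi f 1 = (Fintype.card Ω : ℂ) * Nat.card ↥(Zass.two G a b) := by
    rw [psi, CharInd.indFun_apply_one, lamVal_one, mul_one, ← Nat.cast_mul]
    congr 1
    refine Nat.eq_of_mul_eq_mul_left (Nat.card_pos (α := Q)) ?_
    rw [Q.card_mul_index, hG]
    ring
  have e : (fun x : Q => psi f x) = theta H f +
      fun x => if x = 1 then psi f 1 - theta H f 1 else 0 := by
    funext x
    by_cases hx : x = 1
    · subst hx; simp
    · simp [hx, psi_restrict H f hx]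
  rw [e, CharCore.classInner_add_right, inner_theta_eq H f f hf, if_pos (rel_refl H f),
    CharCore.classInner_def]
  simp only [apply_ite (starRingEnd ℂ), map_zero, mul_ite, mul_zero, Finset.sum_ite_eq',
    Finset.mem_univ, if_true, lamVal_one, one_mul]
  rw [theta_one H, h1, map_sub, map_mul, map_natCast, map_natCast]
  have hn : (Fintype.card Ω : ℂ) = (Nat.card Q : ℂ) + 1 := by exact_mod_cast hU.card.symm
  rw [hn]
  push_cast
  field_simp
  ring

/-- The squared multiplicities add up to the norm. -/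
theorem sum_mult_sq [Fintype Q] (hc : ∀ x ∈ Q, ∀ y ∈ Q, x * y = y * x) {f : Q →* ℂˣ}
    (hf : f ≠ 1) (M : Cfsg.IrrCharacter G → ℕ) (hM : ∀ φ : Cfsg.IrrCharacter G, mult (φ : G → ℂ) f = M φ) :
    ∑ φ, M φ * M φ = Nat.card ↥(Zass.two G a b) + 1 := by
  have hψc : Cfsg.IsCharacter G (psi f) := CharInd.isCharacter_indFun Q (isCharacter_lamVal f)
  have hcoef : ∀ φ : Cfsg.IrrCharacter G, Cfsg.classInner (psi f) (φ : G → ℂ) = M φ := fun φ => by
    rw [← CharInd.classInner_swap, ← mult_eq_inner_psi (CharCore.irr_isClassFunction φ), hM,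
      map_natCast]
  have h := CharCore.IsCharacter.eq_sum_classInner hψc
  simp only [hcoef] at h
  have hn := psi_norm hZ hab hU hodd hc hf
  rw [h, CharCore.classInner_sum_sum] at hn
  simp only [map_natCast] at hn
  exact_mod_cast hn

variable (hlt : 2 * Nat.card ↥(Zass.two G a b) < Fintype.card Ω - 2)

include hlt

/-- **The exceptional characters.** -/
theorem exists_exceptional [Fintype Q] (H : Case G Ω a b Q) :
    ∃ χ : (Q →* ℂˣ) → Cfsg.IrrCharacter G,
      (∀ f f', f ≠ 1 → f' ≠ 1 → psi f - psi f' = (χ f : G → ℂ) - (χ f' : G → ℂ)) ∧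
      ∀ f g, f ≠ 1 → (Rel H f g → mult (χ f : G → ℂ) g = 1) ∧
        (¬ Rel H f g → mult (χ f : G → ℂ) g = 0) := by
  classical
  have hc := H.comm
  have hQc : ∀ x y : Q, x * y = y * x := fun x y => Subtype.ext (hc x x.2 y y.2)
  set e := Nat.card ↥(Zass.two G a b) with he
  have := Fintype.ofFinite (Q →* ℂˣ)
  have := Fintype.ofFinite ↥(Zass.two G a b)
  have h3 := Zass.three_le_card hZ hab
  have hqc := hU.card
  -- three orbits
  let orb : (Q →* ℂˣ) → Finset (Q →* ℂˣ) := fun f =>
    Finset.univ.image fun d : ↥(Zass.two G a b) => f.comp (conjQ H d)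
  have horb : ∀ f g, g ∈ orb f ↔ Rel H f g := fun f g => by simp [orb, Rel]
  have horbc : ∀ f, (orb f).card ≤ e := fun f =>
    Finset.card_image_le.trans (le_of_eq (by rw [Finset.card_univ, he, Nat.card_eq_fintype_card]))
  have hL : Fintype.card (Q →* ℂˣ) = Nat.card Q := by
    rw [← Nat.card_eq_fintype_card, card_lam H]
  have pick : ∀ S : Finset (Q →* ℂˣ), S.card ≤ 2 * e + 1 → ∃ f, f ∉ S := by
    intro S hS
    by_contra hcon
    push Not at hcon
    have := Finset.card_le_card (fun f (_ : f ∈ Finset.univ) => hcon f)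
    rw [Finset.card_univ, hL] at this
    omega
  obtain ⟨l₀, hl₀⟩ := pick {1} (by simp)
  obtain ⟨l₁, hl₁⟩ := pick (insert 1 (orb l₀)) (by
    have := Finset.card_insert_le 1 (orb l₀); have := horbc l₀; omega)
  obtain ⟨l₂, hl₂⟩ := pick (insert 1 (orb l₀ ∪ orb l₁)) (by
    have := Finset.card_insert_le 1 (orb l₀ ∪ orb l₁)
    have := Finset.card_union_le (orb l₀) (orb l₁)
    have := horbc l₀; have := horbc l₁; omega)
  simp only [Finset.mem_singleton, Finset.mem_insert, Finset.mem_union, horb, not_or] at hl₀ hl₁ hl₂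
  obtain ⟨ε, χ, hε, hdiff, hiff⟩ := coherence H hl₀ hl₁.1 hl₂.1 hl₁.2 hl₂.2.1 hl₂.2.2
  -- multiplicities
  choose M hM using fun (φ : Cfsg.IrrCharacter G) (f : Q →* ℂˣ) =>
    mult_nat (CharCore.irr_isCharacter φ) f
  have hεc : conj ε = ε := by rcases hε with rfl | rfl <;> simp
  have hMd : ∀ φ f g, f ≠ 1 → g ≠ 1 → (M φ f : ℂ) - M φ g =
      ε * ((if φ = χ f then 1 else 0) - (if φ = χ g then 1 else 0)) := by
    intro φ f g hf hg
    rw [← hM, ← hM, mult_eq_inner_psi (CharCore.irr_isClassFunction φ),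
      mult_eq_inner_psi (CharCore.irr_isClassFunction φ), ← CharCore.classInner_sub_right,
      hdiff f g hf hg, CharCore.classInner_smul_right, hεc, CharCore.classInner_sub_right,
      CharCore.classInner_irr, CharCore.classInner_irr]
  have hM1 : ∀ f, f ≠ 1 → M ⟨1, CharCore.isIrrCharacter_one⟩ f = 0 := by
    intro f hf
    have h : mult (1 : G → ℂ) f = 0 := by
      rw [mult, CharCore.classInner_def]
      simp only [Pi.one_apply, one_mul, ← map_sum, sum_lamVal hf, map_zero, mul_zero]
    have h' := hM ⟨1, CharCore.isIrrCharacter_one⟩ f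
    exact_mod_cast h'.symm.trans h
  -- exceptional characters are not constant on the kernel
  have hnc : ∀ f, f ≠ 1 → (χ f : G → ℂ) ≠ 1 ∧ M (χ f) 1 = 0 := by
    intro f hf
    obtain ⟨g, hg, hfg⟩ : ∃ g, g ≠ 1 ∧ ¬ Rel H f g := by
      by_cases h : Rel H f l₀
      · exact ⟨l₁, hl₁.1, fun h' => hl₁.2 (rel_trans H (rel_symm H h) h')⟩
      · exact ⟨l₀, hl₀, h⟩
    have hd := hMd (χ f) f g hf hg
    rw [if_pos rfl, if_neg (fun h => hfg ((hiff f g hf hg).1 h)), sub_zero, mul_one] at hd
    have hε0 : ε ≠ 0 := by rcases hε with rfl | rfl <;> norm_num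
    have hne1 : (χ f : G → ℂ) ≠ 1 := by
      intro h
      have hh : χ f = ⟨1, CharCore.isIrrCharacter_one⟩ := Subtype.ext h
      rw [hh, hM1 f hf, hM1 g hg] at hd
      exact hε0 (by simpa using hd.symm)
    refine ⟨hne1, ?_⟩
    by_contra h0
    obtain ⟨c, -, hcu⟩ := const_of_fixed hZ hab hU hodd hc (χ f) hne1
      (by rw [hM]; exact_mod_cast h0)
    have hconst : ∀ k, k ≠ 1 → (M (χ f) k : ℂ) = (Nat.card Q : ℂ)⁻¹ * ((χ f : G → ℂ) 1 - c) :=
      fun k hk => by
        rw [← hM, mult, inner_of_const (c := c) (fun x hx => hcu x x.2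
          (fun h => hx (Subtype.ext h))) hk]
        simp
    rw [hconst f hf, hconst g hg, sub_self] at hd
    exact hε0 hd.symm
  -- every other non-principal character contains every non-principal linear character
  set Ex := (Finset.univ.filter fun f : Q →* ℂˣ => f ≠ 1).image χ with hEx
  have hpos : ∀ φ : Cfsg.IrrCharacter G, φ ∉ Ex → (φ : G → ℂ) ≠ 1 → ∀ f, f ≠ 1 → 1 ≤ M φ f := by
    intro φ hφ hφ1 f hf
    by_contra h0
    have h0' : M φ f = 0 := by omega
    have hall : ∀ g, g ≠ 1 → M φ g = 0 := by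
      intro g hg
      have hd := hMd φ f g hf hg
      have hnot : ∀ k, k ≠ 1 → φ ≠ χ k := fun k hk h => hφ (Finset.mem_image.2
        ⟨k, Finset.mem_filter.2 ⟨Finset.mem_univ _, hk⟩, h.symm⟩)
      rw [if_neg (hnot f hf), if_neg (hnot g hg), sub_self, mul_zero, sub_eq_zero, h0'] at hd
      exact_mod_cast hd.symm
    have hval : ∀ x : Q, (φ : G → ℂ) x = M φ 1 := by
      intro x
      rw [← sum_inner_lamVal hQc (fun x : Q => (φ : G → ℂ) x) x,
        Finset.sum_eq_single (1 : Q →* ℂˣ)]
      · rw [show Cfsg.classInner (fun x : Q => (φ : G → ℂ) x) (lamVal (1 : Q →* ℂˣ))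
          = M φ 1 from hM φ 1]
        simp [lamVal]
      · intro g _ hg
        rw [show Cfsg.classInner (fun x : Q => (φ : G → ℂ) x) (lamVal g) = M φ g from hM φ g,
          hall g hg]
        simp
      · simp
    have h1 := hval 1
    rw [OneMemClass.coe_one] at h1
    have hne0 : mult (φ : G → ℂ) (1 : Q →* ℂˣ) ≠ 0 := by
      rw [hM, ← h1]; exact CharCore.irr_apply_one_ne_zero φ
    obtain ⟨c, hc1, hcu⟩ := const_of_fixed hZ hab hU hodd hc φ hφ1 hne0
    obtain ⟨u, hu, hu1⟩ := Zass.kernel_ne_bot hZ hU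
    apply hc1
    rw [h1, ← hval ⟨u, hu⟩]
    exact hcu u hu hu1
  -- counting characters
  have hcount : Ex.card + e + 1 ≤ Fintype.card (Cfsg.IrrCharacter G) := by
    rw [← Nat.card_eq_fintype_card, CharCore.card_irr]
    have := Fintype.ofFinite (ConjClasses G)
    rw [Nat.card_eq_fintype_card]
    set A := ((Finset.univ.filter fun g : G => Zass.nfix Ω g = 0) ∪
      (Finset.univ.filter fun g : G => Zass.nfix Ω g = 2)).image ConjClasses.mk with hA
    set S := (Finset.univ.filter fun x : Q => x ≠ 1).image fun x : Q => ConjClasses.mk (x : G)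
      with hS
    have hA' : e ≤ A.card := Zass.card_classes hZ hab hodd hlt
    have hS' : Ex.card ≤ S.card := by
      have h1 : (Finset.univ.filter fun x : Q => x ≠ 1).card ≤ e * S.card := by
        refine Finset.card_le_mul_card_image _ e fun C hC => ?_
        obtain ⟨x, hx, rfl⟩ := Finset.mem_image.1 hC
        refine le_trans (Finset.card_le_card (t := Finset.univ.image fun d => conjQ H d x) ?_)
          (Finset.card_image_le.trans (le_of_eq (by rw [Finset.card_univ, he,
            Nat.card_eq_fintype_card])))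
        intro y hy
        simp only [Finset.mem_filter, Finset.mem_univ, true_and,
          ConjClasses.mk_eq_mk_iff_isConj] at hy hx
        obtain ⟨g, hg⟩ := isConj_iff.1 hy.2.symm
        have hga : g⁻¹ • a = a := mem_Q_conj_iff H hx (by rw [inv_inv, hg]; exact y.2)
        obtain ⟨u, hu, d, hd, hud⟩ := H.decomp g⁻¹ hga
        refine Finset.mem_image.2 ⟨⟨d, hd⟩, Finset.mem_univ _, Subtype.ext ?_⟩
        rw [conjQ_coe H, ← hg, show g = (g⁻¹)⁻¹ from (inv_inv g).symm, hud]
        calc d⁻¹ * (x : G) * d = d⁻¹ * (u⁻¹ * ((x : G) * u)) * d := by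
              rw [hc x x.2 u hu]; group
          _ = _ := by group
      have h2 : e * Ex.card ≤ (Finset.univ.filter fun f : Q →* ℂˣ => f ≠ 1).card := by
        refine Finset.mul_card_image_le_card _ e fun C hC => ?_
        obtain ⟨f, hf, rfl⟩ := Finset.mem_image.1 hC
        simp only [Finset.mem_filter, Finset.mem_univ, true_and] at hf
        have hcard : (orb f).card = e := by
          rw [Finset.card_image_of_injective _ fun c d h => orbit_inj H hf h, Finset.card_univ, he,
            Nat.card_eq_fintype_card]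
        rw [← hcard]
        refine Finset.card_le_card fun g hg => ?_
        rw [horb] at hg
        have hg1 : g ≠ 1 := by
          rintro rfl
          obtain ⟨d, hd⟩ := rel_symm H hg
          exact hf (by rw [← hd, MonoidHom.one_comp])
        simp only [Finset.mem_filter, Finset.mem_univ, true_and]
        exact ⟨hg1, (hiff g f hg1 hf).2 (rel_symm H hg)⟩
      rw [Finset.filter_ne', Finset.card_erase_of_mem (Finset.mem_univ _), Finset.card_univ] at h1 h2
      rw [hL, Nat.card_eq_fintype_card] at h2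
      exact Nat.le_of_mul_le_mul_left (h2.trans h1) (he ▸ Nat.card_pos)
    have hdis : Disjoint A S := by
      rw [Finset.disjoint_left]
      intro C hCA hCS
      obtain ⟨g, hg, rfl⟩ := Finset.mem_image.1 hCA
      obtain ⟨x, hx, hxg⟩ := Finset.mem_image.1 hCS
      simp only [Finset.mem_filter, Finset.mem_univ, true_and, Finset.mem_union] at hg hx
      obtain ⟨k, hk⟩ := isConj_iff.1 (ConjClasses.mk_eq_mk_iff_isConj.1 hxg)
      rw [← hk, Zass.nfix_conj] at hg
      have hn : Zass.nfix Ω (x : G) = 1 := by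
        rw [Zass.nfix, Finset.card_eq_one]
        exact ⟨a, Finset.eq_singleton_iff_unique_mem.2 ⟨by simpa using hU.le x.2,
          fun c hc => hU.fix x x.2 (fun h => hx (Subtype.ext h)) c (by simpa using hc)⟩⟩
      omega
    have hone : ConjClasses.mk (1 : G) ∉ A ∪ S := by
      intro h
      rcases Finset.mem_union.1 h with h | h
      · obtain ⟨g, hg, hg1⟩ := Finset.mem_image.1 h
        rw [ConjClasses.mk_eq_mk_iff_isConj, isConj_one_left] at hg1
        subst hg1
        simp only [Finset.mem_filter, Finset.mem_univ, true_and, Finset.mem_union,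
          Zass.nfix_one] at hg
        omega
      · obtain ⟨x, hx, hx1⟩ := Finset.mem_image.1 h
        rw [ConjClasses.mk_eq_mk_iff_isConj, isConj_one_left] at hx1
        exact (Finset.mem_filter.1 hx).2 (Subtype.ext hx1)
    have htot := Finset.card_le_univ (insert (ConjClasses.mk (1 : G)) (A ∪ S))
    rw [Finset.card_insert_of_notMem hone, Finset.card_union_of_disjoint hdis] at htot
    omega
  -- at most one exceptional character contains a given linear character
  have hsmall : ∀ f, f ≠ 1 → ∑ φ ∈ Ex, M φ f * M φ f ≤ 1 := by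
    intro f hf
    have htot := sum_mult_sq hZ hab hU hodd hc hf (fun φ => M φ f) fun φ => hM φ f
    set one' : Cfsg.IrrCharacter G := ⟨1, CharCore.isIrrCharacter_one⟩
    have hrest : ((Finset.univ \ Ex).erase one').card ≤
        ∑ φ ∈ (Finset.univ \ Ex).erase one', M φ f * M φ f := by
      rw [Finset.card_eq_sum_ones]
      refine Finset.sum_le_sum fun φ hφ => ?_
      obtain ⟨h1, h2⟩ := Finset.mem_erase.1 hφ
      have := hpos φ (Finset.mem_sdiff.1 h2).2 (fun h => h1 (Subtype.ext h)) f hf
      exact Nat.one_le_iff_ne_zero.2 (by positivity)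
    have hcard : e ≤ ((Finset.univ \ Ex).erase one').card := by
      have h1 := Finset.pred_card_le_card_erase (s := Finset.univ \ Ex) (a := one')
      rw [Finset.card_univ_diff] at h1
      omega
    have hsub : ∑ φ ∈ Ex, M φ f * M φ f + ∑ φ ∈ (Finset.univ \ Ex).erase one', M φ f * M φ f
        ≤ e + 1 := by
      rw [← htot, ← Finset.sum_union]
      · exact Finset.sum_le_sum_of_subset (Finset.subset_univ _)
      · exact (Finset.disjoint_sdiff).mono_right (Finset.erase_subset _ _)
    omega
  have hExmem : ∀ f, f ≠ 1 → χ f ∈ Ex := fun f hf => Finset.mem_image.2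
    ⟨f, Finset.mem_filter.2 ⟨Finset.mem_univ _, hf⟩, rfl⟩
  have hpair : ∀ f, f ≠ 1 → ∀ φ ψ, φ ∈ Ex → ψ ∈ Ex → φ ≠ ψ →
      M φ f * M φ f + M ψ f * M ψ f ≤ 1 := by
    intro f hf φ ψ hφ hψ hne
    refine le_trans ?_ (hsmall f hf)
    rw [← Finset.sum_pair hne (f := fun φ => M φ f * M φ f)]
    exact Finset.sum_le_sum_of_subset (by
      intro x hx
      rcases Finset.mem_insert.1 hx with rfl | hx
      · exact hφ
      · rwa [Finset.mem_singleton.1 hx])
  -- no exceptional character contains a foreign linear character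
  have hfor : ∀ f g, f ≠ 1 → g ≠ 1 → ¬ Rel H f g → M (χ g) f = 0 := by
    intro f g hf hg hfg
    by_contra h0
    have hne : χ f ≠ χ g := fun h => hfg ((hiff f g hf hg).1 h)
    obtain ⟨h, hh, hhf, hhg⟩ : ∃ h, h ≠ 1 ∧ ¬ Rel H f h ∧ ¬ Rel H g h := by
      obtain ⟨h, hh⟩ := pick (insert 1 (orb f ∪ orb g)) (by
        have := Finset.card_insert_le 1 (orb f ∪ orb g)
        have := Finset.card_union_le (orb f) (orb g)
        have := horbc f; have := horbc g; omega)
      simp only [Finset.mem_insert, Finset.mem_union, horb, not_or] at hh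
      exact ⟨h, hh.1, hh.2.1, hh.2.2⟩
    have hgne : χ g ≠ χ h := fun e => hhg ((hiff g h hg hh).1 e)
    have hfne : χ f ≠ χ h := fun e => hhf ((hiff f h hf hh).1 e)
    have p1 := hpair f hf _ _ (hExmem g hg) (hExmem f hf) hne.symm
    have hgf : M (χ f) f = 0 := by nlinarith [Nat.pos_of_ne_zero h0]
    have hhf0 : M (χ h) f = 0 := by
      have := hpair f hf _ _ (hExmem g hg) (hExmem h hh) hgne
      nlinarith [Nat.pos_of_ne_zero h0]
    have d1 := hMd (χ f) f g hf hg
    rw [if_pos rfl, if_neg hne, hgf, sub_zero, mul_one] at d1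
    have d2 := hMd (χ h) h f hh hf
    rw [if_pos rfl, if_neg hfne.symm, hhf0, sub_zero, mul_one] at d2
    rcases hε with rfl | rfl
    · have : (M (χ f) g : ℂ) + 1 = 0 := by linear_combination -d1
      have : M (χ f) g + 1 = 0 := by exact_mod_cast this
      omega
    · have : (M (χ h) h : ℂ) + 1 = 0 := by linear_combination d2
      have : M (χ h) h + 1 = 0 := by exact_mod_cast this
      omega
  -- conclusion
  have hself : ∀ f, f ≠ 1 → ε = 1 ∧ M (χ f) f = 1 := by
    intro f hf
    obtain ⟨g, hg, hfg⟩ : ∃ g, g ≠ 1 ∧ ¬ Rel H f g := by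
      by_cases h : Rel H f l₀
      · exact ⟨l₁, hl₁.1, fun h' => hl₁.2 (rel_trans H (rel_symm H h) h')⟩
      · exact ⟨l₀, hl₀, h⟩
    have hd := hMd (χ f) f g hf hg
    rw [if_pos rfl, if_neg (fun h => hfg ((hiff f g hf hg).1 h)), sub_zero, mul_one,
      hfor g f hg hf (fun h => hfg (rel_symm H h)), Nat.cast_zero, sub_zero] at hd
    rcases hε with rfl | rfl
    · exact ⟨rfl, by exact_mod_cast hd⟩
    · have : (M (χ f) f : ℂ) + 1 = 0 := by rw [hd]; ring
      have : M (χ f) f + 1 = 0 := by exact_mod_cast this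
      omega
  have hε1 : ε = 1 := (hself l₀ hl₀).1
  subst hε1
  refine ⟨χ, fun f f' hf hf' => by rw [hdiff f f' hf hf', one_smul], fun f g hf => ⟨fun hfg => ?_,
    fun hfg => ?_⟩⟩
  · have hg : g ≠ 1 := by
      rintro rfl
      obtain ⟨d, hd⟩ := rel_symm H hfg
      exact hf (by rw [← hd, MonoidHom.one_comp])
    rw [hM, (hiff f g hf hg).2 hfg, (hself g hg).2, Nat.cast_one]
  · by_cases hg : g = 1
    · subst hg
      rw [hM, (hnc f hf).2, Nat.cast_zero]
    · rw [hM, hfor g f hg hf (fun h => hfg (rel_symm H h)), Nat.cast_zero]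

end Cfsg.Agent.PermB.AbZass
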