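import Cfsg.Agent.PermB.AbExceptional

/-!
A simple Zassenhaus group with abelian kernel `Q` and two-point stabilisers of odd order `e` has
`|Q| - 1 ≤ 2 e`.  The exceptional characters have degree `e`; their values on the coset `t Q` of
an involution give, for each linear character of `Q`, at most two values on the points `u` with
`t u` conjugate into `Q`, which is absurd.
-/

set_option autoImplicit false
set_option linter.unusedSectionVars false
set_option maxHeartbeats 1600000

namespace Cfsg.Agent.PermB.AbZass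

open MulAction Finset
open Cfsg.Agent.CharDeep
open scoped ComplexConjugate

/-! ### Auxiliary facts -/

theorem trace_idem_eq_zero {n : ℕ} {P : Module.End ℂ (Fin n → ℂ)} (hP : P * P = P)
    (h : LinearMap.trace ℂ _ P = 0) : P = 0 := by
  have hp := LinearMap.IsIdempotentElem.isProj_range (f := P) hP
  rw [hp.trace] at h
  have h0 : Module.finrank ℂ (LinearMap.range P) = 0 := by exact_mod_cast h
  exact LinearMap.range_eq_bot.1 (Submodule.finrank_eq_zero.1 h0)

theorem sandwich_of_trace_one {n : ℕ} {P : Module.End ℂ (Fin n → ℂ)} (hP : P * P = P)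
    (h : LinearMap.trace ℂ _ P = 1) (A : Module.End ℂ (Fin n → ℂ)) :
    P * A * P = LinearMap.trace ℂ _ (P * A) • P := by
  have hp := LinearMap.IsIdempotentElem.isProj_range (f := P) hP
  have h1 : Module.finrank ℂ (LinearMap.range P) = 1 := by
    have := hp.trace.symm.trans h
    exact_mod_cast this
  obtain ⟨v, hv, hspan⟩ := finrank_eq_one_iff'.1 h1
  obtain ⟨c, hc⟩ := hspan ⟨P (A v), LinearMap.mem_range_self P _⟩
  have hc' : c • (v : Fin n → ℂ) = P (A v) := congrArg Subtype.val hc
  have key : P * A * P = c • P := by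
    refine LinearMap.ext fun x => ?_
    obtain ⟨d, hd⟩ := hspan ⟨P x, LinearMap.mem_range_self P x⟩
    have hd' : d • (v : Fin n → ℂ) = P x := congrArg Subtype.val hd
    show P (A (P x)) = c • P x
    rw [← hd', map_smul, map_smul, ← hc', smul_comm]
  have htr := congrArg (LinearMap.trace ℂ (Fin n → ℂ)) key
  rw [LinearMap.trace_mul_comm, ← mul_assoc, hP, map_smul, h, smul_eq_mul, mul_one] at htr
  rw [key, htr]

theorem units_affine {z₁ z₂ z₃ : ℂ} (h1 : ‖z₁‖ = 1) (h2 : ‖z₂‖ = 1) (h3 : ‖z₃‖ = 1)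
    (h12 : z₁ ≠ z₂) (h13 : z₁ ≠ z₃) (h23 : z₂ ≠ z₃) {a b : ℂ} (ha : conj a = a) (ha0 : a ≠ 0)
    (w1 : ‖a * z₁ + b‖ = 1) (w2 : ‖a * z₂ + b‖ = 1) (w3 : ‖a * z₃ + b‖ = 1) : b = 0 := by
  have un : ∀ {z : ℂ}, ‖z‖ = 1 → z * conj z = 1 := fun {z} hz => by
    rw [Complex.mul_conj, Complex.normSq_eq_norm_sq, hz]; norm_num
  have hpair : ∀ {z z' : ℂ}, ‖z‖ = 1 → ‖z'‖ = 1 → ‖a * z + b‖ = 1 → ‖a * z' + b‖ = 1 → z ≠ z' →
      conj b * (z * z') = b := by
    intro z z' hz hz' hw hw' hne
    have e1 := un hw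
    have e2 := un hw'
    rw [map_add, map_mul, ha] at e1 e2
    have u1 := un hz
    have u2 := un hz'
    have hk : a * (z - z') * (conj b * (z * z') - b) = 0 := by
      linear_combination (z * z') * e1 - (z * z') * e2 - (a * a * z * z') * u1
        + (a * a * z * z') * u2 - (a * b * z') * u1 + (a * b * z) * u2
    rcases mul_eq_zero.1 hk with h | h
    · rcases mul_eq_zero.1 h with h | h
      · exact absurd h ha0
      · exact absurd (sub_eq_zero.1 h) hne
    · exact sub_eq_zero.1 h
  have e12 := hpair h1 h2 w1 w2 h12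
  have e13 := hpair h1 h3 w1 w3 h13
  by_contra hb
  have hcb : conj b ≠ 0 := fun h => hb (by simpa using congrArg conj h)
  have hz1 : z₁ ≠ 0 := fun h => by rw [h] at h1; norm_num at h1
  exact h23 (mul_left_cancel₀ hz1 (mul_left_cancel₀ hcb (e12.trans e13.symm)))

/-- Three elements of an abelian group are separated by some character, unless one of the
quotients is an involution. -/
theorem no_three_points {A : Type*} [Group A] [Finite A] (hc : ∀ x y : A, x * y = y * x)
    {x y : A} (hx : x ≠ 1) (hy : y ≠ 1) (hxy : y ≠ x) (hx2 : x * x ≠ 1)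
    (h : ∀ f : A →* ℂˣ, f x = 1 ∨ f y = 1 ∨ f x = f y) : False := by
  letI : CommGroup A := { (inferInstance : Group A) with mul_comm := hc }
  haveI : NeZero (Monoid.exponent A) := ⟨Monoid.exponent_ne_zero_of_finite⟩
  obtain ⟨l, hl⟩ := CommGroup.exists_apply_ne_one_of_hasEnoughRootsOfUnity A ℂ hx2
  rw [map_mul] at hl
  have hlx : l x ≠ 1 := fun e => hl (by rw [e, one_mul])
  have hA : ∀ μ : A →* ℂˣ, μ x = 1 → μ y = 1 := by
    intro μ hμ
    by_contra hμy
    have hk : ∀ ν : A →* ℂˣ, ν x = 1 → (l * ν) y = 1 ∨ (l * ν) y = l x := by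
      intro ν hν
      rcases h (l * ν) with h' | h' | h'
      · exact absurd (by simpa [hν] using h') hlx
      · exact Or.inl h'
      · exact Or.inr (by simpa [hν] using h'.symm)
    have k0 := hk 1 (by simp)
    have k1 := hk μ hμ
    have k2 := hk (μ * μ) (by simp [hμ])
    simp only [MonoidHom.mul_apply, MonoidHom.one_apply, mul_one] at k0 k1 k2
    rcases k0 with k0 | k0 <;> simp only [k0, one_mul] at k1 k2
    · rcases k1 with k1 | k1
      · exact hμy k1
      · rcases k2 with k2 | k2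
        · exact hl (by rw [← k1]; exact k2)
        · exact hμy (mul_eq_right.1 (k2.trans k1.symm))
    · rcases k1 with k1 | k1
      · rcases k2 with k2 | k2
        · exact hμy (mul_eq_right.1 (mul_left_cancel (k2.trans k1.symm)))
        · rw [mul_eq_left] at k2
          have : μ y = (l x)⁻¹ := eq_inv_of_mul_eq_one_right k1
          rw [this, ← mul_inv_rev, inv_eq_one] at k2
          exact hl k2
      · exact hμy (mul_eq_left.1 k1)
  have hyx : y ∈ Subgroup.zpowers x := by
    by_contra hn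
    obtain ⟨ν, hν⟩ := CommGroup.exists_apply_ne_one_of_hasEnoughRootsOfUnity
      (A ⧸ Subgroup.zpowers x) ℂ (a := (y : A ⧸ Subgroup.zpowers x))
      (fun e => hn ((QuotientGroup.eq_one_iff y).1 e))
    refine hν (hA (ν.comp (QuotientGroup.mk' (Subgroup.zpowers x))) ?_)
    rw [MonoidHom.comp_apply, QuotientGroup.mk'_apply,
      (QuotientGroup.eq_one_iff x).2 (Subgroup.mem_zpowers x), map_one]
  -- every character kills `y` or `y / x`
  have hu : ∀ f : A →* ℂˣ, f y = 1 ∨ f (y * x⁻¹) = 1 := by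
    intro f
    rcases h f with h' | h' | h'
    · exact Or.inl (hA f h')
    · exact Or.inl h'
    · exact Or.inr (by rw [map_mul, map_inv, h', mul_inv_cancel])
  obtain ⟨f₁, hf₁⟩ := CommGroup.exists_apply_ne_one_of_hasEnoughRootsOfUnity A ℂ hy
  obtain ⟨f₂, hf₂⟩ := CommGroup.exists_apply_ne_one_of_hasEnoughRootsOfUnity A ℂ
    (a := y * x⁻¹) (fun e => hxy (mul_inv_eq_one.1 e))
  have e₁ := (hu f₁).resolve_left hf₁
  have e₂ := (hu f₂).resolve_right hf₂
  rcases hu (f₁ * f₂) with h' | h'
  · rw [MonoidHom.mul_apply, e₂, mul_one] at h'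
    exact hf₁ h'
  · rw [MonoidHom.mul_apply, e₁, one_mul] at h'
    exact hf₂ h'

variable {G Ω : Type*} [Group G] [Fintype G] [DecidableEq G] [MulAction G Ω] [Fintype Ω]
  [DecidableEq Ω] {a b : Ω} {Q : Subgroup G}

/-! ### The values on `t Q` -/

/-- The trace of `t` on an eigenspace of `Q`. -/
noncomputable def coef [Fintype Q] (X : G → ℂ) (t : G) (l : Q →* ℂˣ) : ℂ :=
  Cfsg.classInner (fun u : Q => X (t * u)) (lamVal l)

/-- The traces of an inverting involution on the eigenspaces of the kernel, in an exceptional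
representation. -/
theorem coef_spec [Fintype Q] [Fintype ↥(Zass.two G a b)] (H : Case G Ω a b Q) {n : ℕ}
    (ρ : Representation ℂ G (Fin n → ℂ)) {f : Q →* ℂˣ} (hf : f ≠ 1)
    (hmult : ∀ g, (Rel H f g → mult ρ.character g = 1) ∧ (¬ Rel H f g → mult ρ.character g = 0))
    (hodd : Odd (Nat.card ↥(Zass.two G a b))) {t : G} (ht : t * t = 1)
    (hinv : ∀ d ∈ Zass.two G a b, t * d = d⁻¹ * t)
    (hconst : ∀ d ∈ Zass.two G a b, ρ.character (t * d) = ρ.character t) :
    (∀ l : Q →* ℂˣ, ¬ Rel H f l → coef ρ.character t l = 0) ∧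
    (∀ l : Q →* ℂˣ, conj (coef ρ.character t l) = coef ρ.character t l) ∧
    (∑ d : ↥(Zass.two G a b), coef ρ.character t (f.comp (conjQ H d)) *
      coef ρ.character t (f.comp (conjQ H d)) = 1) ∧
    ((∑ d : ↥(Zass.two G a b), coef ρ.character t (f.comp (conjQ H d))) = 1 ∨
      (∑ d : ↥(Zass.two G a b), coef ρ.character t (f.comp (conjQ H d))) = -1) := by
  classical
  have := H.fin
  have := Fintype.ofFinite (Q →* ℂˣ)
  have hQc : ∀ x y : Q, x * y = y * x := fun x y => Subtype.ext (H.comm x x.2 y y.2)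
  have hq : (Nat.card Q : ℂ) ≠ 0 := Nat.cast_ne_zero.2 Nat.card_pos.ne'
  have hchar : ∀ g, ρ.character g = (LinearMap.trace ℂ (Fin n → ℂ)) (ρ g) := fun g => rfl
  let E : (Q →* ℂˣ) → Module.End ℂ (Fin n → ℂ) := fun l =>
    (Nat.card Q : ℂ)⁻¹ • ∑ u : Q, conj (lamVal l u) • ρ (u : G)
  have hlinv : ∀ (l : Q →* ℂˣ) (u : Q), conj (lamVal l u) = lamVal l u⁻¹ := fun l u =>
    (CharCore.IsCharacter.apply_inv (isCharacter_lamVal l) u).symm
  have hρE : ∀ (l : Q →* ℂˣ) (u : Q), ρ (u : G) * E l = lamVal l u • E l := by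
    intro l u
    simp only [E, mul_smul_comm, Finset.mul_sum, smul_comm (lamVal l u) (Nat.card Q : ℂ)⁻¹]
    congr 1
    rw [Finset.smul_sum]
    refine Fintype.sum_equiv (Equiv.mulLeft u) _ _ fun v => ?_
    rw [Equiv.coe_mulLeft, Subgroup.coe_mul, map_mul, smul_smul, hlinv, hlinv, ← lamVal_mul,
      show u * (u * v)⁻¹ = v⁻¹ by rw [mul_inv_rev, hQc v⁻¹ u⁻¹, ← mul_assoc, mul_inv_cancel,
        one_mul]]
  have hEE : ∀ l l', E l * E l' = if l' = l then E l' else 0 := by
    intro l l'
    conv_lhs => simp only [E, smul_mul_assoc, Finset.sum_mul]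
    rw [show (Nat.card Q : ℂ)⁻¹ • ∑ u : Q, conj (lamVal l u) • (ρ (u : G) * E l')
      = ((Nat.card Q : ℂ)⁻¹ * ∑ u : Q, lamVal l' u * conj (lamVal l u)) • E l' by
        rw [mul_smul, Finset.sum_smul]
        congr 1
        refine Finset.sum_congr rfl fun u _ => ?_
        rw [hρE, smul_smul, mul_comm]]
    rw [show (Nat.card Q : ℂ)⁻¹ * ∑ u : Q, lamVal l' u * conj (lamVal l u)
      = Cfsg.classInner (lamVal l') (lamVal l) from rfl, sum_lamVal_inner]
    split_ifs <;> simp
  have htrE : ∀ l, (LinearMap.trace ℂ (Fin n → ℂ)) (E l) = mult ρ.character l := by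
    intro l
    simp only [E, map_smul, map_sum, smul_eq_mul, mult, CharCore.classInner_def, hchar]
    congr 1
    exact Finset.sum_congr rfl fun u _ => mul_comm _ _
  have hE0 : ∀ l, ¬ Rel H f l → E l = 0 := fun l hl =>
    trace_idem_eq_zero (by rw [hEE, if_pos rfl]) ((htrE l).trans ((hmult l).2 hl))
  have hcoef : ∀ l, coef ρ.character t l = (LinearMap.trace ℂ (Fin n → ℂ)) (ρ t * E l) := by
    intro l
    simp only [E, mul_smul_comm, Finset.mul_sum, map_smul, map_sum, smul_eq_mul, coef,
      CharCore.classInner_def, hchar, map_mul]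
    congr 1
    funext i
    rw [mul_comm (conj (lamVal l i))]
  -- the orbit
  let F : ↥(Zass.two G a b) → Module.End ℂ (Fin n → ℂ) := fun d => E (f.comp (conjQ H d))
  have hFE : ∀ d, F d = ρ (d : G) * E f * ρ (d : G)⁻¹ := by
    intro d
    simp only [F, E, mul_smul_comm, smul_mul_assoc, Finset.mul_sum, Finset.sum_mul]
    congr 1
    refine (Fintype.sum_equiv (Equiv.ofBijective (conjQ H d)
      (Finite.injective_iff_bijective.1 fun x y e => Subtype.ext (by
        have e' := congrArg Subtype.val e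
        simpa [conjQ_coe] using e'))) _ _ fun v => ?_)
    rw [Equiv.ofBijective_apply, conjQ_coe, ← map_mul, ← map_mul]
    simp only [lamVal, MonoidHom.comp_apply]
    congr 2
    group
  have hF1 : F 1 = E f := by simp [F, conjQ_one H]
  have hFinj : Function.Injective fun d => f.comp (conjQ H d) := fun c d e => orbit_inj H hf e
  have hFF : ∀ c d, F c * F d = if d = c then F d else 0 := fun c d => by
    simp only [F, hEE, hFinj.eq_iff]
  have hFtr : ∀ d, (LinearMap.trace ℂ (Fin n → ℂ)) (F d) = 1 := fun d => (htrE _).trans ((hmult _).1 ⟨d, rfl⟩)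
  have hsum : ∑ d, F d = 1 := by
    have h1 : ∑ l : Q →* ℂˣ, E l = 1 := by
      simp only [E]
      rw [← Finset.smul_sum, Finset.sum_comm]
      have hu : ∀ u : Q, ∑ l : Q →* ℂˣ, conj (lamVal l u) • ρ (u : G)
          = if u = 1 then (Nat.card Q : ℂ) • (1 : Module.End ℂ (Fin n → ℂ)) else 0 := by
        intro u
        rw [← Finset.sum_smul, ← map_sum]
        simp only [lamVal]
        rw [sum_hom_apply hQc]
        split_ifs with h
        · subst h; rw [map_natCast, OneMemClass.coe_one, map_one]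
        · simp
      rw [Finset.sum_congr rfl fun u _ => hu u, Finset.sum_ite_eq', if_pos (Finset.mem_univ _),
        smul_smul, inv_mul_cancel₀ hq, one_smul]
    rw [← h1]
    refine (Finset.sum_image (f := E) (g := fun d => f.comp (conjQ H d))
      fun x _ y _ e => hFinj e).symm.trans ?_
    refine Finset.sum_subset (Finset.subset_univ _) fun l _ hl => hE0 l fun ⟨d, hd⟩ => hl ?_
    exact Finset.mem_image.2 ⟨d, Finset.mem_univ _, hd⟩
  have hρF : ∀ c d : ↥(Zass.two G a b), ρ (d : G) * F c = F (d * c) * ρ (d : G) := by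
    intro c d
    have e : ρ ((d * c : ↥(Zass.two G a b)) : G)⁻¹ * ρ (d : G) = ρ (c : G)⁻¹ := by
      rw [← map_mul]; congr 1; simp
    rw [hFE, hFE, mul_assoc _ _ (ρ (d : G)), e, Subgroup.coe_mul, map_mul]
    simp only [mul_assoc]
  set W := ρ t with hW
  have hWW : W * W = 1 := by rw [hW, ← map_mul, ht, map_one]
  have hg : ∀ d, coef ρ.character t (f.comp (conjQ H d)) = (LinearMap.trace ℂ (Fin n → ℂ)) (W * F d) := fun d => hcoef _
  refine ⟨fun l hl => by rw [hcoef, hE0 l hl, mul_zero, map_zero], fun l => ?_, ?_, ?_⟩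
  · -- reality
    simp only [coef, CharCore.classInner_def, map_mul, map_inv₀, map_natCast, map_sum,
      Complex.conj_conj]
    congr 1
    refine Fintype.sum_equiv (Equiv.inv Q) _ _ fun u => ?_
    rw [Equiv.inv_apply, hlinv, inv_inv, ← CharCore.IsCharacter.apply_inv
      (CharCore.isCharacter_character ρ) (t * u)]
    congr 1
    rw [mul_inv_rev, inv_eq_of_mul_eq_one_right ht, Subgroup.coe_inv, Representation.char_mul_comm]
  · -- the squares
    simp only [hg]
    have hsq : ∀ s : ↥(Zass.two G a b),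
        (LinearMap.trace ℂ (Fin n → ℂ)) (E f * W * F (s * s) * W) = (LinearMap.trace ℂ (Fin n → ℂ)) (W * F s) * (LinearMap.trace ℂ (Fin n → ℂ)) (W * F s) := by
      intro s
      have hs : ρ (s : G) * W * ρ (s : G) = W := by
        rw [hW, ← map_mul, ← map_mul, mul_assoc, hinv s s.2, ← mul_assoc, mul_inv_cancel, one_mul]
      have hs' : ρ (s : G)⁻¹ * W * ρ (s : G)⁻¹ = W := by
        rw [hW, ← map_mul, ← map_mul]
        congr 1
        have h := hinv (s : G)⁻¹ (inv_mem s.2)
        rw [mul_assoc, h, inv_inv, ← mul_assoc, inv_mul_cancel, one_mul]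
      have hr : ρ (s : G)⁻¹ * ρ (s : G) = 1 := by rw [← map_mul, inv_mul_cancel, map_one]
      have hr' : ρ (s : G) * ρ (s : G)⁻¹ = 1 := by rw [← map_mul, mul_inv_cancel, map_one]
      have hEf : E f = ρ (s : G)⁻¹ * F s * ρ (s : G) := by
        rw [hFE]
        simp only [← mul_assoc, hr, one_mul]
        rw [mul_assoc, hr, mul_one]
      have hFss : F (s * s) = ρ (s : G) * F s * ρ (s : G)⁻¹ := by
        rw [hρF, mul_assoc, hr', mul_one]
      calc (LinearMap.trace ℂ (Fin n → ℂ)) (E f * W * F (s * s) * W)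
          = (LinearMap.trace ℂ (Fin n → ℂ)) (ρ (s : G)⁻¹ * (F s * (ρ (s : G) * W * ρ (s : G)) * F s * (ρ (s : G)⁻¹ * W))) := by
            rw [hEf, hFss]; simp only [mul_assoc]
        _ = (LinearMap.trace ℂ (Fin n → ℂ)) (F s * W * F s * (ρ (s : G)⁻¹ * W * ρ (s : G)⁻¹)) := by
            rw [hs, LinearMap.trace_mul_comm]; simp only [mul_assoc]
        _ = _ := by
            rw [hs', sandwich_of_trace_one (by rw [hFF, if_pos rfl]) (hFtr s), smul_mul_assoc,
              map_smul, smul_eq_mul, LinearMap.trace_mul_comm]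
    have hbij : Function.Bijective fun s : ↥(Zass.two G a b) => s * s := by
      have h := (powCoprime (G := ↥(Zass.two G a b)) (n := 2)
        (Nat.coprime_two_right.2 hodd)).bijective
      convert h using 1
      funext s
      exact (pow_two s).symm
    rw [Finset.sum_congr rfl fun s _ => (hsq s).symm,
      Fintype.sum_bijective _ hbij _ (fun d => (LinearMap.trace ℂ (Fin n → ℂ)) (E f * W * F d * W)) fun _ => rfl,
      ← map_sum, ← Finset.sum_mul, ← Finset.mul_sum, hsum, mul_one, mul_assoc, hWW, mul_one]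
    exact (htrE f).trans ((hmult f).1 (rel_refl H f))
  · -- the sum
    simp only [hg]
    rw [← map_sum, ← Finset.mul_sum, hsum, mul_one]
    set e : ℂ := (Nat.card ↥(Zass.two G a b) : ℂ) with he
    have he0 : e ≠ 0 := Nat.cast_ne_zero.2 Nat.card_pos.ne'
    let P : Module.End ℂ (Fin n → ℂ) := e⁻¹ • ∑ d : ↥(Zass.two G a b), ρ (d : G)
    have hdP : ∀ d : ↥(Zass.two G a b), ρ (d : G) * P = P := by
      intro d
      simp only [P, mul_smul_comm, Finset.mul_sum]
      congr 1
      exact Fintype.sum_equiv (Equiv.mulLeft d) _ _ fun c => by simp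
    have hPP : P * P = P := by
      conv_lhs => arg 1; simp only [P]
      rw [smul_mul_assoc, Finset.sum_mul, Finset.sum_congr rfl fun d _ => hdP d,
        Finset.sum_const, Finset.card_univ, ← Nat.card_eq_fintype_card, ← Nat.cast_smul_eq_nsmul ℂ,
        smul_smul, inv_mul_cancel₀ he0, one_smul]
    have hX : ∀ d : ↥(Zass.two G a b), (LinearMap.trace ℂ (Fin n → ℂ)) (ρ (d : G)) = if d = 1 then e else 0 := by
      intro d
      have h1 : (LinearMap.trace ℂ (Fin n → ℂ)) (ρ (d : G)) = ∑ c, (LinearMap.trace ℂ (Fin n → ℂ)) (ρ (d : G) * F c) := by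
        rw [← map_sum, ← Finset.mul_sum, hsum, mul_one]
      rw [h1]
      split_ifs with h
      · subst h
        simp only [OneMemClass.coe_one, map_one, one_mul, hFtr, Finset.sum_const, Finset.card_univ,
          nsmul_eq_mul, mul_one, he, Nat.card_eq_fintype_card]
      · refine Finset.sum_eq_zero fun c _ => ?_
        have hc : F c = F c * F c := by rw [hFF, if_pos rfl]
        rw [hc, ← mul_assoc, LinearMap.trace_mul_comm, hρF, ← mul_assoc, hFF,
          if_neg (fun e' => h (mul_eq_right.1 e')), zero_mul, map_zero]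
    have hPtr : (LinearMap.trace ℂ (Fin n → ℂ)) P = 1 := by
      simp only [P, map_smul, map_sum, hX, Finset.sum_ite_eq', Finset.mem_univ, if_true,
        smul_eq_mul, inv_mul_cancel₀ he0]
    have hWP : W * P = P * W := by
      simp only [P, mul_smul_comm, smul_mul_assoc, Finset.mul_sum, Finset.sum_mul]
      congr 1
      refine Fintype.sum_equiv (Equiv.inv _) _ _ fun d => ?_
      rw [Equiv.inv_apply, hW, ← map_mul, ← map_mul, hinv d d.2, Subgroup.coe_inv]
    set c := (LinearMap.trace ℂ (Fin n → ℂ)) (P * W) with hc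
    have hcP : W * P = c • P := by
      rw [← sandwich_of_trace_one hPP hPtr W, ← hWP, mul_assoc, hPP]
    have hcc : c * c = 1 := by
      have h : W * (W * P) = W * (c • P) := congrArg (W * ·) hcP
      rw [← mul_assoc, hWW, one_mul, mul_smul_comm, hcP, smul_smul] at h
      have h' := congrArg (LinearMap.trace ℂ (Fin n → ℂ)) h
      rw [hPtr, LinearMap.map_smul (LinearMap.trace ℂ (Fin n → ℂ)) (c * c) P, hPtr, smul_eq_mul,
        mul_one] at h'
      exact h'.symm
    have hcW : c = (LinearMap.trace ℂ (Fin n → ℂ)) W := by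
      rw [hc, ← hWP]
      simp only [P, mul_smul_comm, Finset.mul_sum, map_smul, map_sum, smul_eq_mul]
      rw [← Finset.mul_sum, Finset.sum_congr rfl fun (d : ↥(Zass.two G a b)) _ => show (LinearMap.trace ℂ (Fin n → ℂ)) (W * ρ (d : G)) = (LinearMap.trace ℂ (Fin n → ℂ)) W by
        rw [hW, ← map_mul, ← hchar, hconst d d.2, hchar], Finset.sum_const, Finset.card_univ,
        ← Nat.card_eq_fintype_card, nsmul_eq_mul, ← he, ← mul_assoc, inv_mul_cancel₀ he0, one_mul]
    rw [← hcW]
    exact mul_self_eq_one_iff.1 hcc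

end Cfsg.Agent.PermB.AbZass
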