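import Mathlib.GroupTheory.GroupAction.MultipleTransitivity
import Mathlib.GroupTheory.GroupAction.FixingSubgroup
import Mathlib.GroupTheory.PGroup
import Mathlib.Data.Fintype.Card

/-!
Elementary criteria for multiple transitivity via pointwise fixing subgroups.
-/

set_option autoImplicit false

namespace Cfsg.Agent.PermB

open MulAction

/-- If for every `j`-set the pointwise fixing subgroup is transitive on the other points and
`j + 2` does not exceed the degree, the action is `(j+1)`-transitive. -/
theorem isMultiplyPretransitive_succ_of_fixing {G α : Type*} [Group G] [MulAction G α]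
    [Fintype α] {j : ℕ} (hn : j + 2 ≤ Fintype.card α)
    (h : ∀ t : Finset α, t.card = j → ∀ a, a ∉ t → ∀ b, b ∉ t →
      ∃ g ∈ fixingSubgroup G (t : Set α), g • a = b) :
    IsMultiplyPretransitive G α (j + 1) := by
  classical
  rw [MulAction.isMultiplyPretransitive_iff]
  intro x y
  suffices ∀ i ≤ j + 1, ∃ g : G, ∀ k : Fin (j + 1), (k : ℕ) < i → g • x k = y k by
    obtain ⟨g, hg⟩ := this (j + 1) le_rfl
    exact ⟨g, by ext k; exact hg k k.2⟩
  intro i
  induction i with
  | zero => exact fun _ => ⟨1, fun k hk => absurd hk (by omega)⟩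
  | succ i ih =>
    intro hi
    obtain ⟨g, hg⟩ := ih (by omega)
    set p : Fin (j + 1) := ⟨i, by omega⟩
    set S : Finset α := (Finset.Iio p).image y with hS
    have hSc : S.card ≤ j := by
      calc S.card ≤ (Finset.Iio p).card := Finset.card_image_le
        _ = i := by simp [p]
        _ ≤ j := by omega
    have hsub : S ⊆ Finset.univ \ {g • x p, y p} := by
      intro z hz
      simp only [hS, Finset.mem_image, Finset.mem_Iio] at hz
      obtain ⟨k, hk, rfl⟩ := hz
      simp only [Finset.mem_sdiff, Finset.mem_univ, Finset.mem_insert, Finset.mem_singleton,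
        true_and, not_or]
      refine ⟨?_, fun e => hk.ne (y.injective e)⟩
      intro e
      rw [← hg k hk] at e
      exact hk.ne (x.injective (MulAction.injective g e))
    have hbig : j ≤ (Finset.univ \ {g • x p, y p}).card := by
      have h1 := Finset.le_card_sdiff {g • x p, y p} (Finset.univ : Finset α)
      have h2 : ({g • x p, y p} : Finset α).card ≤ 2 := Finset.card_le_two
      rw [Finset.card_univ] at h1
      omega
    obtain ⟨t, hSt, htu, htc⟩ := Finset.exists_subsuperset_card_eq hsub hSc hbig
    have hnot : ∀ z ∈ ({g • x p, y p} : Finset α), z ∉ t := fun z hz hzt =>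
      (Finset.mem_sdiff.mp (htu hzt)).2 hz
    obtain ⟨k', hk', hk'e⟩ := h t htc (g • x p) (hnot _ (by simp)) (y p) (hnot _ (by simp))
    refine ⟨k' * g, fun k hk => ?_⟩
    rcases Nat.lt_succ_iff_lt_or_eq.mp hk with hlt | heq
    · rw [mul_smul, hg k hlt]
      refine (mem_fixingSubgroup_iff G).mp hk' (y k) (hSt ?_)
      exact Finset.mem_image_of_mem _ (Finset.mem_Iio.mpr hlt)
    · have : k = p := Fin.ext heq
      rw [this, mul_smul, hk'e]

/-- A `p`-group `P` inside a subgroup `H`: the size of an `H`-orbit is congruent mod `p` to the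
number of points fixed by `P` in it. -/
theorem card_orbit_modEq_card_inter_fixedPoints {G α : Type*} [Group G] [MulAction G α]
    [Finite α] {p : ℕ} [Fact p.Prime] (H P : Subgroup G) (hP : IsPGroup p P) (hPH : P ≤ H)
    (a : α) :
    Nat.card (orbit H a) ≡ (orbit H a ∩ fixedPoints P α).ncard [MOD p] := by
  have hP' : IsPGroup p (P.subgroupOf H) :=
    hP.of_equiv (Subgroup.subgroupOfEquivOfLe hPH).symm
  refine (hP'.card_modEq_card_fixedPoints (orbit H a)).trans ?_
  rw [← Nat.card_coe_set_eq]
  rw [Nat.card_congr (β := {z // z ∈ orbit H a ∩ fixedPoints P α}) {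
    toFun := fun x => ⟨x.1.1, x.1.2, fun g => by
      have := x.2 ⟨⟨g.1, hPH g.2⟩, g.2⟩
      exact congrArg Subtype.val this⟩
    invFun := fun x => ⟨⟨x.1, x.2.1⟩, fun g => Subtype.ext (x.2.2 ⟨g.1.1, g.2⟩)⟩
    left_inv := fun x => rfl
    right_inv := fun x => rfl }]

end Cfsg.Agent.PermB
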