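import Cfsg.Agent.Classical10.ProjLine
import Mathlib.Topology.Compactification.OnePoint.ProjectiveLine

/-!
A three-transitive group of Möbius transformations is the projective general linear group.
-/

set_option autoImplicit false

namespace Cfsg.Agent.PermB

open Matrix MulAction

open scoped OnePoint in
theorem center_smul_onePoint {K : Type*} [Field K] [DecidableEq K] {M : GL (Fin 2) K}
    (hM : M ∈ Subgroup.center (GL (Fin 2) K)) (x : OnePoint K) : M • x = x := by
  rw [Matrix.GeneralLinearGroup.center_eq_range_scalar] at hM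
  obtain ⟨r, rfl⟩ := hM
  cases x with
  | infty => simp [OnePoint.smul_infty_eq_ite]
  | coe k => simp [OnePoint.smul_some_eq_ite]

theorem eq_center_of_fix_three {K : Type*} [Field K] [DecidableEq K] {M : GL (Fin 2) K}
    {a b c : OnePoint K} (hab : a ≠ b) (hac : a ≠ c) (hbc : b ≠ c) (ha : M • a = a)
    (hb : M • b = b) (hc : M • c = c) : M ∈ Subgroup.center (GL (Fin 2) K) := by
  have h : ∀ x : OnePoint K, M • x = x →
      M • OnePoint.equivProjectivization K x = OnePoint.equivProjectivization K x := fun x hx => by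
    rw [← OnePoint.equivProjectivization_smul, hx]
  obtain ⟨r, hr⟩ := Classical10.eq_scalar_of_fix_three
    ((OnePoint.equivProjectivization K).injective.ne hab)
    ((OnePoint.equivProjectivization K).injective.ne hac)
    ((OnePoint.equivProjectivization K).injective.ne hbc) (h a ha) (h b hb) (h c hc)
  refine Subgroup.mem_center_iff.2 fun k => Units.ext ?_
  rw [Units.val_mul, Units.val_mul, hr]
  exact ((Matrix.scalar_commute r (fun r' => Commute.all r r') _).eq).symm

theorem exists_smul_triple_onePoint {K : Type*} [Field K] [DecidableEq K]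
    {a b c a' b' c' : OnePoint K} (hab : a ≠ b) (hac : a ≠ c) (hbc : b ≠ c) (hab' : a' ≠ b')
    (hac' : a' ≠ c') (hbc' : b' ≠ c') :
    ∃ M : GL (Fin 2) K, M • a = a' ∧ M • b = b' ∧ M • c = c' := by
  set E := OnePoint.equivProjectivization K
  obtain ⟨M, h0, h1, h2⟩ := Classical10.exists_smul_triple (E.injective.ne hab)
    (E.injective.ne hac) (E.injective.ne hbc) (E.injective.ne hab') (E.injective.ne hac')
    (E.injective.ne hbc')
  refine ⟨M, E.injective ?_, E.injective ?_, E.injective ?_⟩ <;>
    rw [OnePoint.equivProjectivization_smul] <;> assumption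

/-- The permutations of `α` that become Möbius transformations under `e`. -/
def moebiusPerms {α : Type*} {K : Type*} [Field K] [DecidableEq K] (e : α ≃ OnePoint K) :
    Subgroup (Equiv.Perm α) where
  carrier := {g | ∃ M : GL (Fin 2) K, ∀ x, e (g x) = M • e x}
  one_mem' := ⟨1, fun x => by rw [one_smul]; rfl⟩
  mul_mem' := by
    rintro g g' ⟨M, hM⟩ ⟨M', hM'⟩
    exact ⟨M * M', fun x => by rw [Equiv.Perm.mul_apply, hM, hM', mul_smul]⟩
  inv_mem' := by
    rintro g ⟨M, hM⟩
    refine ⟨M⁻¹, fun x => ?_⟩
    rw [eq_inv_smul_iff, ← hM]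
    exact congrArg e (g.apply_symm_apply x)

/-- A three-transitive group of Möbius transformations is `PGL₂`. -/
theorem nonempty_mulEquiv_pgl2 {α : Type*} {K : Type*} [Field K] [DecidableEq K]
    (G : Subgroup (Equiv.Perm α)) (e : α ≃ OnePoint K) (hG : G ≤ moebiusPerms e)
    (h3 : ∀ a b c a' b' c' : α, a ≠ b → a ≠ c → b ≠ c → a' ≠ b' → a' ≠ c' → b' ≠ c' →
      ∃ g ∈ G, g a = a' ∧ g b = b' ∧ g c = c') :
    Nonempty (G ≃* Matrix.ProjGenLinGroup (Fin 2) K) := by
  let Φ : GL (Fin 2) K →* Equiv.Perm α :=
    MonoidHom.mk' (fun M => (e.trans (MulAction.toPerm M)).trans e.symm) fun M M' => by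
      ext x
      simp [mul_smul]
  have hΦ : ∀ (M : GL (Fin 2) K) (x : α), e (Φ M x) = M • e x := fun M x => by simp [Φ]
  have hker : Φ.ker = Subgroup.center (GL (Fin 2) K) := by
    ext M
    constructor
    · intro hM
      have hfix : ∀ y, M • y = y := fun y => by
        have := hΦ M (e.symm y)
        rw [MonoidHom.mem_ker.1 hM, Equiv.Perm.one_apply, e.apply_symm_apply] at this
        exact this.symm
      refine eq_center_of_fix_three (a := OnePoint.infty) (b := ((0 : K) : OnePoint K))
        (c := ((1 : K) : OnePoint K)) ?_ ?_ ?_ (hfix _) (hfix _) (hfix _)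
      · exact OnePoint.infty_ne_coe _
      · exact OnePoint.infty_ne_coe _
      · simp
    · intro hM
      refine MonoidHom.mem_ker.2 (Equiv.ext fun x => e.injective ?_)
      rw [hΦ, center_smul_onePoint hM]
      rfl
  have hrange : Φ.range = G := by
    refine le_antisymm ?_ fun g hg => ?_
    · rintro _ ⟨M, rfl⟩
      set a := e.symm OnePoint.infty with ha
      set b := e.symm ((0 : K) : OnePoint K) with hb
      set c := e.symm ((1 : K) : OnePoint K) with hc
      have hab : a ≠ b := e.symm.injective.ne (OnePoint.infty_ne_coe _)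
      have hac : a ≠ c := e.symm.injective.ne (OnePoint.infty_ne_coe _)
      have hbc : b ≠ c := e.symm.injective.ne (by simp)
      obtain ⟨g, hg, ga, gb, gc⟩ := h3 a b c (Φ M a) (Φ M b) (Φ M c) hab hac hbc
        ((Φ M).injective.ne hab) ((Φ M).injective.ne hac) ((Φ M).injective.ne hbc)
      obtain ⟨N, hN⟩ := hG hg
      have key : M⁻¹ * N ∈ Subgroup.center (GL (Fin 2) K) := by
        refine eq_center_of_fix_three (e.injective.ne hab) (e.injective.ne hac)
          (e.injective.ne hbc) ?_ ?_ ?_
        · rw [mul_smul, ← hN, ga, hΦ, inv_smul_smul]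
        · rw [mul_smul, ← hN, gb, hΦ, inv_smul_smul]
        · rw [mul_smul, ← hN, gc, hΦ, inv_smul_smul]
      have : Φ M = g := by
        refine Equiv.ext fun x => e.injective ?_
        rw [hΦ, hN]
        conv_lhs => rw [← center_smul_onePoint key (e x)]
        rw [mul_smul, smul_inv_smul]
      rw [this]
      exact hg
    · obtain ⟨N, hN⟩ := hG hg
      exact ⟨N, Equiv.ext fun x => e.injective (by rw [hΦ, hN])⟩
  exact ⟨((QuotientGroup.quotientMulEquivOfEq hker.symm).trans
    ((QuotientGroup.quotientKerEquivRange Φ).trans (MulEquiv.subgroupCongr hrange))).symm⟩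

end Cfsg.Agent.PermB
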