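import Cfsg.Agent.CharDeep.ZassInvol

/-!
Involutions of a Zassenhaus group, without parity assumptions.
-/

set_option autoImplicit false

namespace Cfsg.Agent.PermB

open MulAction Cfsg.Agent.CharDeep

variable {G Ω : Type*} [Group G] [MulAction G Ω]

theorem natCard_fixedBy [Fintype Ω] [DecidableEq Ω] (g : G) :
    Nat.card (fixedBy Ω g) = Zass.nfix Ω g := by
  rw [Zass.nfix, ← Fintype.card_subtype, ← Nat.card_eq_fintype_card]
  rfl

theorem orderOf_conj (g x : G) : orderOf (g * x * g⁻¹) = orderOf x :=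
  (SemiconjBy.conj_mk g x).orderOf_eq.symm

theorem sq_eq_one_of_orderOf {x : G} (hx : orderOf x = 2) : x * x = 1 := by
  rw [← pow_two, ← hx, pow_orderOf_eq_one]

variable (hZ : Cfsg.IsZassenhausGroup G Ω)
include hZ

/-- An element moving a point can be conjugated to one mapping `a` to `b`. -/
theorem exists_conj_map {x : G} {c a b : Ω} (hc : x • c ≠ c) (hab : a ≠ b) :
    ∃ g : G, (g * x * g⁻¹) • a = b ∧ g • c = a ∧ g • (x • c) = b := by
  obtain ⟨g, hga, hgb⟩ := Zass.exists_pair hZ (Ne.symm hc) hab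
  refine ⟨g, ?_, hga, hgb⟩
  rw [mul_smul, mul_smul, ← hga, inv_smul_smul, hgb]

/-- An involution interchanges two prescribed points after conjugation. -/
theorem exists_swap_conj {x : G} (hx : orderOf x = 2) {a b : Ω} (hab : a ≠ b) :
    ∃ g : G, orderOf (g * x * g⁻¹) = 2 ∧ (g * x * g⁻¹) • a = b ∧ (g * x * g⁻¹) • b = a := by
  have h1 : x ≠ 1 := fun h => by simp [h] at hx
  obtain ⟨c, hc⟩ : ∃ c : Ω, x • c ≠ c := by
    by_contra h
    push Not at h
    have := hZ.1
    exact h1 (eq_of_smul_eq_smul fun c : Ω => by rw [h, one_smul])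
  obtain ⟨g, hg, -, -⟩ := exists_conj_map hZ hc hab
  refine ⟨g, by rw [orderOf_conj, hx], hg, ?_⟩
  rw [← hg, ← mul_smul, sq_eq_one_of_orderOf (by rw [orderOf_conj, hx]), one_smul]

theorem even_natCard [Finite G] [Fintype Ω] {a b : Ω} (hab : a ≠ b) : Even (Nat.card G) := by
  rw [Zass.card_group hZ hab]
  rcases Nat.even_or_odd (Fintype.card Ω) with h | h
  · exact h.mul_right _
  · exact ((Nat.Odd.sub_odd h odd_one).mul_right _).mul_left _

/-- Any two points are interchanged by an involution. -/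
theorem exists_involution_swap' [Finite G] [Fintype Ω] {a b : Ω} (hab : a ≠ b) :
    ∃ s : G, orderOf s = 2 ∧ s • a = b ∧ s • b = a := by
  obtain ⟨x, hx⟩ := exists_prime_orderOf_dvd_card' 2 (even_iff_two_dvd.1 (even_natCard hZ hab))
  obtain ⟨g, h1, h2, h3⟩ := exists_swap_conj hZ hx hab
  exact ⟨_, h1, h2, h3⟩

theorem nfix_involution [Fintype Ω] [DecidableEq Ω] {x : G} (hx : orderOf x = 2) :
    Zass.nfix Ω x ≤ 2 ∧ Even (Fintype.card Ω - Zass.nfix Ω x) ∧
      Zass.nfix Ω x ≤ Fintype.card Ω := by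
  classical
  refine ⟨Zass.nfix_le_two hZ fun h => by simp [h] at hx,
    Zass.nfix_parity (sq_eq_one_of_orderOf hx), Finset.card_le_univ _⟩

end Cfsg.Agent.PermB
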