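import Cfsg.Agent.Lib.Zassenhaus.SharpThree
import Cfsg.Agent.Lib.SmallGroups.SelfCent.Two
import Cfsg.Agent.PermB.ZassSwap

/-!
Sharply three-transitive groups of even degree: the two-point stabiliser has a subgroup of index two
invariant under the elements interchanging the two points.
-/

set_option autoImplicit false

namespace Cfsg.Agent.PermB

open MulAction
open Cfsg.Agent.CharDeep
open scoped ComplexConjugate

theorem even_card_fixed {ι : Type*} [DecidableEq ι] (O : Finset ι) (f : ι → ι)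
    (hf : ∀ i ∈ O, f i ∈ O) (hff : ∀ i, f (f i) = i) (hO : Even O.card) :
    Even (O.filter fun i => f i = i).card := by
  have hpar : ∑ i ∈ O.filter (fun i => f i ≠ i), (1 : ZMod 2) = 0 := by
    refine Finset.sum_involution (fun i _ => f i) (fun i _ => by decide) ?_ ?_ (fun i _ => hff i)
    · intro i hi _
      exact (Finset.mem_filter.1 hi).2
    · intro i hi
      rw [Finset.mem_filter] at hi ⊢
      exact ⟨hf i hi.1, by rw [hff]; exact Ne.symm hi.2⟩
  rw [Finset.sum_const, nsmul_one, ZMod.natCast_eq_zero_iff_even] at hpar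
  have := Finset.card_filter_add_card_filter_not (s := O) (fun i => f i = i)
  rw [← this, Nat.even_add] at hO
  exact hO.2 hpar

/-- An involutory permutation of the irreducible characters preserving degrees fixes a non-principal
real character of odd degree, in even order. -/
theorem exists_invariant_real_odd {T : Type*} [Group T] [Finite T] (heven : Even (Nat.card T))
    (e : T ≃* T)
    (he : ∀ χ : Cfsg.IrrCharacter T, ∀ x, (χ : T → ℂ) (e (e x)) = (χ : T → ℂ) x) :
    ∃ φ : Cfsg.IrrCharacter T, (∀ x, (φ : T → ℂ) (e x) = (φ : T → ℂ) x) ∧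
      (φ : T → ℂ) ≠ 1 ∧ (∀ x, conj ((φ : T → ℂ) x) = (φ : T → ℂ) x) ∧
      ∃ d : ℕ, (φ : T → ℂ) 1 = d ∧ Odd d ∧ d ∣ Nat.card T ∧ d * d < Nat.card T := by
  classical
  have := Fintype.ofFinite T
  have := Fintype.ofFinite (Cfsg.IrrCharacter T)
  choose deg hdeg0 hdegdvd hdeg using fun χ : Cfsg.IrrCharacter T =>
    CharClifford.exists_degree_dvd_card χ.2
  let f : Cfsg.IrrCharacter T → Cfsg.IrrCharacter T := fun χ =>
    ⟨fun x => (χ : T → ℂ) (e x),
      CharCore.isIrrCharacter_comp_surjective χ.2 e.toMonoidHom e.surjective⟩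
  let cj : Cfsg.IrrCharacter T → Cfsg.IrrCharacter T := fun χ =>
    ⟨fun x => conj ((χ : T → ℂ) x), CharCore.isIrrCharacter_star χ.2⟩
  have hfdeg : ∀ χ, deg (f χ) = deg χ := by
    intro χ
    have h1 := hdeg (f χ)
    change (χ : T → ℂ) (e 1) = _ at h1
    rw [map_one, hdeg χ] at h1
    exact_mod_cast h1.symm
  have hcdeg : ∀ χ, deg (cj χ) = deg χ := by
    intro χ
    have h1 := hdeg (cj χ)
    change conj ((χ : T → ℂ) 1) = _ at h1
    rw [hdeg χ, map_natCast] at h1
    exact_mod_cast h1.symm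
  have hff : ∀ χ, f (f χ) = χ := fun χ => Subtype.ext (funext fun x => he χ x)
  have hcc : ∀ χ, cj (cj χ) = χ := fun χ => Subtype.ext (funext fun x => Complex.conj_conj _)
  have hfc : ∀ χ, f (cj χ) = cj (f χ) := fun χ => rfl
  let one : Cfsg.IrrCharacter T := ⟨1, CharCore.isIrrCharacter_one⟩
  have hone : deg one = 1 := by
    have := hdeg one
    change (1 : T → ℂ) 1 = _ at this
    rw [Pi.one_apply] at this
    exact_mod_cast this.symm
  have hsum : ∑ χ, deg χ * deg χ = Nat.card T := by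
    have h := CharCore.sum_degree_sq (G := T)
    rw [← Nat.cast_inj (R := ℂ), ← h, Nat.cast_sum]
    refine Finset.sum_congr (by ext; simp) fun χ _ => ?_
    rw [hdeg, Nat.cast_mul, sq]
  let O : Finset (Cfsg.IrrCharacter T) := Finset.univ.filter fun χ => Odd (deg χ)
  have hO : Even O.card := by
    have h1 : Even (∑ χ, deg χ * deg χ) := hsum ▸ heven
    rw [Finset.even_sum_iff_even_card_odd] at h1
    refine (congrArg (fun s : Finset _ => Even s.card) ?_).mp h1
    ext χ
    simp [O, Nat.odd_mul]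
  have h1 := even_card_fixed O cj (fun χ hχ => by simpa [O, hcdeg] using hχ) hcc hO
  have hfix := even_card_fixed (O.filter fun χ => cj χ = χ) f (fun χ hχ => by
    simp only [O, Finset.mem_filter, Finset.mem_univ, true_and, hfdeg] at hχ ⊢
    exact ⟨hχ.1, by rw [← hfc, hχ.2]⟩) hff h1
  have hmem : one ∈ (O.filter fun χ => cj χ = χ).filter (fun χ => f χ = χ) := by
    simp only [O, Finset.mem_filter, Finset.mem_univ, true_and, hone]
    exact ⟨⟨odd_one, Subtype.ext (funext fun x => map_one _)⟩, Subtype.ext (funext fun x => rfl)⟩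
  obtain ⟨φ, hφ, hφ1⟩ : ∃ φ ∈ (O.filter fun χ => cj χ = χ).filter (fun χ => f χ = χ), φ ≠ one := by
    refine Finset.exists_mem_ne ?_ one
    obtain ⟨k, hk⟩ := hfix
    have := Finset.card_pos.2 ⟨one, hmem⟩
    omega
  simp only [O, Finset.mem_filter, Finset.mem_univ, true_and] at hφ
  refine ⟨φ, fun x => congrArg (fun χ : Cfsg.IrrCharacter T => (χ : T → ℂ) x) hφ.2,
    fun h => hφ1 (Subtype.ext h),
    fun x => congrArg (fun χ : Cfsg.IrrCharacter T => (χ : T → ℂ) x) hφ.1.2,
    deg φ, hdeg φ, hφ.1.1, hdegdvd φ, ?_⟩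
  have h2 := Finset.add_sum_erase Finset.univ (fun χ => deg χ * deg χ) (Finset.mem_univ φ)
  have h3 := Finset.single_le_sum (f := fun χ => deg χ * deg χ)
    (fun χ _ => Nat.zero_le _) (Finset.mem_erase.2 ⟨Ne.symm hφ1, Finset.mem_univ one⟩)
  simp only [hone] at h3
  rw [hsum] at h2
  omega

/-- A character restricting to an irreducible character is irreducible. -/
theorem isIrrCharacter_of_comp {G H : Type*} [Group G] [Finite G] [Group H] [Finite H]
    (f : H →* G) {χ : G → ℂ} (hχ : Cfsg.IsCharacter G χ)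
    (hirr : Cfsg.IsIrrCharacter H fun h => χ (f h)) : Cfsg.IsIrrCharacter G χ := by
  classical
  have := Fintype.ofFinite G
  have := Fintype.ofFinite H
  obtain ⟨m, hm⟩ := CharCore.IsCharacter.exists_sum hχ
  have hres : ∀ ψ : Cfsg.IrrCharacter G, Cfsg.IsCharacter H fun h => (ψ : G → ℂ) (f h) := fun ψ =>
    CharCore.isCharacter_comp (CharCore.irr_isCharacter ψ) f
  choose a ha using fun ψ ψ' : Cfsg.IrrCharacter G =>
    CharCore.IsCharacter.exists_classInner_eq_natCast (hres ψ) (hres ψ')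
  have hself : ∀ ψ, 1 ≤ a ψ ψ := by
    intro ψ
    by_contra h0
    obtain ⟨l, hl⟩ := CharCore.IsCharacter.exists_sum (hres ψ)
    have h := ha ψ ψ
    rw [hl, CharCore.classInner_sum_sum, show a ψ ψ = 0 by omega] at h
    simp only [Complex.conj_natCast] at h
    have h' : ∑ η, l η * l η = 0 := by exact_mod_cast h
    have h1 := congrFun hl 1
    simp only [map_one, Finset.sum_apply, Pi.smul_apply] at h1
    rw [Finset.sum_eq_zero fun η _ => by
      rw [mul_self_eq_zero.1 (Finset.sum_eq_zero_iff.1 h' η (Finset.mem_univ _)), Nat.cast_zero,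
        zero_smul]] at h1
    exact CharCore.irr_apply_one_ne_zero ψ h1
  have hnorm : ∑ ψ, ∑ ψ', m ψ * m ψ' * a ψ ψ' = 1 := by
    have h := (CharCore.isIrrCharacter_iff.1 hirr).2
    have hf : (fun h => χ (f h)) = ∑ ψ, (m ψ : ℂ) • fun h => (ψ : G → ℂ) (f h) := by
      funext x
      rw [hm]
      simp [Finset.sum_apply]
    rw [hf, CharCore.classInner_sum_left] at h
    simp only [CharCore.classInner_smul_left, CharCore.classInner_sum_right,
      CharCore.classInner_smul_right, Complex.conj_natCast, ha, Finset.mul_sum, ← mul_assoc] at h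
    have h' : ∑ x, ∑ y, m y * m x * a x y = 1 := by exact_mod_cast h
    rw [← h']
    exact Finset.sum_congr rfl fun x _ => Finset.sum_congr rfl fun y _ => by ring
  have hle : ∑ ψ, m ψ * m ψ ≤ 1 := by
    rw [← hnorm]
    refine Finset.sum_le_sum fun ψ _ => le_trans ?_
      (Finset.single_le_sum (f := fun ψ' => m ψ * m ψ' * a ψ ψ') (fun _ _ => Nat.zero_le _)
        (Finset.mem_univ ψ))
    exact Nat.le_mul_of_pos_right _ (hself ψ)
  refine CharCore.isIrrCharacter_iff.2 ⟨hχ, ?_⟩
  rw [hm, CharCore.classInner_sum_sum]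
  simp only [Complex.conj_natCast]
  have hne : ∑ ψ, m ψ * m ψ ≠ 0 := by
    intro h0
    have h := (CharCore.isIrrCharacter_iff.1 hirr).2
    have hz : (fun h => χ (f h)) = 0 := by
      funext x
      rw [hm, Finset.sum_apply, Pi.zero_apply]
      exact Finset.sum_eq_zero fun ψ _ => by
        rw [mul_self_eq_zero.1 (Finset.sum_eq_zero_iff.1 h0 ψ (Finset.mem_univ _)), Nat.cast_zero,
          zero_smul, Pi.zero_apply]
    rw [hz, CharCore.classInner_zero_left] at h
    exact zero_ne_one h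
  exact_mod_cast (show ∑ ψ, m ψ * m ψ = 1 by omega)

variable {G Ω : Type*} [Group G] [Fintype G] [DecidableEq G] [MulAction G Ω] [Fintype Ω]
  [DecidableEq Ω] (hZ : Cfsg.IsZassenhausGroup G Ω) {a b : Ω} (hab : a ≠ b) {U : Subgroup G}
  (hU : Zass.IsKernel a U)

include hZ hab hU

/-- An extension to `G` of a real irreducible character of the two-point stabiliser with the
kernel of a point stabiliser in its kernel is linear. -/
theorem degree_one_of_extension (hfull : Nat.card ↥(Zass.two G a b) + 2 = Fintype.card Ω)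
    (heven : Even (Fintype.card Ω)) {c : Ω} (hac : a ≠ c) (hbc : b ≠ c) {s : G}
    (hsa : s • a = b) (hsb : s • b = a) (hsc : s • c = c) (ψ : Cfsg.IrrCharacter G) {d : ℕ}
    (hodd : Odd d) (hψ1 : (ψ : G → ℂ) 1 = d)
    (hψT : Cfsg.IsIrrCharacter (Zass.two G a b) fun x => (ψ : G → ℂ) x)
    (hψU : ∀ u ∈ U, (ψ : G → ℂ) u = (ψ : G → ℂ) 1) : d = 1 := by
  classical
  have hss : s * s = 1 := Zass.eq_one_of_three hZ hab hbc hac (by rw [mul_smul, hsa, hsb])
    (by rw [mul_smul, hsb, hsa]) (by rw [mul_smul, hsc, hsc])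
  have hs1 : s ≠ 1 := fun h => hab (by rw [← hsa, h, one_smul])
  have hψc := CharCore.irr_isCharacter ψ
  have hwU : ∀ v : G, s * v * s⁻¹ ∈ U → (ψ : G → ℂ) v = (ψ : G → ℂ) 1 := fun v hv => by
    rw [← hψU _ hv]; exact (CharCore.irr_isClassFunction ψ v s).symm
  -- an element of the kernel interchanging the two points
  obtain ⟨u₁, hu₁, hu₁b⟩ := Zass.kernel_regular hZ hab hU (c := c) (Ne.symm hac)
  obtain ⟨u₂, hu₂, hu₂c⟩ := Zass.kernel_regular hZ hab hU (c := c) (Ne.symm hac)
  have hua := mem_stabilizer_iff.1 (hU.le hu₁)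
  obtain ⟨v₁, hv₁, hv₁a⟩ : ∃ v : G, s * v * s⁻¹ ∈ U ∧ v • a = c := by
    refine ⟨s⁻¹ * u₂ * s, by simpa [mul_assoc] using hu₂, ?_⟩
    rw [mul_smul, mul_smul, hsa, hu₂c, inv_smul_eq_iff, hsc]
  have hker : ∀ g : G, g ∈ CharCore.charKernel hψc ↔ (ψ : G → ℂ) g = (ψ : G → ℂ) 1 :=
    CharCore.mem_charKernel hψc
  set u := u₁⁻¹ * v₁ with hu
  have hua' : u • a = b := by rw [hu, mul_smul, hv₁a, inv_smul_eq_iff, hu₁b]
  have huK : u ∈ CharCore.charKernel hψc := Subgroup.mul_mem _
    (Subgroup.inv_mem _ ((hker _).2 (hψU _ hu₁))) ((hker _).2 (hwU _ hv₁))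
  obtain ⟨u', hu'U, hu'c⟩ : ∃ u' : G, s * u' * s⁻¹ ∈ U ∧ u' • (u • b) = a := by
    have hub : u • b ≠ b := fun h => hab (MulAction.injective u (hua'.trans h.symm))
    have hne : s • (u • b) ≠ a := fun h => hub (MulAction.injective s (h.trans hsb.symm))
    obtain ⟨p, hp, hpb⟩ := Zass.kernel_regular hZ hab hU hne
    refine ⟨s⁻¹ * p⁻¹ * s, by simpa [mul_assoc] using U.inv_mem hp, ?_⟩
    rw [mul_smul, mul_smul, show p⁻¹ • (s • (u • b)) = b from inv_smul_eq_iff.2 hpb.symm,
      inv_smul_eq_iff, hsa]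
  set v := u' * u with hv
  have hva : v • a = b := by
    rw [hv, mul_smul, hua']
    have hh : (s * u' * s⁻¹) • a = a := mem_stabilizer_iff.1 (hU.le hu'U)
    rw [mul_smul, mul_smul, inv_smul_eq_iff.2 hsb.symm] at hh
    exact MulAction.injective s (hh.trans hsb.symm)
  have hvb : v • b = a := by rw [hv, mul_smul]; exact hu'c
  have hψv : (ψ : G → ℂ) v = d := by
    rw [← hψ1]
    exact (hker _).1 (Subgroup.mul_mem _ ((hker _).2 (hwU _ hu'U)) huK)
  -- the setwise stabiliser
  let L := Subgroup.normalizer (Zass.two G a b : Set G)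
  have hsL : s ∈ L := (Zass.normalizer_two_iff hZ hab).2 (Or.inr ⟨hsa, hsb⟩)
  have hvL : v ∈ L := (Zass.normalizer_two_iff hZ hab).2 (Or.inr ⟨hva, hvb⟩)
  let sgn : L →* ℂˣ := MonoidHom.mk' (fun g => if (g : G) • a = a then 1 else -1) fun g g' => by
    have h1 := (Zass.normalizer_two_iff hZ hab).1 g.2
    have h2 := (Zass.normalizer_two_iff hZ hab).1 g'.2
    rcases h1 with ⟨ha1, hb1⟩ | ⟨ha1, hb1⟩ <;> rcases h2 with ⟨ha2, hb2⟩ | ⟨ha2, hb2⟩ <;>
      simp [Subgroup.coe_mul, mul_smul, ha1, hb1, ha2, hb2, hab.symm]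
  let ψL : Cfsg.IrrCharacter L := ⟨fun g => (ψ : G → ℂ) g,
    isIrrCharacter_of_comp (Subgroup.inclusion Subgroup.le_normalizer)
      (CharCore.isCharacter_restrict hψc L) hψT⟩
  let c0 : Cfsg.IrrCharacter L := ⟨1, CharCore.isIrrCharacter_one⟩
  let c1 : Cfsg.IrrCharacter L := ⟨fun g => (sgn g : ℂ), CharCore.isIrrCharacter_hom sgn⟩
  let c3 : Cfsg.IrrCharacter L := ⟨fun g => (sgn g : ℂ) * (ψL : L → ℂ) g,
    CharCore.isIrrCharacter_hom_mul sgn ψL.2⟩
  let sL : L := ⟨s, hsL⟩
  let vL : L := ⟨v, hvL⟩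
  have hsgns : (sgn sL : ℂ) = -1 := by simp [sgn, sL, hsa, hab.symm]
  have hsgnv : (sgn vL : ℂ) = -1 := by simp [sgn, vL, hva, hab.symm]
  obtain ⟨k, hk⟩ := SmallGroups.SelfCent.exists_int_of_sq_eq_one ψ (x := s) (by rw [pow_two, hss])
  have hks : (ψL : L → ℂ) sL = k := hk
  have hkodd : Odd k := by
    obtain ⟨n, ρ, -, hρ⟩ := ψ.2
    obtain ⟨β, ω, hω, -, -, hωk⟩ := CharCore.exists_eigenvalues ρ s
    have h1 : ρ.character s = ∑ i, ω i := by simpa using hωk 1
    have hord : orderOf s = 2 := orderOf_eq_prime (by rw [pow_two, hss]) hs1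
    have hωv : ∀ i, ω i = ((if ω i = 1 then 1 else -1 : ℤ) : ℂ) := fun i => by
      have h2 := hω i
      rw [hord] at h2
      rcases sq_eq_one_iff.mp h2 with h | h
      · simp [h]
      · rw [h, if_neg (by norm_num)]; simp
    have hd : (Module.finrank ℂ (Fin n → ℂ) : ℂ) = d := by
      rw [← hψ1, ← hρ, Representation.char_one]
    rw [← hρ, h1, Finset.sum_congr rfl fun i _ => hωv i, ← Int.cast_sum] at hk
    rw [← Int.cast_inj.1 hk, ← ZMod.intCast_eq_one_iff_odd, Int.cast_sum,
      Finset.sum_congr rfl (g := fun _ => (1 : ZMod 2)) fun i _ => by split_ifs <;> decide,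
      Finset.sum_const, Finset.card_univ, Fintype.card_fin, nsmul_one,
      Nat.cast_inj.1 hd]
    exact ZMod.natCast_eq_one_iff_odd.2 hodd
  by_contra hd1
  -- the four characters
  have hd2 : ψL.1 1 = d := hψ1
  have hdeg : (d : ℂ) ≠ 1 := fun h => hd1 (by exact_mod_cast h)
  have h01 : c0 ≠ c1 := fun h => by
    have := congrArg (fun χ : Cfsg.IrrCharacter L => (χ : L → ℂ) sL) h
    simp only [c0, c1, Pi.one_apply, hsgns] at this
    norm_num at this
  have h02 : c0 ≠ ψL := fun h => by
    have := congrArg (fun χ : Cfsg.IrrCharacter L => (χ : L → ℂ) 1) h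
    simp only [c0, Pi.one_apply, hd2] at this
    exact hdeg this.symm
  have h03 : c0 ≠ c3 := fun h => by
    have := congrArg (fun χ : Cfsg.IrrCharacter L => (χ : L → ℂ) 1) h
    simp only [c0, c3, Pi.one_apply, map_one, Units.val_one, one_mul, hd2] at this
    exact hdeg this.symm
  have h12 : c1 ≠ ψL := fun h => by
    have := congrArg (fun χ : Cfsg.IrrCharacter L => (χ : L → ℂ) 1) h
    simp only [c1, map_one, Units.val_one, hd2] at this
    exact hdeg this.symm
  have h13 : c1 ≠ c3 := fun h => by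
    have := congrArg (fun χ : Cfsg.IrrCharacter L => (χ : L → ℂ) 1) h
    simp only [c1, c3, map_one, Units.val_one, one_mul, hd2] at this
    exact hdeg this.symm
  have hk0 : k ≠ 0 := fun h => by rw [h] at hkodd; exact absurd hkodd (by decide)
  have h23 : ψL ≠ c3 := fun h => by
    have := congrArg (fun χ : Cfsg.IrrCharacter L => (χ : L → ℂ) sL) h
    simp only [c3, hsgns, hks, neg_one_mul] at this
    have h2 : (k : ℂ) = ((-k : ℤ) : ℂ) := by push_cast; exact this
    have := Int.cast_inj.1 h2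
    omega
  set F : Finset (Cfsg.IrrCharacter L) := {c0, c1, ψL, c3} with hF
  have hFs : ∀ f : Cfsg.IrrCharacter L → ℂ, ∑ χ ∈ F, f χ = f c0 + f c1 + f ψL + f c3 := fun f => by
    rw [hF, Finset.sum_insert (by simp [h01, h02, h03]),
      Finset.sum_insert (by simp [h12, h13]), Finset.sum_pair h23]
    ring
  have hcent : Nat.card (Subgroup.centralizer ({sL} : Set L)) ≤ 4 := by
    let t : Subgroup.centralizer ({sL} : Set L) → Ω × Ω := fun g => ((g : L) • a, (g : L) • c)
    have hfix : (Finset.univ.filter fun e : Ω => s • e = e).card = 2 := by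
      have h1 := Zass.nfix_le_two hZ hs1
      have h2 := Zass.nfix_parity (Ω := Ω) hss
      have h3 : 0 < Zass.nfix Ω s := Finset.card_pos.2 ⟨c, by simp [hsc]⟩
      rw [Zass.nfix] at h1 h2 h3
      rw [Nat.even_sub (Finset.card_le_univ _)] at h2
      obtain ⟨j, hj⟩ := h2.1 heven
      omega
    calc Nat.card (Subgroup.centralizer ({sL} : Set L))
        = (Finset.univ.image t).card := by
          rw [Finset.card_image_of_injective, Finset.card_univ, Nat.card_eq_fintype_card]
          intro g g' h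
          simp only [t, Prod.mk.injEq] at h
          obtain ⟨ha', hc'⟩ := h
          apply Subtype.ext
          apply Subtype.ext
          change ((g : L) : G) • a = ((g' : L) : G) • a at ha'
          change ((g : L) : G) • c = ((g' : L) : G) • c at hc'
          have hb' : ((g : L) : G) • b = ((g' : L) : G) • b := by
            rcases (Zass.normalizer_two_iff hZ hab).1 (g : L).2 with h1 | h1 <;>
              rcases (Zass.normalizer_two_iff hZ hab).1 (g' : L).2 with h2 | h2
            · exact h1.2.trans h2.2.symm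
            · exact absurd (h1.1.symm.trans (ha'.trans h2.1)) hab
            · exact absurd (h2.1.symm.trans (ha'.symm.trans h1.1)) hab
            · exact h1.2.trans h2.2.symm
          refine inv_mul_eq_one.1 (Zass.eq_one_of_three hZ hab hbc hac ?_ ?_ ?_) |>.symm
          · rw [mul_smul, ha', inv_smul_smul]
          · rw [mul_smul, hb', inv_smul_smul]
          · rw [mul_smul, hc', inv_smul_smul]
      _ ≤ (({a, b} : Finset Ω) ×ˢ (Finset.univ.filter fun e : Ω => s • e = e)).card := by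
          refine Finset.card_le_card fun x hx => ?_
          obtain ⟨g, -, rfl⟩ := Finset.mem_image.1 hx
          simp only [t, Finset.mem_product, Finset.mem_insert, Finset.mem_singleton,
            Finset.mem_filter, Finset.mem_univ, true_and]
          refine ⟨?_, ?_⟩
          · rcases (Zass.normalizer_two_iff hZ hab).1 (g : L).2 with h1 | h1
            · exact Or.inl h1.1
            · exact Or.inr h1.1
          · have hg := congrArg (fun z : L => (z : G))
              (Subgroup.mem_centralizer_singleton_iff.1 g.2)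
            simp only [Subgroup.coe_mul, sL] at hg
            show s • (((g : L) : G) • c) = ((g : L) : G) • c
            rw [← mul_smul, ← hg, mul_smul, hsc]
      _ ≤ 4 := by rw [Finset.card_product, Finset.card_pair hab, hfix]
  have hss' := CharCore.sum_apply_mul_conj sL sL
  rw [if_pos (IsConj.refl sL)] at hss'
  have hre : ∀ χ : Cfsg.IrrCharacter L, (χ : L → ℂ) sL * conj ((χ : L → ℂ) sL) =
      ((Complex.normSq ((χ : L → ℂ) sL) : ℝ) : ℂ) := fun χ => Complex.mul_conj _
  simp only [hre, ← Complex.ofReal_sum] at hss'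
  have hR : ∑ χ : Cfsg.IrrCharacter L, Complex.normSq ((χ : L → ℂ) sL) =
      (Nat.card (Subgroup.centralizer ({sL} : Set L)) : ℝ) := by exact_mod_cast hss'
  have hv4 : Complex.normSq ((c0 : L → ℂ) sL) + Complex.normSq ((c1 : L → ℂ) sL) +
      Complex.normSq ((ψL : L → ℂ) sL) + Complex.normSq ((c3 : L → ℂ) sL) =
      2 + 2 * (k : ℝ) ^ 2 := by
    simp only [c0, c1, c3, Pi.one_apply, hsgns, hks, map_one, neg_one_mul, Complex.normSq_neg,
      Complex.normSq_intCast]
    ring
  have hsplit := Finset.sum_sdiff (Finset.subset_univ F)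
    (f := fun χ : Cfsg.IrrCharacter L => Complex.normSq ((χ : L → ℂ) sL))
  have hF4 : ∑ χ ∈ F, Complex.normSq ((χ : L → ℂ) sL) = 2 + 2 * (k : ℝ) ^ 2 := by
    rw [← hv4, hF, Finset.sum_insert (by simp [h01, h02, h03]),
      Finset.sum_insert (by simp [h12, h13]), Finset.sum_pair h23]
    ring
  rw [hR, hF4] at hsplit
  have hk1 : (1 : ℝ) ≤ (k : ℝ) ^ 2 := by
    have : (1 : ℤ) ≤ k ^ 2 := by
      have := Int.one_le_abs hk0
      nlinarith [sq_abs k]
    exact_mod_cast this
  have hrest := Finset.sum_nonneg (s := Finset.univ \ F)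
    (f := fun χ : Cfsg.IrrCharacter L => Complex.normSq ((χ : L → ℂ) sL))
    fun χ _ => Complex.normSq_nonneg _
  have hC4 : (Nat.card (Subgroup.centralizer ({sL} : Set L)) : ℝ) ≤ 4 := by exact_mod_cast hcent
  have hC : Nat.card (Subgroup.centralizer ({sL} : Set L)) = 4 := by
    refine le_antisymm hcent ?_
    have : (4 : ℝ) ≤ (Nat.card (Subgroup.centralizer ({sL} : Set L)) : ℝ) := by linarith [hsplit]
    exact_mod_cast this
  have hzero : ∀ χ ∈ Finset.univ \ F, (χ : L → ℂ) sL = 0 := fun χ hχ => by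
    refine Complex.normSq_eq_zero.1 ?_
    refine (Finset.sum_eq_zero_iff_of_nonneg
      (f := fun χ : Cfsg.IrrCharacter L => Complex.normSq ((χ : L → ℂ) sL))
      fun χ _ => Complex.normSq_nonneg _).1 ?_ χ hχ
    linarith [hsplit, hrest, hk1, hC4]
  have hksq : k ^ 2 = 1 := by
    have : (k : ℝ) ^ 2 = 1 := by linarith [hsplit, hrest, hk1, hC4]
    exact_mod_cast this
  have huv := CharCore.sum_apply_mul_conj sL vL
  rw [← Finset.sum_subset (Finset.subset_univ F) (fun χ _ hχ => by
    rw [hzero χ (Finset.mem_sdiff.2 ⟨Finset.mem_univ _, hχ⟩), zero_mul]), hFs] at huv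
  simp only [c0, c1, c3, Pi.one_apply, hsgns, hsgnv, hks, map_one, map_neg, map_mul] at huv
  rw [show (ψL : L → ℂ) vL = d from hψv, Complex.conj_natCast] at huv
  have hkd : 2 + 2 * k * (d : ℤ) = 4 ∨ 2 + 2 * k * (d : ℤ) = 0 := by
    split_ifs at huv with h
    · left
      rw [hC] at huv
      have : ((2 + 2 * k * (d : ℤ) : ℤ) : ℂ) = ((4 : ℤ) : ℂ) := by
        push_cast; linear_combination huv
      exact_mod_cast this
    · right
      have : ((2 + 2 * k * (d : ℤ) : ℤ) : ℂ) = ((0 : ℤ) : ℂ) := by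
        push_cast; linear_combination huv
      exact_mod_cast this
  rcases sq_eq_one_iff.1 hksq with h | h <;> rw [h] at hkd <;> omega

omit [DecidableEq G] [Fintype Ω] [DecidableEq Ω] hZ hab hU in
/-- A real invariant linear character gives an invariant subgroup of index two. -/
theorem exists_index_two_of_linear {T : Subgroup G} {w : G} (hconj : ∀ x ∈ T, w * x * w⁻¹ ∈ T)
    (φ : Cfsg.IrrCharacter T) (hd : (φ : T → ℂ) 1 = 1) (hφ1 : (φ : T → ℂ) ≠ 1)
    (hR : ∀ x, conj ((φ : T → ℂ) x) = (φ : T → ℂ) x)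
    (hinv : ∀ x : T, (φ : T → ℂ) ⟨w * x * w⁻¹, hconj x x.2⟩ = (φ : T → ℂ) x) :
    ∃ N : Subgroup G, N ≤ T ∧ (N.subgroupOf T).Normal ∧ N.relIndex T = 2 ∧
      ∀ n ∈ N, w * n * w⁻¹ ∈ N := by
  classical
  obtain ⟨f, hf⟩ := CharCore.IsCharacter.exists_hom_of_degree_one (CharCore.irr_isCharacter φ) hd
  have hval : ∀ x : T, f x = 1 ∨ f x = -1 := by
    intro x
    have h1 := CharCore.norm_hom_apply f x
    have h2 : conj (f x : ℂ) = f x := by
      have := hR x
      simp only [hf] at this
      exact this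
    have h3 : (f x : ℂ) ^ 2 = 1 := by
      rw [pow_two]
      nth_rewrite 1 [← h2]
      rw [← Complex.normSq_eq_conj_mul_self, Complex.normSq_eq_norm_sq, h1]
      norm_num
    rcases sq_eq_one_iff.1 h3 with h | h
    · exact Or.inl (Units.ext h)
    · exact Or.inr (Units.ext (by rw [h]; simp))
  have hcard : Nat.card f.range = 2 := by
    have hr : (f.range : Set ℂˣ) = {1, -1} := by
      refine Set.Subset.antisymm (fun y hy => ?_) (Set.insert_subset (one_mem _) ?_)
      · obtain ⟨x, rfl⟩ := hy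
        exact hval x
      · obtain ⟨x, hx⟩ : ∃ x, f x ≠ 1 := by
          by_contra h
          push Not at h
          exact hφ1 (funext fun x => by simp [hf, h x])
        rw [Set.singleton_subset_iff]
        exact ⟨x, (hval x).resolve_left hx⟩
    show Nat.card ↥(f.range : Set ℂˣ) = 2
    rw [hr, Nat.card_coe_set_eq, Set.ncard_pair fun h => ?_]
    have h1 : (1 : ℂ) = -1 := by simpa using congrArg (fun y : ℂˣ => (y : ℂ)) h
    norm_num at h1
  refine ⟨f.ker.map T.subtype, Subgroup.map_subtype_le _, ?_, ?_, ?_⟩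
  · rw [Subgroup.subgroupOf, Subgroup.comap_map_eq_self_of_injective T.subtype_injective]
    infer_instance
  · rw [Subgroup.relIndex, Subgroup.subgroupOf,
      Subgroup.comap_map_eq_self_of_injective T.subtype_injective, Subgroup.index_ker, hcard]
  · intro n hn
    obtain ⟨x, hx, rfl⟩ := Subgroup.mem_map.1 hn
    refine ⟨⟨w * x * w⁻¹, hconj x x.2⟩, ?_, rfl⟩
    have h := hinv x
    simp only [hf, Units.val_inj] at h
    exact MonoidHom.mem_ker.2 (h.trans (MonoidHom.mem_ker.1 hx))

variable (hfull : Nat.card ↥(Zass.two G a b) + 2 = Fintype.card Ω)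

include hfull

/-- The two-point stabiliser of a sharply three-transitive group of even degree has a subgroup of
index two invariant under an involution interchanging the two points. -/
theorem exists_index_two (hΩ : Even (Fintype.card Ω)) {c : Ω} (hac : a ≠ c) (hbc : b ≠ c) {w : G}
    (hwa : w • a = b) (hwb : w • b = a) (hsc : w • c = c) :
    ∃ N : Subgroup G, N ≤ Zass.two G a b ∧ (N.subgroupOf (Zass.two G a b)).Normal ∧
      N.relIndex (Zass.two G a b) = 2 ∧ ∀ n ∈ N, w * n * w⁻¹ ∈ N := by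
  have heven : Even (Nat.card ↥(Zass.two G a b)) := by
    have := hΩ
    rw [← hfull, Nat.even_add] at this
    exact this.2 even_two
  classical
  set T := Zass.two G a b with hT
  set B := stabilizer G a with hB
  have hconj : ∀ x : G, x ∈ T → w * x * w⁻¹ ∈ T := fun x hx => Zass.conj_swap_mem ⟨hwa, hwb⟩ hx
  have hwa' : w⁻¹ • a = b := inv_smul_eq_iff.2 hwb.symm
  have hwb' : w⁻¹ • b = a := inv_smul_eq_iff.2 hwa.symm
  have hconj' : ∀ x : G, x ∈ T → w⁻¹ * x * w ∈ T := fun x hx => by
    have h := Zass.conj_swap_mem ⟨hwa', hwb'⟩ hx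
    rwa [inv_inv] at h
  let e : T ≃* T :=
    { toFun := fun x => ⟨w * x * w⁻¹, hconj x x.2⟩
      invFun := fun x => ⟨w⁻¹ * x * w, hconj' x x.2⟩
      left_inv := fun x => Subtype.ext (by simp [mul_assoc])
      right_inv := fun x => Subtype.ext (by simp [mul_assoc])
      map_mul' := fun x y => Subtype.ext (by simp [mul_assoc]) }
  have hww : w * w ∈ T := Zass.swap_mul_mem ⟨hwa, hwb⟩ ⟨hwa, hwb⟩
  obtain ⟨φ, hφe, hφ1, hφR, d, hd, hdodd, hddvd, hdsq⟩ := exists_invariant_real_odd heven e (fun χ x => by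
    rw [show e (e x) = (⟨w * w, hww⟩ : T) * x * (⟨w * w, hww⟩ : T)⁻¹ from
      Subtype.ext (by simp [e, mul_assoc])]
    exact CharCore.irr_isClassFunction χ x ⟨w * w, hww⟩)
  by_cases hd1 : d = 1
  · exact exists_index_two_of_linear (fun x hx => hconj x hx) φ (by rw [hd, hd1, Nat.cast_one]) hφ1
      hφR fun x => hφe x
  exfalso
  obtain ⟨π, hπ, hπu⟩ := ZassNormal.exists_proj hZ hab hU
  have hπT : ∀ x : T, π ⟨x, x.2.1⟩ = x := fun x => hπu _ x (by simp)
  have hπsurj : Function.Surjective π := fun x => ⟨_, hπT x⟩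
  let φB : Cfsg.IrrCharacter B := ⟨fun g => (φ : T → ℂ) (π g),
    CharCore.isIrrCharacter_comp_surjective φ.2 π hπsurj⟩
  have hφBc := CharCore.irr_isClassFunction φB
  have hφBU : ∀ g : B, (g : G) ∈ U → (φB : B → ℂ) g = d := by
    intro g hg
    show (φ : T → ℂ) (π g) = d
    rw [hπu g 1 (by simpa using hg), hd]
  set Θ := Cfsg.indFun B (φB : B → ℂ) with hΘ
  have hΘchar : Cfsg.IsCharacter G Θ :=
    CharInd.isCharacter_indFun B (CharCore.irr_isCharacter φB)
  have hn3 := Zass.three_le_card hZ hab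
  have hHcard := hU.card
  -- values of `Θ` as sums over points
  have hpre := Zass.pretransitive hZ
  choose r hr using fun c : Ω => MulAction.exists_smul_eq G a c
  have hval : ∀ g : G, Θ g = ∑ c : Ω, Cfsg.extendByZero B (φB : B → ℂ) ((r c)⁻¹ * g * r c) := by
    intro g
    let pnt : G ⧸ B → Ω := fun q => q.out • a
    have hbij : Function.Bijective pnt := by
      refine ⟨fun p q h => ?_, fun c => ⟨QuotientGroup.mk (r c), ?_⟩⟩
      · rw [← QuotientGroup.out_eq' p, ← QuotientGroup.out_eq' q, QuotientGroup.eq]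
        show (p.out⁻¹ * q.out) • a = a
        rw [mul_smul, show q.out • a = p.out • a from h.symm, inv_smul_smul]
      · show (QuotientGroup.mk (r c) : G ⧸ B).out • a = c
        obtain ⟨y, hy⟩ := QuotientGroup.mk_out_eq_mul B (r c)
        rw [hy, mul_smul, mem_stabilizer_iff.1 y.2, hr]
    rw [hΘ, CharInd.indFun_apply_cosets hφBc (fun q => r (pnt q)) (fun q => ?_)]
    · exact Fintype.sum_bijective pnt hbij _ _ fun q => rfl
    · refine Eq.trans ?_ (QuotientGroup.out_eq' q)
      rw [QuotientGroup.eq]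
      show ((r (pnt q))⁻¹ * q.out) • a = a
      rw [mul_smul, inv_smul_eq_iff, hr]
  have hterm0 : ∀ g : G, ∀ c : Ω, g • c ≠ c →
      Cfsg.extendByZero B (φB : B → ℂ) ((r c)⁻¹ * g * r c) = 0 := by
    intro g c hgc
    refine CharInd.extendByZero_notMem _ fun hm => hgc ?_
    have hm' : ((r c)⁻¹ * g * r c) • a = a := hm
    rwa [mul_smul, mul_smul, hr, inv_smul_eq_iff, hr] at hm'
  have hterma : ∀ g : B, Cfsg.extendByZero B (φB : B → ℂ) ((r a)⁻¹ * g * r a)
      = (φB : B → ℂ) g := by
    intro g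
    have hra : r a ∈ B := hr a
    rw [show (r a)⁻¹ * (g : G) * r a
      = (((⟨r a, hra⟩ : B)⁻¹ * g * ⟨r a, hra⟩ : B) : G) by simp, CharInd.extendByZero_coe]
    simpa using hφBc g (⟨r a, hra⟩ : B)⁻¹
  have hΘ1 : Θ 1 = ((Fintype.card Ω : ℕ) : ℂ) * d := by
    have hBi : B.index = Fintype.card Ω := by
      rw [hB, MulAction.index_stabilizer_of_transitive, Nat.card_eq_fintype_card]
    rw [hΘ, CharInd.indFun_apply_one, hBi, hφBU 1 (by simp)]
  have hΘU : ∀ g : B, (g : G) ∈ U → (g : G) ≠ 1 → Θ g = d := by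
    intro g hg hg1
    rw [hval, Finset.sum_eq_single a, hterma, hφBU g hg]
    · intro c _ hca
      exact hterm0 _ c fun h => hca (hU.fix _ hg hg1 c h)
    · exact fun h => absurd (Finset.mem_univ a) h
  have hΘB : ∀ g : B, (g : G) ∉ U → Θ g = 2 * (φB : B → ℂ) g := by
    intro g hg
    obtain ⟨c, hgc, hca⟩ : ∃ c : Ω, (g : G) • c = c ∧ c ≠ a := by
      by_contra h
      push Not at h
      exact hg ((Zass.mem_kernel_iff hZ hU).2 (Or.inr ⟨g.2, h⟩))
    have hg1 : (g : G) ≠ 1 := fun h => hg (h ▸ U.one_mem)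
    obtain ⟨u, hu, hub⟩ := Zass.kernel_regular hZ hab hU hca
    have hua := mem_stabilizer_iff.1 (hU.le hu)
    set x := u⁻¹ * (g : G) * u
    have hx : x ∈ T := by
      refine ⟨?_, ?_⟩
      · show x • a = a
        simp only [x, mul_smul, hua, mem_stabilizer_iff.1 g.2]
        rw [inv_smul_eq_iff, hua]
      · show x • b = b
        simp only [x, mul_smul, hub, hgc]
        rw [inv_smul_eq_iff, hub]
    have hπg : π g = ⟨x, hx⟩ := by
      refine hπu g ⟨x, hx⟩ ?_
      have h := U.mul_mem hu (Zass.kernel_normal hZ hU (g := x) hx.1 (U.inv_mem hu))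
      have e1 : u * (x * u⁻¹ * x⁻¹) = (g : G) * x⁻¹ := by simp only [x]; group
      rwa [e1] at h
    have hβ : (u * w)⁻¹ * r c ∈ B := by
      show ((u * w)⁻¹ * r c) • a = a
      rw [mul_smul, hr, inv_smul_eq_iff, mul_smul, hwa, hub]
    have hγ : w⁻¹ * x * w ∈ B := (hconj' x hx).1
    set β : B := ⟨_, hβ⟩
    set γ : B := ⟨_, hγ⟩
    have hterm : Cfsg.extendByZero B (φB : B → ℂ) ((r c)⁻¹ * g * r c) = (φB : B → ℂ) g := by
      have e1 : (r c)⁻¹ * (g : G) * r c = ((β⁻¹ * γ * β : B) : G) := by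
        simp only [β, γ, x, Subgroup.coe_mul, Subgroup.coe_inv]
        group
      have e2 : (φB : B → ℂ) (β⁻¹ * γ * β) = (φB : B → ℂ) γ := by
        simpa using hφBc γ β⁻¹
      rw [e1, CharInd.extendByZero_coe, e2]
      show (φ : T → ℂ) (π γ) = (φ : T → ℂ) (π g)
      rw [hπu γ ⟨_, hconj' x hx⟩ (by simp [γ]), hπg, ← hφe ⟨_, hconj' x hx⟩]
      exact congrArg _ (Subtype.ext (by simp [e, mul_assoc]))
    rw [hval, Finset.sum_eq_add (s := Finset.univ) a c hca.symm, hterma, hterm, two_mul]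
    · intro e _ he
      refine hterm0 _ e fun h => ?_
      rcases Zass.fixed_of_mem_two hZ hca.symm ⟨g.2, hgc⟩ hg1 h with h' | h'
      · exact he.1 h'
      · exact he.2 h'
    · simp
    · simp
  -- the norm of `Θ`
  have := Fintype.ofFinite B
  set q := Fintype.card Ω - 1 with hq
  have hUcard : Nat.card U = q := by omega
  set UB := Finset.univ.filter fun g : B => (g : G) ∈ U with hUB
  have hUBcard : UB.card = q := by
    rw [hUB, ← Fintype.card_subtype, ← Nat.card_eq_fintype_card, ← hUcard]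
    exact Nat.card_congr
      { toFun := fun g => ⟨_, g.2⟩
        invFun := fun g => ⟨⟨g, hU.le g.2⟩, g.2⟩
        left_inv := fun _ => rfl
        right_inv := fun _ => rfl }
  have h1UB : (1 : B) ∈ UB := by simp [hUB]
  have hqn : Fintype.card Ω = q + 1 := by omega
  have hΘφ : Cfsg.classInner (φB : B → ℂ) (fun g : B => Θ g) = 2 := by
    have hΔ : ∀ g : B, Θ g = 2 * (φB : B → ℂ) g +
        (if (g : G) ∈ U then (if g = 1 then ((q : ℂ) - 1) * d else -(d : ℂ)) else 0) := by
      intro g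
      by_cases hg : (g : G) ∈ U
      · rw [if_pos hg, hφBU g hg]
        by_cases hg1 : g = 1
        · subst hg1
          rw [if_pos rfl, OneMemClass.coe_one, hΘ1, hqn]
          push_cast
          ring
        · rw [if_neg hg1, hΘU g hg fun h => hg1 (Subtype.ext h)]
          ring
      · rw [if_neg hg, hΘB g hg, add_zero]
    have hφφ : Cfsg.classInner (φB : B → ℂ) (φB : B → ℂ) = 1 := CharCore.classInner_irr_self φB
    rw [CharCore.classInner_def] at hφφ ⊢
    simp only [hΔ, map_add, map_mul, map_ofNat, mul_add, Finset.sum_add_distrib]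
    have hz : ∑ g : B, (φB : B → ℂ) g * conj
        (if (g : G) ∈ U then (if g = 1 then ((q : ℂ) - 1) * d else -(d : ℂ)) else 0) = 0 := by
      have hsplit : ∀ g : B, (φB : B → ℂ) g * conj
          (if (g : G) ∈ U then (if g = 1 then ((q : ℂ) - 1) * d else -(d : ℂ)) else 0)
          = if (g : G) ∈ U then
              (-((d : ℂ) * d) + if g = 1 then (q : ℂ) * (d * d) else 0) else 0 := by
        intro g
        by_cases hg : (g : G) ∈ U
        · by_cases hg1 : g = 1
          · subst hg1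
            simp only [hg, if_true, hφBU 1 hg, map_mul, map_sub, map_natCast, map_one]
            ring
          · simp only [hg, hg1, if_true, if_false, hφBU g hg, map_neg, map_natCast]
            ring
        · simp [hg]
      rw [Finset.sum_congr rfl fun g _ => hsplit g, ← Finset.sum_filter, ← hUB,
        Finset.sum_add_distrib, Finset.sum_const, hUBcard, Finset.sum_ite_eq' UB 1,
        if_pos h1UB, nsmul_eq_mul]
      ring
    rw [hz, mul_zero, add_zero]
    have e2 : ∀ g : B, (φB : B → ℂ) g * (2 * conj ((φB : B → ℂ) g))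
        = 2 * ((φB : B → ℂ) g * conj ((φB : B → ℂ) g)) := fun g => by ring
    rw [Finset.sum_congr rfl fun g _ => e2 g, ← Finset.mul_sum, mul_left_comm, hφφ, mul_one]
  -- `Θ` has exactly two constituents
  obtain ⟨m, hm⟩ := CharCore.IsCharacter.exists_sum hΘchar
  have hΘcf := CharCore.IsCharacter.isClassFunction hΘchar
  have hmsq : ∑ ψ, m ψ * m ψ = 2 := by
    have h : Cfsg.classInner Θ Θ = 2 := by
      nth_rewrite 1 [hΘ]
      rw [CharInd.classInner_indFun_left B _ hΘcf]
      exact hΘφ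
    rw [hm, CharCore.classInner_sum_sum] at h
    simp only [Complex.conj_natCast] at h
    exact_mod_cast h
  have hm1 : ∀ ψ, m ψ ≤ 1 := by
    intro ψ
    have h := Finset.single_le_sum (f := fun ψ => m ψ * m ψ) (fun _ _ => Nat.zero_le _)
      (Finset.mem_univ ψ)
    simp only [hmsq] at h
    nlinarith
  set S := Finset.univ.filter fun ψ => m ψ = 1 with hS
  have hmS : ∀ ψ, m ψ = if ψ ∈ S then 1 else 0 := by
    intro ψ
    by_cases h : m ψ = 1
    · simp [hS, h]
    · have := hm1 ψ
      simp [hS, h]; omega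
  have hScard : S.card = 2 := by
    rw [← hmsq, Finset.card_eq_sum_ones, hS, Finset.sum_filter]
    refine Finset.sum_congr rfl fun ψ _ => ?_
    have := hm1 ψ
    rcases (by omega : m ψ = 0 ∨ m ψ = 1) with h | h <;> simp [h]
  obtain ⟨ψ₁, ψ₂, h12, hS12⟩ := Finset.card_eq_two.1 hScard
  have hsum : ∀ g, Θ g = (ψ₁ : G → ℂ) g + (ψ₂ : G → ℂ) g := by
    intro g
    rw [hm, Finset.sum_apply]
    simp only [Pi.smul_apply, smul_eq_mul, hmS, Nat.cast_ite, Nat.cast_one, Nat.cast_zero,
      ite_mul, one_mul, zero_mul]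
    rw [Finset.sum_ite_mem, Finset.univ_inter, hS12, Finset.sum_pair h12]
  -- the data attached to a constituent
  obtain ⟨u₀, hu₀, hu₀1⟩ := Zass.kernel_ne_bot hZ hU
  have hdata : ∀ ψ ∈ S, ∃ D r : ℕ, (ψ : G → ℂ) 1 = D ∧
      (D : ℂ) + ((q : ℂ) - 1) * (ψ : G → ℂ) u₀ = q * ((d : ℂ) + r) := by
    intro ψ hψ
    obtain ⟨D, -, -, hD⟩ := CharClifford.exists_degree_dvd_card ψ.2
    have := Fintype.ofFinite U
    have hψc := CharCore.irr_isCharacter ψ
    have hψB : Cfsg.IsCharacter B (fun g : B => (ψ : G → ℂ) g) :=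
      CharCore.isCharacter_restrict hψc B
    obtain ⟨k, hk⟩ := CharCore.IsCharacter.exists_sum hψB
    have hkφ : k φB = 1 := by
      have h1 : Cfsg.classInner Θ (ψ : G → ℂ) = 1 := by
        rw [hm, CharCore.classInner_sum_all]
        simp [(Finset.mem_filter.1 hψ).2]
      rw [hΘ, CharInd.classInner_indFun_left B _ (CharCore.irr_isClassFunction ψ),
        ← CharCore.conj_classInner, hk, CharCore.classInner_sum_all, Complex.conj_natCast] at h1
      exact_mod_cast h1
    let R : B → ℂ := ∑ χ, ((if χ = φB then 0 else k χ : ℕ) : ℂ) • (χ : B → ℂ)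
    have hR : Cfsg.IsCharacter B R := CharCore.isCharacter_sum_irr _
    have hRsum : ∀ g : B, (ψ : G → ℂ) g = (φB : B → ℂ) g + R g := by
      intro g
      rw [show (ψ : G → ℂ) g = (fun g : B => (ψ : G → ℂ) g) g from rfl, hk]
      simp only [R, Finset.sum_apply, Pi.smul_apply, smul_eq_mul]
      rw [← Finset.add_sum_erase _ _ (Finset.mem_univ φB),
        ← Finset.add_sum_erase _ _ (Finset.mem_univ φB), hkφ, if_pos rfl]
      simp only [Nat.cast_one, one_mul, Nat.cast_zero, zero_mul, zero_add]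
      congr 1
      refine Finset.sum_congr rfl fun χ hχ => ?_
      rw [if_neg (Finset.ne_of_mem_erase hχ)]
    have hRU : Cfsg.IsCharacter U (fun u : U => R (Subgroup.inclusion hU.le u)) :=
      CharCore.isCharacter_comp hR (Subgroup.inclusion hU.le)
    obtain ⟨r, hr'⟩ := CharCore.IsCharacter.exists_classInner_eq_natCast hRU
      (CharCore.isCharacter_one (G := U))
    refine ⟨D, r, hD, ?_⟩
    rw [CharCore.classInner_def, hUcard] at hr'
    simp only [Pi.one_apply, map_one, mul_one] at hr'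
    have hq0 : (q : ℂ) ≠ 0 := by exact_mod_cast (by omega : q ≠ 0)
    have hRtot : ∑ u : U, R (Subgroup.inclusion hU.le u) = q * r := by
      rw [← hr', ← mul_assoc, mul_inv_cancel₀ hq0, one_mul]
    have hψU : ∀ u : U, u ≠ 1 → (ψ : G → ℂ) u = (ψ : G → ℂ) u₀ := by
      intro u hu1
      obtain ⟨x, -, hx⟩ := ZassNormal.conj_transitive_kernel hZ hab hU hfull hu₀ hu₀1 u.2
        (fun h => hu1 (Subtype.ext h))
      rw [← hx]
      exact CharCore.irr_isClassFunction ψ u₀ x
    have htot : ∑ u : U, (ψ : G → ℂ) u = D + ((q : ℂ) - 1) * (ψ : G → ℂ) u₀ := by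
      rw [← Finset.add_sum_erase _ _ (Finset.mem_univ (1 : U)),
        Finset.sum_congr rfl fun u hu => hψU u (Finset.ne_of_mem_erase hu),
        Finset.sum_const, Finset.card_erase_of_mem (Finset.mem_univ _), Finset.card_univ,
        ← Nat.card_eq_fintype_card, hUcard, OneMemClass.coe_one, hD, nsmul_eq_mul,
        Nat.cast_sub (by omega : 1 ≤ q), Nat.cast_one]
    rw [← htot]
    calc ∑ u : U, (ψ : G → ℂ) u
        = ∑ u : U, ((d : ℂ) + R (Subgroup.inclusion hU.le u)) := by
          refine Finset.sum_congr rfl fun u _ => ?_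
          rw [← hφBU (Subgroup.inclusion hU.le u) u.2, ← hRsum]
          rfl
      _ = q * ((d : ℂ) + r) := by
          rw [Finset.sum_add_distrib, hRtot, Finset.sum_const, Finset.card_univ,
            ← Nat.card_eq_fintype_card, hUcard, nsmul_eq_mul]
          ring
  obtain ⟨D₁, r₁, hD₁, hr₁⟩ := hdata ψ₁ (by simp [hS12])
  obtain ⟨D₂, r₂, hD₂, hr₂⟩ := hdata ψ₂ (by simp [hS12])
  have hsum1 := hsum 1
  rw [hΘ1, hD₁, hD₂] at hsum1
  have hu₀B := hΘU ⟨u₀, hU.le hu₀⟩ hu₀ hu₀1
  rw [hsum] at hu₀B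
  have hrr : r₁ + r₂ = 0 := by
    have hq0 : (q : ℂ) ≠ 0 := by exact_mod_cast (by omega : q ≠ 0)
    have : ((r₁ + r₂ : ℕ) : ℂ) = 0 := by
      refine mul_left_cancel₀ hq0 ?_
      rw [hqn] at hsum1
      push_cast at hsum1 ⊢
      linear_combination -hr₁ - hr₂ - hsum1 + ((q : ℂ) - 1) * hu₀B
    exact_mod_cast this
  obtain ⟨hr₁0, hr₂0⟩ : r₁ = 0 ∧ r₂ = 0 := by omega
  subst hr₁0 hr₂0
  -- every constituent has degree `d + j (q - 1)`
  have hq2 : 2 ≤ q := by omega
  have hjs : ∀ (ψ : Cfsg.IrrCharacter G) (D : ℕ), ψ ∈ S → (ψ : G → ℂ) 1 = D →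
      (D : ℂ) + ((q : ℂ) - 1) * (ψ : G → ℂ) u₀ = q * ((d : ℂ) + ((0 : ℕ) : ℂ)) →
      ∃ j : ℕ, 0 < j ∧ D = d + j * (q - 1) ∧ D ∣ Nat.card G := by
    intro ψ D hψ hD heq
    rw [Nat.cast_zero, add_zero] at heq
    obtain ⟨D', -, hD'dvd, hD'⟩ := CharClifford.exists_degree_dvd_card ψ.2
    obtain rfl : D = D' := by rw [hD] at hD'; exact_mod_cast hD'
    have hψc := CharCore.irr_isCharacter ψ
    have hq1 : ((q : ℂ) - 1) ≠ 0 := by
      rw [sub_ne_zero]; exact_mod_cast (by omega : q ≠ 1)
    set c : ℚ := (((q * d : ℕ) : ℚ) - D) / ((q : ℚ) - 1) with hc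
    have hcval : (ψ : G → ℂ) u₀ = (c : ℂ) := by
      rw [hc]; push_cast
      rw [eq_div_iff hq1]
      linear_combination heq
    obtain ⟨k, hk⟩ := CharClifford.exists_int_of_isIntegral_rat (q := c)
      (hcval ▸ CharCore.IsCharacter.isIntegral hψc u₀)
    have hkv : (ψ : G → ℂ) u₀ = (k : ℂ) := by rw [hcval, hk]; simp
    have hkint : (D : ℤ) + ((q : ℤ) - 1) * k = q * d := by
      rw [hkv] at heq
      have : (((D : ℤ) + ((q : ℤ) - 1) * k : ℤ) : ℂ) = (((q * d : ℕ) : ℤ) : ℂ) := by
        push_cast; linear_combination heq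
      exact_mod_cast this
    have hkD : k ≤ D := by
      have h := CharCore.IsCharacter.norm_apply_le hψc u₀
      rw [hkv, hD, Complex.norm_intCast] at h
      simp only [Complex.norm_natCast, Complex.natCast_re] at h
      exact_mod_cast le_trans (le_abs_self _) h
    have hkd : k ≤ d := by nlinarith
    refine ⟨(d - k).toNat, ?_, ?_, hD'dvd⟩
    · rcases lt_or_eq_of_le hkd with hlt | heq'
      · omega
      exfalso
      have hDd : D = d := by
        have : (D : ℤ) = d := by rw [heq'] at hkint; linarith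
        exact_mod_cast this
      subst hDd
      obtain ⟨m', hm'⟩ := CharCore.IsCharacter.exists_sum (CharCore.isCharacter_restrict hψc B)
      have h1 : Cfsg.classInner (φB : B → ℂ) (fun g : B => (ψ : G → ℂ) g) = 1 := by
        rw [← CharInd.classInner_indFun_left B _ (CharCore.irr_isClassFunction ψ), ← hΘ, hm,
          CharCore.classInner_sum_all]
        simp [(Finset.mem_filter.1 hψ).2]
      rw [← CharCore.conj_classInner, hm', CharCore.classInner_sum_all, Complex.conj_natCast] at h1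
      have hm'φ : m' φB = 1 := by exact_mod_cast h1
      choose dg hdg0 _ hdg using fun χ : Cfsg.IrrCharacter B =>
        CharClifford.exists_degree_dvd_card χ.2
      have hm'1 := congrFun hm' 1
      simp only [OneMemClass.coe_one, hD, Finset.sum_apply, Pi.smul_apply, smul_eq_mul, hdg] at hm'1
      have hm'N : D = ∑ χ, m' χ * dg χ := by exact_mod_cast hm'1
      have hdgφ : dg φB = D := by
        have h := hdg φB
        rw [hφBU 1 (by simp)] at h
        exact_mod_cast h.symm
      rw [← Finset.add_sum_erase _ _ (Finset.mem_univ φB), hm'φ, hdgφ, one_mul] at hm'N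
      have hzero : ∀ χ ∈ Finset.univ.erase φB, m' χ = 0 := fun χ hχ =>
        (mul_eq_zero.1 (Finset.sum_eq_zero_iff.1
          (by omega : ∑ χ ∈ Finset.univ.erase φB, m' χ * dg χ = 0) χ hχ)).resolve_right
          (hdg0 χ).ne'
      have hψB : ∀ g : B, (ψ : G → ℂ) g = (φB : B → ℂ) g := by
        intro g
        have h := congrFun hm' g
        rw [Finset.sum_apply, Finset.sum_eq_single φB (fun χ _ hχ => by
          simp [hzero χ (Finset.mem_erase.2 ⟨hχ, Finset.mem_univ _⟩)])
          (fun h => absurd (Finset.mem_univ _) h)] at h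
        simpa [hm'φ] using h
      refine hd1 (degree_one_of_extension hZ hab hU hfull hΩ hac hbc hwa hwb hsc ψ hdodd hD ?_
        fun u hu => ?_)
      · have : (fun x : T => (ψ : G → ℂ) x) = (φ : T → ℂ) := funext fun x => by
          rw [show (ψ : G → ℂ) x = (ψ : G → ℂ) ((⟨x, x.2.1⟩ : B) : G) from rfl, hψB]
          show (φ : T → ℂ) (π _) = _
          rw [hπT]
        exact this.symm ▸ φ.2
      · rw [hD, show (ψ : G → ℂ) u = (ψ : G → ℂ) ((⟨u, hU.le hu⟩ : B) : G) from rfl, hψB]
        exact hφBU _ hu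
    · have h1 : ((d - k).toNat : ℤ) = (d : ℤ) - k := Int.toNat_of_nonneg (by omega)
      have h2 : (D : ℤ) = ((d + (d - k).toNat * (q - 1) : ℕ) : ℤ) := by
        rw [Nat.cast_add, Nat.cast_mul, h1, Nat.cast_sub (by omega : 1 ≤ q)]
        push_cast
        linarith
      exact_mod_cast h2
  obtain ⟨j₁, hj₁, hDj₁, hdvd₁⟩ := hjs ψ₁ D₁ (by simp [hS12]) hD₁ hr₁
  obtain ⟨j₂, hj₂, hDj₂, hdvd₂⟩ := hjs ψ₂ D₂ (by simp [hS12]) hD₂ hr₂
  have hsum' : D₁ + D₂ = (q + 1) * d := by
    rw [hqn] at hsum1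
    have : ((D₁ + D₂ : ℕ) : ℂ) = (((q + 1) * d : ℕ) : ℂ) := by
      push_cast at hsum1 ⊢
      linear_combination -hsum1
    exact_mod_cast this
  obtain ⟨e', he'⟩ := hddvd
  have hTq : Nat.card T = q - 1 := by omega
  have hjsum : j₁ + j₂ = d := by
    obtain ⟨q', hq'⟩ : ∃ q', q = q' + 2 := ⟨q - 2, by omega⟩
    rw [hDj₁, hDj₂, hq', show q' + 2 - 1 = q' + 1 by omega] at hsum'
    have : (j₁ + j₂) * (q' + 1) = d * (q' + 1) := by linarith
    exact Nat.eq_of_mul_eq_mul_right (by omega) this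
  have hG := Zass.card_group hZ hab
  rw [← hT, hqn, Nat.add_sub_cancel, hTq] at hG
  have hqde : q - 1 = d * e' := by rw [← hTq, he']
  have key : ∀ j D : ℕ, 0 < j → j < d → d < 2 * j → D = d + j * (q - 1) → D ∣ Nat.card G →
      False := by
    intro j D _ hjd hj2 hD hdvd
    refine ZassNormal.false_of_degree_dvd (e := e') hjd hj2 ?_ ?_
    · rw [← hqde, ← hTq]; exact hdsq
    · rw [hD, hG, hqde] at hdvd
      rw [show d * (1 + j * e') = d + j * (d * e') by ring]
      rw [show (d * e' + 2) * (d * e' + 1) * (d * e') = (q + 1) * (q * (d * e')) by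
        rw [← hqde]
        obtain ⟨q', hq'⟩ : ∃ q', q = q' + 1 := ⟨q - 1, by omega⟩
        rw [hq', Nat.add_sub_cancel]; ring]
      exact hdvd
  obtain ⟨k, hk⟩ := hdodd
  rcases Nat.lt_or_ge d (2 * j₁) with h | h
  · exact key j₁ D₁ hj₁ (by omega) h hDj₁ hdvd₁
  · exact key j₂ D₂ hj₂ (by omega) (by omega) hDj₂ hdvd₂

end Cfsg.Agent.PermB
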