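import Cfsg.Agent.PermB.NearField
import Cfsg.Agent.PermB.PGL2Coords
import Cfsg.Agent.Lib.Perm.SharplyTwo
import Cfsg.Agent.S0729

/-!
Sharply three-transitive groups of degree `2 ^ f + 1`, or `p ^ f + 1` with `p` odd and `f` odd,
are projective general linear groups.
-/

set_option autoImplicit false

namespace Cfsg.Agent.PermB.SharpThreeField

open MulAction

/-- An involutory map moves an even number of points. -/
theorem even_card_moved {ι : Type*} [DecidableEq ι] [Fintype ι] (f : ι → ι)
    (hff : ∀ i, f (f i) = i) :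
    Even (Fintype.card ι - (Finset.univ.filter fun i => f i = i).card) := by
  have hpar : ∑ i ∈ Finset.univ.filter (fun i => f i ≠ i), (1 : ZMod 2) = 0 := by
    refine Finset.sum_involution (fun i _ => f i) (fun i _ => by decide) ?_ ?_ (fun i _ => hff i)
    · intro i hi _
      exact (Finset.mem_filter.1 hi).2
    · intro i hi
      rw [Finset.mem_filter] at hi ⊢
      exact ⟨Finset.mem_univ _, by rw [hff]; exact Ne.symm hi.2⟩
  rw [Finset.sum_const, nsmul_one, ZMod.natCast_eq_zero_iff_even] at hpar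
  have := Finset.card_filter_add_card_filter_not (s := Finset.univ) (fun i : ι => f i = i)
  rw [Finset.card_univ] at this
  rwa [← this, Nat.add_sub_cancel_left]

theorem one_sub_inv_ne_zero {K : Type*} [Field K] {x : K} (hx : x ≠ 0) :
    1 - (1 - x)⁻¹ ≠ 0 := by
  rw [sub_ne_zero]
  intro h
  apply hx
  have := inv_injective (h.symm.trans inv_one.symm)
  linear_combination -this

theorem false_of_neg {K : Type*} [Field K] (h2 : (2 : K) ≠ 0) {x : K} (hx : x ≠ 0)
    (h1x : 1 - x ≠ 0) (h : -(1 - (1 - x)⁻¹)⁻¹ = 1 + x⁻¹) : False := by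
  rw [show 1 - (1 - x)⁻¹ = -x / (1 - x) by field_simp; ring] at h
  field_simp at h
  apply h2
  apply mul_left_cancel₀ hx
  linear_combination -h

theorem false_of_pos {K : Type*} [Field K] (h2 : (2 : K) ≠ 0) {x : K} (hx : x ≠ 0)
    (h1x : 1 - x ≠ 0) (h : (1 - (1 - x)⁻¹)⁻¹ = 1 + x⁻¹) : False := by
  rw [show 1 - (1 - x)⁻¹ = -x / (1 - x) by field_simp; ring] at h
  field_simp at h
  apply h2
  linear_combination -h

variable {α : Type*} [Fintype α] [DecidableEq α] {G : Subgroup (Equiv.Perm α)}

theorem three (hsharp : ∀ x : Fin 3 ↪ α, stabilizer G x = ⊥) (g : G) {x y z : α} (h1 : x ≠ y)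
    (h2 : x ≠ z) (h3 : y ≠ z) (e1 : g • x = x) (e2 : g • y = y) (e3 : g • z = z) : g = 1 := by
  let X : Fin 3 ↪ α := ⟨![x, y, z], fun i j hij => by
    revert hij
    fin_cases i <;> fin_cases j <;> simp [h1, h2, h3, h1.symm, h2.symm, h3.symm]⟩
  have hg : g ∈ stabilizer G X := by
    rw [mem_stabilizer_iff]
    ext i
    show g • X i = X i
    fin_cases i
    exacts [e1, e2, e3]
  rwa [hsharp X, Subgroup.mem_bot] at hg

theorem move (h3 : IsMultiplyPretransitive G α 3) {x y z x' y' z' : α} (h1 : x ≠ y)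
    (h2 : x ≠ z) (h4 : y ≠ z) (h1' : x' ≠ y') (h2' : x' ≠ z') (h4' : y' ≠ z') :
    ∃ g : G, g • x = x' ∧ g • y = y' ∧ g • z = z' := by
  have := h3
  let X : Fin 3 ↪ α := ⟨![x, y, z], fun i j hij => by
    fin_cases i <;> fin_cases j <;> simp_all⟩
  let Y : Fin 3 ↪ α := ⟨![x', y', z'], fun i j hij => by
    fin_cases i <;> fin_cases j <;> simp_all⟩
  obtain ⟨g, hg⟩ := exists_smul_eq G X Y
  exact ⟨g, congrArg (fun u : Fin 3 ↪ α => u 0) hg, congrArg (fun u : Fin 3 ↪ α => u 1) hg,
    congrArg (fun u : Fin 3 ↪ α => u 2) hg⟩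

set_option maxHeartbeats 2000000 in
/-- The common argument of the two recognition theorems. -/
theorem exists_pgl2 {p f : ℕ} (hp : p.Prime) (hf : 1 ≤ f) (hodd : p ≠ 2 → Odd f)
    (hα : Fintype.card α = p ^ f + 1) (h3 : IsMultiplyPretransitive G α 3)
    (hsharp : ∀ x : Fin 3 ↪ α, stabilizer G x = ⊥) :
    ∃ (F : Type) (_ : Field F) (_ : Fintype F), Fintype.card F = p ^ f ∧
      Nonempty (G ≃* Matrix.ProjGenLinGroup (Fin 2) F) := by
  classical
  have hq2 : 2 ≤ p ^ f := le_trans hp.two_le (Nat.le_self_pow (by omega) p)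
  obtain ⟨a, b, c, hab, hac, hbc⟩ := Fintype.two_lt_card_iff.1 (show 2 < Fintype.card α by omega)
  -- the kernel of a point stabiliser
  have hsharp2 : ∀ x : Fin 2 ↪ SubMulAction.ofStabilizer G a,
      stabilizer (stabilizer G a) x = ⊥ := by
    intro x
    rw [eq_bot_iff]
    intro g hg
    rw [mem_stabilizer_iff] at hg
    rw [Subgroup.mem_bot]
    have hx : ∀ i, (g : G) • (x i : α) = (x i : α) := fun i =>
      congrArg (fun u : Fin 2 ↪ SubMulAction.ofStabilizer G a => ((u i : _) : α)) hg
    exact Subtype.ext (three hsharp g (Ne.symm (x 0).2) (Ne.symm (x 1).2)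
      (fun h => absurd (x.injective (Subtype.ext h)) (by decide)) g.2 (hx 0) (hx 1))
  have hX : Nat.card (SubMulAction.ofStabilizer G a) = p ^ f := by
    have := SubMulAction.nat_card_ofStabilizer_add_one_eq G a
    rw [Nat.card_eq_fintype_card, Nat.card_eq_fintype_card] at this
    rw [Nat.card_eq_fintype_card]
    omega
  have : IsMultiplyPretransitive (stabilizer G a) (SubMulAction.ofStabilizer G a) 2 := by
    have := h3
    have : IsMultiplyPretransitive G α 2 :=
      isMultiplyPretransitive_of_le (n := 3) (by norm_num)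
        (by rw [Nat.card_eq_fintype_card]; omega)
    have : IsPretransitive G α := isPretransitive_of_is_two_pretransitive
    exact SubMulAction.ofStabilizer.isMultiplyPretransitive.1 h3
  obtain ⟨p', j, N0, hp', hj, hXj, hN0n, hN0c, hN0p, hN0t, hN0r, -⟩ :=
    Perm.SharplyTwo.exists_translations hsharp2 (by rw [hX]; exact hq2)
  obtain rfl : p = p' := by
    rw [hX] at hXj
    exact ((Nat.prime_dvd_prime_iff_eq hp' hp).1
      (hp'.dvd_of_dvd_pow (hXj ▸ dvd_pow_self p' (by omega)))).symm
  have := hN0n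
  have hcm := hN0c
  let V := Additive ↥N0
  letI : CommGroup ↥N0 := { (inferInstance : Group ↥N0) with mul_comm := fun x y => hcm.is_comm.comm x y }
  -- evaluation at `b`
  let π : V → α := fun v => (((Additive.toMul v : ↥N0) : stabilizer G a) : G) • b
  have πa : ∀ v, π v ≠ a := fun v h =>
    hab (MulAction.injective (((Additive.toMul v : ↥N0) : stabilizer G a) : G)
      ((((Additive.toMul v : ↥N0) : stabilizer G a)).2.trans h.symm))
  have π0 : π 0 = b := one_smul G b
  have πadd : ∀ v w, π (v + w) = (((Additive.toMul v : ↥N0) : stabilizer G a) : G) • π w :=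
    fun v w => mul_smul _ _ b
  have πinj : Function.Injective π := fun v w h =>
    Perm.regular_unique (hN0r ⟨b, hab.symm⟩) v.toMul.2 w.toMul.2 (Subtype.ext h) |>
      fun e => Subtype.ext e
  have πsurj : ∀ x, x ≠ a → ∃ v, π v = x := fun x hx => by
    have := hN0t
    obtain ⟨t, ht⟩ := exists_smul_eq N0 (⟨b, hab.symm⟩ : SubMulAction.ofStabilizer G a) ⟨x, hx⟩
    exact ⟨Additive.ofMul t, congrArg (Subtype.val (p := fun y => y ∈ SubMulAction.ofStabilizer G a)) ht⟩
  -- the two-point stabiliser
  let H : Subgroup G := stabilizer G a ⊓ stabilizer G b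
  let H' : H →* stabilizer G a := Subgroup.inclusion inf_le_left
  let ρ : H →* AddMonoid.End V :=
    { toFun := fun h => (MonoidHom.toAdditive (MulAut.conjNormal (H' h) : MulAut ↥N0).toMonoidHom :
        AddMonoid.End V)
      map_one' := AddMonoidHom.ext fun v => by
        show Additive.ofMul ((MulAut.conjNormal (H' 1) : MulAut ↥N0) (Additive.toMul v)) = v
        rw [map_one, map_one]
        rfl
      map_mul' := fun h k => AddMonoidHom.ext fun v => by
        show Additive.ofMul ((MulAut.conjNormal (H' (h * k)) : MulAut ↥N0) (Additive.toMul v)) = _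
        rw [map_mul, map_mul]
        rfl }
  have πρ : ∀ (h : H) v, π (ρ h v) = (h : G) • π v := fun h v => by
    show ((h : G) * (((Additive.toMul v : ↥N0) : stabilizer G a) : G) * (h : G)⁻¹) • b = _
    rw [mul_smul, mul_smul, inv_smul_eq_iff.2 (mem_stabilizer_iff.1 h.2.2).symm]
  obtain ⟨one, hone1⟩ := πsurj c hac.symm
  have hone : one ≠ 0 := fun h => hbc (by rw [← hone1, h, π0])
  have hinjH : ∀ h k : H, (h : G) • c = (k : G) • c → h = k := fun h k e => by
    have hm := (k⁻¹ * h).2
    have := three hsharp _ hab hac hbc hm.1 hm.2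
      (show ((k : G)⁻¹ * (h : G)) • c = c by rw [mul_smul, e, inv_smul_smul])
    exact (inv_mul_eq_one.1 (Subtype.ext this)).symm
  have hreg : ∀ v : V, v ≠ 0 → ∃! h : H, ρ h one = v := by
    intro v hv
    obtain ⟨g, ga, gb, gc⟩ := move h3 hab hac hbc hab (πa v).symm
      (fun h => hv (πinj (h.symm.trans π0.symm)))
    refine ⟨⟨g, ga, gb⟩, πinj ?_, fun k hk => hinjH _ _ ?_⟩
    · rw [πρ, hone1]; exact gc
    · show (k : G) • c = g • c
      rw [gc, ← hone1, ← πρ, hk]
  have hcardV : Nat.card V = p ^ f := by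
    rw [← hX]
    exact Nat.card_congr (Equiv.ofBijective (fun v => (⟨π v, πa v⟩ : SubMulAction.ofStabilizer G a))
      ⟨fun v w h => πinj (congrArg Subtype.val h), fun x => (πsurj x x.2).imp fun v hv => Subtype.ext hv⟩)
  have hH := card_eq_card_add_one ρ hone hreg
  rw [hcardV] at hH
  -- the involution
  obtain ⟨w, wa, wb, wc⟩ := move h3 hab hac hbc hab.symm hbc hac
  have hw : w * w = 1 := three hsharp _ hab hac hbc (by rw [mul_smul, wa, wb])
    (by rw [mul_smul, wb, wa]) (by rw [mul_smul, wc, wc])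
  have wmem : ∀ h : H, w * h * w ∈ H := fun h =>
    ⟨show (w * h * w) • a = a by rw [mul_smul, mul_smul, wa, h.2.2, wb],
      show (w * h * w) • b = b by rw [mul_smul, mul_smul, wb, h.2.1, wa]⟩
  let σ : H →* H := MonoidHom.mk' (fun h => ⟨w * h * w, wmem h⟩) fun h k => Subtype.ext (by
    show w * ((h : G) * k) * w = w * h * w * (w * k * w)
    calc w * ((h : G) * k) * w = w * h * (w * w) * k * w := by rw [hw]; group
      _ = _ := by group)
  have σσ : ∀ h, σ (σ h) = h := fun h => Subtype.ext (by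
    show w * (w * h * w) * w = h
    calc w * (w * (h : G) * w) * w = (w * w) * h * (w * w) := by group
      _ = h := by rw [hw, one_mul, mul_one])
  have σc : ∀ h : H, ((σ h : H) : G) • c = w • (h : G) • c := fun h => by
    show (w * h * w) • c = _
    rw [mul_smul, mul_smul, wc]
  -- its fixed points
  have hfix2 : (Finset.univ.filter fun x : α => w • x = x).card ≤ 2 := by
    by_contra hgt
    push Not at hgt
    obtain ⟨x, y, z, hx, hy, hz, hxy, hxz, hyz⟩ := Finset.two_lt_card_iff.1 hgt
    simp only [Finset.mem_filter, Finset.mem_univ, true_and] at hx hy hz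
    have := three hsharp w hxy hxz hyz hx hy hz
    rw [this, one_smul] at wa
    exact hab wa
  have hCfix : Nat.card {h : H // σ h = h} ≤ (Finset.univ.filter fun x : α => w • x = x).card := by
    rw [← Fintype.card_coe, ← Nat.card_eq_fintype_card (α := ↥(Finset.univ.filter _))]
    refine Nat.card_le_card_of_injective (fun h => ⟨((h.1 : H) : G) • c, ?_⟩) fun h k e =>
      Subtype.ext (hinjH _ _ (congrArg Subtype.val e))
    rw [Finset.mem_filter]
    exact ⟨Finset.mem_univ _, by rw [← σc, h.2]⟩
  have hpar := even_card_moved (fun x : α => w • x) fun x => by rw [← mul_smul, hw, one_smul]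
  let ψ : H → H := fun h => h * (σ h)⁻¹
  have σψ : ∀ h, σ (ψ h) = (ψ h)⁻¹ := fun h => by
    show σ (h * (σ h)⁻¹) = _
    rw [map_mul, map_inv, σσ, mul_inv_rev, inv_inv]
  have hfib : ∀ y : H, Nat.card {h : H // ψ h = y} ≤ Nat.card {h : H // σ h = h} := by
    intro y
    rcases isEmpty_or_nonempty {h : H // ψ h = y} with he | ⟨⟨h0, hh0⟩⟩
    · simp
    refine Nat.card_le_card_of_injective (fun h => ⟨h0⁻¹ * h.1, ?_⟩) fun h k e =>
      Subtype.ext (mul_left_cancel (congrArg Subtype.val e))
    have e : h.1 * (σ h.1)⁻¹ = h0 * (σ h0)⁻¹ := h.2.trans hh0.symm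
    rw [map_mul, map_inv, eq_inv_mul_iff_mul_eq]
    calc h0 * ((σ h0)⁻¹ * σ h.1) = h0 * (σ h0)⁻¹ * σ h.1 := by group
      _ = h.1 := by rw [← e]; group
  -- the two-point stabiliser is commutative, and the structure of the swap on it
  have hmain : (∀ h k : H, h * k = k * h) ∧
      ((∀ h, σ h = h⁻¹) ∨ (p ≠ 2 ∧ ∃ N : Subgroup H, N.index = 2 ∧ (∀ n ∈ N, σ n = n⁻¹))) := by
    rcases eq_or_ne p 2 with rfl | hp2
    · have hev : Even (2 ^ f) := Nat.even_pow.2 ⟨even_two, by omega⟩
      have h1 : Nat.card {h : H // σ h = h} ≤ 1 := by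
        refine le_trans hCfix ?_
        by_contra hgt
        push Not at hgt
        have h2 : (Finset.univ.filter fun x : α => w • x = x).card = 2 := by omega
        rw [h2, hα, show 2 ^ f + 1 - 2 = 2 ^ f - 1 by omega, Nat.even_sub (by omega)] at hpar
        simp [hev] at hpar
      have hinj : Function.Injective ψ := fun h k e => by
        have hle := le_trans (hfib (ψ k)) h1
        have := Finite.card_le_one_iff_subsingleton.1 hle
        exact congrArg Subtype.val (Subsingleton.elim (⟨h, e⟩ : {x : H // ψ x = ψ k}) ⟨k, rfl⟩)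
      have hinv : ∀ h, σ h = h⁻¹ := fun h => by
        obtain ⟨y, rfl⟩ := (Finite.injective_iff_surjective.1 hinj) h
        exact σψ y
      refine ⟨fun h k => inv_injective ?_, Or.inl hinv⟩
      rw [mul_inv_rev k h, ← hinv h, ← hinv k, ← map_mul, hinv]
    · have hn2 : Even (Fintype.card α) := by
        rw [hα]; exact (hp.odd_of_ne_two hp2).pow.add_one
      have h2 : Nat.card {h : H // σ h = h} ≤ 2 := le_trans hCfix hfix2
      obtain ⟨N, hNn, hN2, hNσ⟩ : ∃ N : Subgroup H, N.Normal ∧ N.index = 2 ∧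
          ∀ n ∈ N, σ n ∈ N := by
        by_cases h4 : Nat.card H = 2
        · refine ⟨⊥, inferInstance, by rw [Subgroup.index_bot, h4], fun n hn => ?_⟩
          rw [Subgroup.mem_bot] at hn ⊢
          rw [hn, map_one]
        · obtain ⟨m, hm⟩ := (hp.odd_of_ne_two hp2).pow (n := f)
          obtain ⟨N, hle, hNn, hN2, hNw⟩ := S0729.result (heven := hn2) (h6 := by omega) G h3
            hsharp hab hac hbc w wa wb wc
          refine ⟨N.subgroupOf H, hNn, hN2, fun n hn => ?_⟩
          have := hNw _ hn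
          rwa [inv_eq_of_mul_eq_one_left hw] at this
      have hψN : ∀ h, ψ h ∈ N := fun h => by
        by_cases hh : h ∈ N
        · exact N.mul_mem hh (N.inv_mem (hNσ h hh))
        · refine (Subgroup.mul_mem_iff_of_index_two hN2).2 ⟨fun h' => absurd h' hh, fun h' => ?_⟩
          exact absurd (hNσ _ (N.inv_mem_iff.1 h')) (by rwa [σσ])
      have hNinv : ∀ n ∈ N, σ n = n⁻¹ := by
        let ψ' : H → N := fun h => ⟨ψ h, hψN h⟩
        have hcard : Nat.card N ≤ Nat.card (Set.range ψ') := by
          have e := Nat.card_congr (Equiv.sigmaFiberEquiv (Set.rangeFactorization ψ')).symm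
          rw [Nat.card_sigma] at e
          have hle : ∑ y : Set.range ψ', Nat.card {h : H // Set.rangeFactorization ψ' h = y}
              ≤ ∑ _y : Set.range ψ', 2 := Finset.sum_le_sum fun y _ => by
            refine le_trans ?_ (le_trans (hfib ((y : N) : H)) h2)
            exact Nat.card_le_card_of_injective
              (fun h => ⟨h.1, congrArg (fun u : Set.range ψ' => ((u : N) : H)) h.2⟩)
              fun h k e => Subtype.ext (congrArg Subtype.val e :)
          rw [← e, Finset.sum_const, Finset.card_univ, ← Nat.card_eq_fintype_card, smul_eq_mul,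
            ← N.card_mul_index, hN2] at hle
          omega
        intro n hn
        have hr : (⟨n, hn⟩ : N) ∈ Set.range ψ' := by
          rw [Set.eq_of_subset_of_ncard_le (Set.subset_univ (Set.range ψ'))
            (by rw [Set.ncard_univ]; rwa [Nat.card_coe_set_eq] at hcard)]
          trivial
        obtain ⟨y, hy⟩ := hr
        rw [← show ψ y = n from congrArg Subtype.val hy]
        exact σψ y
      have hNc : ∀ x ∈ N, ∀ y ∈ N, x * y = y * x := fun x hx y hy => inv_injective (by
        rw [mul_inv_rev y x, ← hNinv x hx, ← hNinv y hy, ← map_mul, hNinv _ (N.mul_mem hx hy)])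
      exact ⟨comm_of_index_two ρ hone hreg N hN2.le hNc hp hp2 (hodd hp2) hcardV,
        Or.inr ⟨hp2, N, hN2, hNinv⟩⟩
  obtain ⟨hcomm, hσ⟩ := hmain
  -- the field
  obtain ⟨K, fK, fintK, e, μ, he1, hμ⟩ := exists_field ρ hone hreg hcomm
  have μmul : ∀ h k, μ (h * k) = μ h * μ k := fun h k => by
    have h1 := hμ (h * k) one
    have h2 := hμ h (ρ k one)
    rw [hμ k one, he1, mul_one] at h2
    rw [map_mul, he1, mul_one] at h1
    exact h1.symm.trans h2
  have μsurj : ∀ x : K, x ≠ 0 → ∃ h, μ h = x := fun x hx => by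
    obtain ⟨h, hh, -⟩ := hreg (e.symm x) (fun h => hx (by rw [← e.apply_symm_apply x, h, map_zero]))
    exact ⟨h, by rw [← e.apply_symm_apply x, ← hh, hμ, he1, mul_one]⟩
  have μ0 : ∀ h, μ h ≠ 0 := fun h h0 => rho_ne_zero ρ h hone
    (e.injective (by rw [hμ, h0, zero_mul, map_zero]))
  have μinj : Function.Injective μ := fun h k hhk => rho_inj_one ρ hone hreg
    (e.injective (by rw [hμ, hμ, hhk]))
  have μ1 : μ 1 = 1 := by
    have := hμ 1 one
    rw [map_one, he1, mul_one] at this
    exact this.symm.trans he1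
  have μinv : ∀ h, μ h⁻¹ = (μ h)⁻¹ := fun h =>
    (inv_eq_of_mul_eq_one_right (by rw [← μmul, mul_inv_cancel, μ1])).symm
  let P : K → α := fun x => π (e.symm x)
  have Pinj : Function.Injective P := fun x y h => e.symm.injective (πinj h)
  have Pa : ∀ x, P x ≠ a := fun x => πa _
  have P0 : P 0 = b := by simp only [P, map_zero, π0]
  have P1 : P 1 = c := by simp only [P, ← he1, e.symm_apply_apply, hone1]
  have Psurj : ∀ x, x ≠ a → ∃ y, P y = x := fun x hx =>
    (πsurj x hx).elim fun v hv => ⟨e v, by simp only [P, e.symm_apply_apply, hv]⟩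
  let τ : K → G := fun x => (((Additive.toMul (e.symm x) : ↥N0) : stabilizer G a) : G)
  have τa : ∀ x, τ x • a = a := fun x => ((Additive.toMul (e.symm x) : ↥N0) : stabilizer G a).2
  have τP : ∀ x y, τ x • P y = P (x + y) := fun x y => by
    show _ = π _
    rw [map_add, πadd]
  have Pscale : ∀ (h : H) x, (h : G) • P x = P (μ h * x) := fun h x => by
    show _ • π _ = π _
    rw [← πρ]
    congr 1
    apply e.injective
    rw [hμ, e.apply_symm_apply, e.apply_symm_apply]
  have wP : ∀ h, w • P (μ h) = P (μ (σ h)) := fun h => by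
    rw [← mul_one (μ h), ← Pscale, ← mul_one (μ (σ h)), ← Pscale, P1, σc]
  have hcardK : Fintype.card K = p ^ f := by
    rw [← Nat.card_eq_fintype_card, ← Nat.card_congr e.toEquiv, hcardV]
  -- the swap is inversion on all of the multiplicative group
  have hσinv : ∀ h, σ h = h⁻¹ := by
    rcases hσ with hσ | ⟨hp2, N, hN2, hNinv⟩
    · exact hσ
    by_contra hne
    push Not at hne
    obtain ⟨h0, hh0⟩ := hne
    have hh0N : h0 ∉ N := fun h => hh0 (hNinv h0 h)
    set z := σ h0 * h0 with hzdef
    have hz1 : z ≠ 1 := fun h => hh0 (eq_inv_of_mul_eq_one_left h)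
    have hσz : σ z = z := by rw [hzdef, map_mul, σσ, hcomm]
    have hout : ∀ h ∉ N, σ h = z * h⁻¹ := fun h hh => by
      have hn : h0⁻¹ * h ∈ N := (Subgroup.mul_mem_iff_of_index_two hN2).2
        ⟨fun h' => absurd (N.inv_mem_iff.1 h') hh0N, fun h' => absurd h' hh⟩
      have := hNinv _ hn
      rw [map_mul, map_inv, inv_mul_eq_iff_eq_mul, mul_inv_rev, inv_inv, hcomm _ h0] at this
      rw [this, hzdef, ← mul_assoc]
    have hzN : z ∈ N := by
      by_contra hzN
      apply hz1
      have h1 := hout z hzN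
      rw [hσz, mul_inv_cancel] at h1
      exact h1
    have hzz : z * z = 1 := by
      have h1 := hNinv z hzN
      rw [hσz] at h1
      exact mul_eq_one_iff_eq_inv.2 h1
    have hz : μ z = -1 := by
      have h1 : μ z * μ z = 1 := by rw [← μmul, hzz, μ1]
      rcases mul_self_eq_one_iff.1 h1 with h | h
      · exact absurd (μinj (h.trans μ1.symm)) hz1
      · exact h
    have h20 : (2 : K) ≠ 0 := by
      intro h
      have h1 : addOrderOf (1 : K) ∣ 2 := addOrderOf_dvd_of_nsmul_eq_zero (by simpa using h)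
      have h2 : addOrderOf (1 : K) ∣ p ^ f := hcardK ▸ addOrderOf_dvd_card
      have h3 : addOrderOf (1 : K) ≠ 1 := fun h => one_ne_zero (AddMonoid.addOrderOf_eq_one_iff.1 h)
      rw [(Nat.dvd_prime Nat.prime_two).1 h1 |>.resolve_left h3] at h2
      exact hp2 ((Nat.prime_dvd_prime_iff_eq Nat.prime_two hp).1
        (Nat.prime_two.dvd_of_dvd_pow h2)).symm
    let S : Set K := {x | ∃ h ∉ N, μ h = x}
    have hQ : ∀ x : K, x ≠ 0 → x ∉ S → w • P x = P x⁻¹ := by
      intro x hx hxS
      obtain ⟨h, rfl⟩ := μsurj x hx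
      rw [wP, hNinv h (by by_contra hh; exact hxS ⟨h, hh, rfl⟩), μinv]
    have hS : ∀ x ∈ S, x ≠ 0 ∧ w • P x = P (-x⁻¹) := by
      rintro _ ⟨h, hh, rfl⟩
      exact ⟨μ0 h, by rw [wP, hout h hh, μmul, μinv, hz, neg_one_mul]⟩
    have hSN : ∀ n ∈ N, ∀ x ∈ S, μ n * x ∈ S := by
      rintro n hn _ ⟨h, hh, rfl⟩
      exact ⟨n * h, fun h' => hh ((Subgroup.mul_mem_cancel_left N hn).1 h'), μmul n h⟩
    have h1S : (1 : K) ∉ S := fun ⟨h, hh, hh1⟩ => hh (μinj (hh1.trans μ1.symm) ▸ N.one_mem)
    let γ : G := τ 1 * z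
    have γP : ∀ x, γ • P x = P (1 - x) := fun x => by
      rw [mul_smul, Pscale, τP, hz, neg_one_mul, sub_eq_add_neg]
    have γa : γ • a = a := by rw [mul_smul, show (z : G) • a = a from z.2.1, τa]
    have γb : γ • b = c := by rw [← P0, γP, sub_zero, P1]
    have γc : γ • c = b := by rw [← P1, γP, sub_self, P0]
    have g3 : w * γ * (w * γ) * (w * γ) = 1 := three hsharp _ hab hac hbc
      (by simp only [mul_smul, γa, wa, γb, wc, γc, wb])
      (by simp only [mul_smul, γa, wa, γb, wc, γc, wb])
      (by simp only [mul_smul, γa, wa, γb, wc, γc, wb])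
    have hclosed : ∀ x ∈ S, 1 - x ∈ S := by
      intro x hx
      by_contra hx1
      have hx0 := (hS x hx).1
      have h1x : 1 - x ≠ 0 := sub_ne_zero.2 fun h => h1S (h ▸ hx)
      have step : ∀ y, γ • P y = P (1 - y) := γP
      have e1 : (w * γ) • P x = P (1 - x)⁻¹ := by rw [mul_smul, γP, hQ _ h1x hx1]
      have e2 : (w * γ) • (w * γ) • P x = γ⁻¹ • w⁻¹ • P x := by
        rw [← mul_smul (w * γ), ← mul_smul γ⁻¹, ← mul_inv_rev]
        exact congrArg (· • P x) (eq_inv_of_mul_eq_one_left g3)
      have ew : w⁻¹ = w := inv_eq_of_mul_eq_one_left hw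
      have e3 : γ⁻¹ • P (-x⁻¹) = P (1 + x⁻¹) := by
        rw [inv_smul_eq_iff, γP]; ring_nf
      rw [e1, ew, (hS x hx).2, e3, mul_smul, γP] at e2
      have h0' : 1 - (1 - x)⁻¹ ≠ 0 := one_sub_inv_ne_zero hx0
      by_cases hy : 1 - (1 - x)⁻¹ ∈ S
      · rw [(hS _ hy).2] at e2
        exact false_of_neg h20 hx0 h1x (Pinj e2)
      · rw [hQ _ h0' hy] at e2
        exact false_of_pos h20 hx0 h1x (Pinj e2)
    have hSneg : ∀ x ∈ S, -x ∈ S := fun x hx => by
      simpa [hz] using hSN z hzN x hx
    have hsub : ∀ x ∈ S, x + 1 ∈ S := fun x hx => by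
      simpa [sub_neg_eq_add, add_comm] using hclosed (-x) (hSneg x hx)
    let W : AddSubgroup K :=
      { carrier := {v | ∀ x ∈ S, x + v ∈ S}
        zero_mem' := fun x hx => by rwa [add_zero]
        add_mem' := fun {u v} hu hv x hx => by rw [← add_assoc]; exact hv _ (hu x hx)
        neg_mem' := fun {v} hv x hx => by
          have : Finite S := inferInstance
          let fS : S → S := fun s => ⟨s + v, hv s s.2⟩
          have hfS : Function.Injective fS := fun s t h =>
            Subtype.ext (add_right_cancel (congrArg Subtype.val h :))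
          obtain ⟨⟨y, hy⟩, hyx⟩ := Finite.injective_iff_surjective.1 hfS ⟨x, hx⟩
          rw [← show y + v = x from congrArg Subtype.val hyx]
          simpa using hy }
    have hW : W.comap e.toAddMonoidHom = ⊤ := by
      refine addSubgroup_invariant ρ hone hreg N hN2.le _ (w := one) ?_ hone fun n hn v hv => ?_
      · intro x hx
        show x + e one ∈ S
        rw [he1]
        exact hsub x hx
      · intro x hx
        show x + e (ρ n v) ∈ S
        rw [hμ, show x + μ n * e v = μ n * ((μ n)⁻¹ * x + e v) by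
          rw [mul_add, ← mul_assoc, mul_inv_cancel₀ (μ0 n), one_mul]]
        refine hSN n hn _ (hv _ ?_)
        rw [← μinv]
        exact hSN _ (N.inv_mem hn) x hx
    have hxS : μ h0 ∈ S := ⟨h0, hh0N, rfl⟩
    have : e.symm (-μ h0) ∈ W.comap e.toAddMonoidHom := hW ▸ AddSubgroup.mem_top _
    have h0S : μ h0 + e (e.symm (-μ h0)) ∈ S := this _ hxS
    rw [e.apply_symm_apply, add_neg_cancel] at h0S
    exact (hS 0 h0S).1 rfl
  -- coordinates
  let F' : OnePoint K → α := fun o => o.elim a P
  have hF' : Function.Bijective F' := by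
    refine ⟨fun o o' h => ?_, fun x => ?_⟩
    · cases o with
      | infty => cases o' with
        | infty => rfl
        | coe y => exact absurd h.symm (Pa y)
      | coe x => cases o' with
        | infty => exact absurd h (Pa x)
        | coe y => exact congrArg _ (Pinj h)
    · by_cases hx : x = a
      · exact ⟨OnePoint.infty, hx.symm⟩
      · exact (Psurj x hx).elim fun y hy => ⟨(y : OnePoint K), hy⟩
  let E := (Equiv.ofBijective F' hF').symm
  have : DecidableEq K := Classical.decEq K
  have hmem : ∀ g : G, (∃ M : GL (Fin 2) K, ∀ o, g • F' o = F' (M • o)) →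
      (g : Equiv.Perm α) ∈ moebiusPerms E := by
    rintro g ⟨M, hM⟩
    refine ⟨M, fun x => ?_⟩
    obtain ⟨o, rfl⟩ := hF'.2 x
    have : E (F' o) = o := (Equiv.ofBijective F' hF').symm_apply_apply o
    rw [this]
    exact ((Equiv.ofBijective F' hF').symm_apply_eq).2 (hM o)
  let G' : Subgroup G := (moebiusPerms E).subgroupOf G
  have hτG : ∀ y, τ y ∈ G' := fun y => hmem (τ y)
    ⟨Matrix.GeneralLinearGroup.mkOfDetNeZero !![1, y; 0, 1] (by simp [Matrix.det_fin_two]),
      fun o => by
        cases o with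
        | infty => rw [OnePoint.smul_infty_eq_ite]
                   simp [F', τa, Matrix.GeneralLinearGroup.mkOfDetNeZero]
        | coe x => rw [OnePoint.smul_some_eq_ite]
                   simp [F', τP, Matrix.GeneralLinearGroup.mkOfDetNeZero, add_comm y x]⟩
  have hHG : ∀ h : H, (h : G) ∈ G' := fun h => hmem h
    ⟨Matrix.GeneralLinearGroup.mkOfDetNeZero !![μ h, 0; 0, 1] (by simp [Matrix.det_fin_two, μ0 h]),
      fun o => by
        cases o with
        | infty => rw [OnePoint.smul_infty_eq_ite]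
                   simp [F', show (h : G) • a = a from h.2.1,
                     Matrix.GeneralLinearGroup.mkOfDetNeZero]
        | coe x => rw [OnePoint.smul_some_eq_ite]
                   simp [F', Pscale, Matrix.GeneralLinearGroup.mkOfDetNeZero]⟩
  have hwG : w ∈ G' := hmem w
    ⟨Matrix.GeneralLinearGroup.mkOfDetNeZero !![0, 1; 1, 0] (by simp [Matrix.det_fin_two]),
      fun o => by
        cases o with
        | infty => rw [OnePoint.smul_infty_eq_ite]
                   simp [F', wa, P0, Matrix.GeneralLinearGroup.mkOfDetNeZero]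
        | coe x =>
          rw [OnePoint.smul_some_eq_ite]
          by_cases hx : x = 0
          · simp [F', hx, wb, P0, Matrix.GeneralLinearGroup.mkOfDetNeZero]
          · obtain ⟨h, rfl⟩ := μsurj x hx
            simp [F', μ0 h, wP, hσinv, μinv, Matrix.GeneralLinearGroup.mkOfDetNeZero]⟩
  have hstab : ∀ g : G, g • a = a → g ∈ G' := fun g ga => by
    obtain ⟨y, hy⟩ := Psurj (g • b) (fun h => hab (MulAction.injective g (ga.trans h.symm)))
    have hm : (τ y)⁻¹ * g ∈ H := ⟨show ((τ y)⁻¹ * g) • a = a by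
        rw [mul_smul, ga, inv_smul_eq_iff, τa],
      show ((τ y)⁻¹ * g) • b = b by rw [mul_smul, ← hy, inv_smul_eq_iff, ← P0, τP, add_zero]⟩
    have := G'.mul_mem (hτG y) (hHG ⟨_, hm⟩)
    simpa using this
  have hall : ∀ g : G, g ∈ G' := fun g => by
    by_cases ga : g • a = a
    · exact hstab g ga
    obtain ⟨y, hy⟩ := Psurj (g • a) ga
    have hm : w * ((τ y)⁻¹ * g) ∈ G' := hstab _ (by
      rw [mul_smul, mul_smul, ← hy, show (τ y)⁻¹ • P y = b by
        rw [inv_smul_eq_iff, ← P0, τP, add_zero], wb])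
    have h1 := G'.mul_mem (G'.inv_mem hwG) hm
    rw [inv_mul_cancel_left] at h1
    have := G'.mul_mem (hτG y) h1
    simpa using this
  refine ⟨K, fK, fintK, hcardK, ?_⟩
  refine nonempty_mulEquiv_pgl2 G E (fun g hg => hall ⟨g, hg⟩) fun x y u x' y' u' h1 h2 h4 h1' h2' h4' => ?_
  obtain ⟨g, g1, g2, g4⟩ := move h3 h1 h2 h4 h1' h2' h4'
  exact ⟨g, g.2, g1, g2, g4⟩

end Cfsg.Agent.PermB.SharpThreeField
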