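import Cfsg.Prelude.Def_Perm
import Cfsg.Agent.PermB.AbMain
import Cfsg.Agent.PermB.SharpThreeField
import Cfsg.Agent.Lib.Perm.RegularNormal
import Cfsg.Agent.Lib.LinearGroup.SmallPSL
import Cfsg.Agent.Lib.Dickson.Transfer

/-!
Transitive groups of degree `p + 1` and order `(p + 1) p d` with `p` prime and `d < p`.
-/

set_option autoImplicit false
set_option linter.unusedSectionVars false
set_option maxHeartbeats 1600000

namespace Cfsg.Agent.PermB.DegreePrimeSucc

open MulAction
open Cfsg.Agent.CharDeep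

variable {α : Type*} [Fintype α] [DecidableEq α] {G : Subgroup (Equiv.Perm α)}

/-- Semiaffine coordinates from a regular elementary abelian normal subgroup. -/
theorem semiaffine_case [IsPretransitive G α] {p d : ℕ} (hp : p.Prime) (hp2 : p ≠ 2)
    (hα : Fintype.card α = p + 1) (hd0 : d < p) {a : α} (U : Subgroup G)
    (hUcard : Nat.card U = p) (hUa : U ≤ stabilizer G a)
    (hUn : ∀ g ∈ stabilizer G a, ∀ u ∈ U, g * u * g⁻¹ ∈ U)
    (hUr : ∀ y z : α, y ≠ a → z ≠ a → ∃! u : U, (u : G) • y = z)
    (hsc : Nat.card (stabilizer G a) = p * d)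
    (N : Subgroup G) [hNn : N.Normal] (hNt : IsPretransitive N α)
    (hNr : ∀ x : α, stabilizer N x = ⊥) :
    ∃ q : ℕ, q.Prime ∧ p + 1 = 2 ^ q ∧ (d = 1 ∨ d = q) ∧
      ∃ e : α ≃ GaloisField 2 q, ∀ g : G,
        (e.symm.trans (((g : Equiv.Perm α)).trans e)) ∈ Cfsg.semiaffineGroup (GaloisField 2 q) := by
  classical
  have hNfix : ∀ n ∈ N, ∀ x : α, n • x = x → n = 1 := fun n hn x h =>
    Perm.stabilizer_subgroup_eq_bot_iff.1 (hNr x) n hn h
  have hNcard : Nat.card N = p + 1 := by
    rw [Perm.card_eq_of_regular (hNr a), Nat.card_eq_fintype_card, hα]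
  obtain ⟨z, hz⟩ := exists_prime_orderOf_dvd_card' (G := N) 2 (by
    rw [hNcard]
    exact even_iff_two_dvd.1 (hp.odd_of_ne_two hp2).add_one)
  have hz1 : (z : G) ≠ 1 := fun h => by
    rw [← Subgroup.orderOf_coe, h, orderOf_one] at hz; omega
  have hzz : (z : G) * z = 1 := by
    rw [← pow_two, ← hz, ← Subgroup.orderOf_coe, pow_orderOf_eq_one]
  have hmove : ∀ n ∈ N, n ≠ 1 → n • a ≠ a := fun n hn h1 h => h1 (hNfix n hn a h)
  have hsq : ∀ n ∈ N, n ^ 2 = 1 := by
    intro n hn
    by_cases h1 : n = 1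
    · rw [h1, one_pow]
    obtain ⟨u, hu, -⟩ := hUr ((z : G) • a) (n • a) (hmove z z.2 hz1) (hmove n hn h1)
    have hua : (u : G)⁻¹ • a = a := inv_smul_eq_iff.2 (hUa u.2).symm
    have he : (u : G) * z * (u : G)⁻¹ = n := Perm.regular_unique (hNr a) (hNn.conj_mem _ z.2 _) hn
      (by rw [mul_smul, mul_smul, hua, hu])
    rw [← he, conj_pow, pow_two (z : G), hzz, mul_one, mul_inv_cancel]
  have hNc := Perm.isMulCommutative_of_sq_eq_one hsq
  letI : CommGroup N :=
    { (inferInstance : Group N) with mul_comm := fun x y => hNc.is_comm.comm x y }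
  let V := Additive N
  have : Finite V := Finite.of_equiv N Additive.ofMul
  let conj : G →* AddMonoid.End V :=
    { toFun := fun g => (MonoidHom.toAdditive (MulAut.conjNormal g : MulAut N).toMonoidHom :
        AddMonoid.End V)
      map_one' := AddMonoidHom.ext fun v => by
        show Additive.ofMul ((MulAut.conjNormal (1 : G) : MulAut N) (Additive.toMul v)) = v
        rw [map_one]
        rfl
      map_mul' := fun g k => AddMonoidHom.ext fun v => by
        show Additive.ofMul ((MulAut.conjNormal (g * k) : MulAut N) (Additive.toMul v)) = _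
        rw [map_mul]
        rfl }
  let pt : V → α := fun v => ((Additive.toMul v : N) : G) • a
  have ptinj : Function.Injective pt := fun v w h =>
    Additive.toMul.injective (Subtype.ext (Perm.regular_unique (hNr a) v.toMul.2 w.toMul.2 h))
  have ptsurj : Function.Surjective pt := fun x => by
    obtain ⟨n, hn⟩ := MulAction.exists_smul_eq N a x
    exact ⟨Additive.ofMul n, hn⟩
  have ptconj : ∀ (g : G), g • a = a → ∀ v, pt (conj g v) = g • pt v := fun g hg v => by
    show (g * ((Additive.toMul v : N) : G) * g⁻¹) • a = _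
    rw [mul_smul, mul_smul, inv_smul_eq_iff.2 hg.symm]
  let ρ : U →* AddMonoid.End V := conj.comp U.subtype
  let one : V := Additive.ofMul z
  have hone : one ≠ 0 := fun h => hz1 (congrArg (fun v : V => ((Additive.toMul v : N) : G)) h)
  have pt0 : pt 0 = a := one_smul G a
  have hreg : ∀ v : V, v ≠ 0 → ∃! u : U, ρ u one = v := by
    intro v hv
    have hya : pt one ≠ a := fun h => hone (ptinj (h.trans pt0.symm))
    have hva : pt v ≠ a := fun h => hv (ptinj (h.trans pt0.symm))
    obtain ⟨u, hu, huu⟩ := hUr (pt one) (pt v) hya hva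
    refine ⟨u, ptinj ((ptconj u (hUa u.2) one).trans hu), fun w hw => huu w ?_⟩
    show (w : G) • pt one = pt v
    rw [← ptconj w (hUa w.2) one]
    exact congrArg pt hw
  have hUc : ∀ u w : U, u * w = w * u := by
    have := Fact.mk hp
    have := isCyclic_of_prime_card hUcard
    intro u w
    obtain ⟨x, hx⟩ := IsCyclic.exists_generator (α := U)
    obtain ⟨i, rfl⟩ := Subgroup.mem_zpowers_iff.1 (hx u)
    obtain ⟨j, rfl⟩ := Subgroup.mem_zpowers_iff.1 (hx w)
    exact (Commute.zpow_zpow_self x i j).eq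
  obtain ⟨K, fK, fintK, e, μ, he1, hμ⟩ := exists_field ρ hone hreg hUc
  have hcardK : Fintype.card K = p + 1 := by
    rw [← Nat.card_eq_fintype_card, ← Nat.card_congr e.toEquiv, ← hNcard]
    exact Nat.card_congr Additive.toMul
  have : CharP K 2 := by
    refine CharTwo.of_one_ne_zero_of_two_eq_zero one_ne_zero ?_
    have h2 : (2 : ℕ) • one = 0 := by
      show Additive.ofMul (z ^ 2) = 0
      rw [show z ^ 2 = 1 from Subtype.ext (hsq z z.2)]
      rfl
    have h := congrArg e h2
    rw [map_nsmul, map_zero, he1, nsmul_one] at h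
    exact_mod_cast h
  obtain ⟨q, -, hq⟩ := FiniteField.card K 2
  rw [hcardK] at hq
  have hq2 : 1 < (q : ℕ) := by
    by_contra hle
    have h1 : (q : ℕ) = 1 := by have := q.pos; omega
    rw [h1, pow_one] at hq
    have := hp.two_le
    omega
  have hqp : (q : ℕ).Prime := (Nat.prime_of_pow_sub_one_prime (by omega)
    (show (2 ^ (q : ℕ) - 1).Prime by rw [← hq, Nat.add_sub_cancel]; exact hp)).2
  have := Fact.mk (Nat.prime_two)
  have := Fintype.ofFinite (GaloisField 2 q)
  have hGF : Fintype.card K = Fintype.card (GaloisField 2 q) := by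
    rw [hcardK, hq, ← Nat.card_eq_fintype_card, GaloisField.card 2 q (by omega)]
  let R : K ≃+* GaloisField 2 q := FiniteField.ringEquivOfCardEq hGF
  -- the semilinear map attached to an element of the stabiliser
  have μsurj : ∀ x : K, x ≠ 0 → ∃ u, μ u = x := fun x hx => by
    obtain ⟨h, hh, -⟩ := hreg (e.symm x) (fun h => hx (by rw [← e.apply_symm_apply x, h, map_zero]))
    exact ⟨h, by rw [← e.apply_symm_apply x, ← hh, hμ, he1, mul_one]⟩
  have semi : ∀ g : stabilizer G a, ∃ (c : Kˣ) (φ : K ≃+* K),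
      ∀ v, e (conj (g : G) v) = c * φ (e v) := by
    intro g
    let L : K ≃+ K := e.symm.trans ((MulEquiv.toAdditive (MulAut.conjNormal (g : G))).trans e)
    have hL : ∀ v, e (conj (g : G) v) = L (e v) := fun v => by
      show _ = e (MulEquiv.toAdditive (MulAut.conjNormal (g : G)) (e.symm (e v)))
      rw [e.symm_apply_apply]
      rfl
    have hL1 : L 1 ≠ 0 := fun h => one_ne_zero (L.injective (h.trans L.map_zero.symm))
    have hLmul : ∀ x y, L (x * y) * L 1 = L x * L y := by
      intro x y
      by_cases hx : x = 0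
      · simp [hx]
      obtain ⟨u, rfl⟩ := μsurj x hx
      let u' : U := ⟨(g : G) * u * (g : G)⁻¹, hUn _ g.2 _ u.2⟩
      have key : ∀ w : K, L (μ u * w) = μ u' * L w := by
        intro w
        obtain ⟨v, rfl⟩ := e.surjective w
        rw [← hμ, ← hL, ← hL, ← hμ]
        congr 1
        show (conj (g : G) * conj (u : G)) v = (conj ((g : G) * u * (g : G)⁻¹) * conj (g : G)) v
        rw [← map_mul, ← map_mul, inv_mul_cancel_right]
      rw [key y]
      have h1 := key 1
      rw [mul_one] at h1
      rw [h1]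
      ring
    let φ : K ≃+* K :=
      { toFun := fun x => L x / L 1
        invFun := fun x => L.symm (x * L 1)
        left_inv := fun x => by simp [div_mul_cancel₀ _ hL1]
        right_inv := fun x => by simp [hL1]
        map_mul' := fun x y => by
          rw [div_mul_div_comm, ← hLmul, mul_div_mul_right _ _ hL1]
        map_add' := fun x y => by rw [map_add, add_div] }
    exact ⟨Units.mk0 _ hL1, φ, fun v => by
      rw [hL]; show _ = L 1 * (L (e v) / L 1); rw [mul_div_cancel₀ _ hL1]⟩
  choose cc φ hsemi using semi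
  refine ⟨q, hqp, hq, ?_, ?_⟩
  · -- `d` divides `q`
    have key : ∀ g : stabilizer G a, ∀ v, g.1 • pt v = pt (e.symm ((cc g : K) * φ g (e v))) :=
      fun g v => by rw [← hsemi, e.symm_apply_apply, ptconj _ g.2]
    letI : Algebra (ZMod 2) K := ZMod.algebra K 2
    let ψ : stabilizer G a → (K ≃ₐ[ZMod 2] K) := fun g =>
      AlgEquiv.ofRingEquiv (f := φ g) fun x =>
        RingHom.congr_fun (Subsingleton.elim ((φ g : K →+* K).comp (algebraMap (ZMod 2) K))
          (algebraMap (ZMod 2) K)) x
    have hφone : ∀ g : stabilizer G a, e (conj (g : G) one) = cc g := fun g => by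
      rw [hsemi, he1, map_one, mul_one]
    have hψmul : ∀ g k : stabilizer G a, ψ (g * k) = ψ g * ψ k := by
      intro g k
      refine AlgEquiv.ext fun x => ?_
      show φ (g * k) x = φ g (φ k x)
      have h : ∀ y, (cc (g * k) : K) * φ (g * k) y = cc g * φ g (cc k * φ k y) := by
        intro y
        obtain ⟨v, rfl⟩ := e.surjective y
        rw [← hsemi, ← hsemi, ← hsemi, Subgroup.coe_mul, map_mul]
        rfl
      have h1 := h 1
      rw [map_one, map_one, mul_one, mul_one] at h1
      have h2 := h x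
      rw [h1, map_mul, ← mul_assoc] at h2
      exact mul_left_cancel₀ (mul_ne_zero (cc g).ne_zero
        (fun e' => (cc k).ne_zero ((map_eq_zero (φ g)).1 e'))) h2
    let Ψ : stabilizer G a →* (K ≃ₐ[ZMod 2] K) := MonoidHom.mk' ψ hψmul
    have hker : Ψ.ker = U.subgroupOf (stabilizer G a) := by
      ext g
      rw [MonoidHom.mem_ker, Subgroup.mem_subgroupOf]
      constructor
      · intro hg
        have hid : ∀ x, φ g x = x := fun x => DFunLike.congr_fun hg x
        obtain ⟨u, hu⟩ := μsurj _ (cc g).ne_zero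
        have heq : (g : G) = u := by
          refine Subtype.ext (Equiv.ext fun x => ?_)
          obtain ⟨v, rfl⟩ := ptsurj x
          show (g : G) • pt v = (u : G) • pt v
          rw [key, hid, ← hu, ← hμ, e.symm_apply_apply, ← ptconj _ (hUa u.2)]
          rfl
        rw [heq]
        exact u.2
      · intro hg
        refine AlgEquiv.ext fun x => ?_
        show φ g x = x
        obtain ⟨v, rfl⟩ := e.surjective x
        have h1 : (cc g : K) = μ ⟨g, hg⟩ := by
          rw [← hφone, show conj (g : G) = ρ ⟨g, hg⟩ from rfl, hμ, he1, mul_one]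
        refine mul_left_cancel₀ (cc g).ne_zero ?_
        rw [← hsemi]
        conv_rhs => rw [h1, ← hμ]
        rfl
    have hrange : Nat.card Ψ.range = d := by
      have h1 := Ψ.ker.card_mul_index
      rw [Subgroup.index_ker, hker, Nat.card_congr (Subgroup.subgroupOfEquivOfLe hUa).toEquiv,
        hUcard, hsc] at h1
      exact Nat.eq_of_mul_eq_mul_left hp.pos h1
    have hgal : Nat.card (K ≃ₐ[ZMod 2] K) = q := by
      rw [IsGalois.card_aut_eq_finrank]
      have h1 := Module.card_eq_pow_finrank (K := ZMod 2) (V := K)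
      rw [hcardK, ZMod.card, hq] at h1
      exact (Nat.pow_right_injective le_rfl h1).symm
    have hdvd : d ∣ q := by
      rw [← hrange, ← hgal]
      exact Subgroup.card_subgroup_dvd_card _
    exact (Nat.dvd_prime hqp).1 hdvd
  · let P : V ≃ α := Equiv.ofBijective pt ⟨ptinj, ptsurj⟩
    refine ⟨P.symm.trans (e.toEquiv.trans R.toEquiv), fun g => ?_⟩
    obtain ⟨n, hn⟩ := MulAction.exists_smul_eq N a (g • a)
    have hg0 : ((n : G)⁻¹ * g) • a = a := by
      rw [mul_smul, inv_smul_eq_iff]; exact hn.symm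
    set g₀ : stabilizer G a := ⟨(n : G)⁻¹ * g, hg0⟩
    refine ⟨Units.map (R : K →* GaloisField 2 q) (cc g₀), R (e (Additive.ofMul n)),
      (R.symm.trans (φ g₀)).trans R, fun y => ?_⟩
    obtain ⟨v, rfl⟩ : ∃ v, R (e v) = y := ⟨e.symm (R.symm y), by simp⟩
    have hx : g • pt v = pt (Additive.ofMul n + conj (g₀ : G) v) := by
      have h1 : pt (Additive.ofMul n + conj (g₀ : G) v) = (n : G) • pt (conj (g₀ : G) v) :=
        mul_smul _ _ a
      rw [h1, ptconj _ hg0, ← mul_smul (n : G) (g₀ : G),
        show (n : G) * (g₀ : G) = g from mul_inv_cancel_left _ _]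
    have hP : ∀ v, P.symm (pt v) = v := fun v => P.symm_apply_apply v
    have hs : (P.symm.trans (e.toEquiv.trans R.toEquiv)).symm (R (e v)) = pt v := by
      rw [Equiv.symm_apply_eq]
      simp [hP]
    show (P.symm.trans (e.toEquiv.trans R.toEquiv)) ((g : Equiv.Perm α)
      ((P.symm.trans (e.toEquiv.trans R.toEquiv)).symm (R (e v)))) = _
    rw [hs, show (g : Equiv.Perm α) (pt v) = pt (Additive.ofMul n + conj (g₀ : G) v) from hx]
    simp [hP, hsemi, add_comm]

/-- The classification. -/
theorem classify {p d : ℕ} (hp : p.Prime) (hα : Fintype.card α = p + 1) [IsPretransitive G α]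
    (hG : Nat.card G = (p + 1) * p * d) (hd : d < p) :
    (d = p - 1 ∧ Nonempty (G ≃* Matrix.ProjGenLinGroup (Fin 2) (ZMod p))) ∨
      (2 * d = p - 1 ∧ Nonempty (G ≃* Matrix.ProjectiveSpecialLinearGroup (Fin 2) (ZMod p))) ∨
      ∃ q : ℕ, q.Prime ∧ p + 1 = 2 ^ q ∧ (d = 1 ∨ d = q) ∧
        ∃ e : α ≃ GaloisField 2 q, ∀ g : G,
          (e.symm.trans (((g : Equiv.Perm α)).trans e)) ∈
            Cfsg.semiaffineGroup (GaloisField 2 q) := by
  classical
  have := Fact.mk hp
  have hd1 : 1 ≤ d := by
    rcases Nat.eq_zero_or_pos d with h | h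
    · subst h
      rw [mul_zero] at hG
      exact absurd hG Nat.card_pos.ne'
    · exact h
  have pgl : ∀ {F : Type} [Field F] [Fintype F], Fintype.card F = p →
      Nonempty (G ≃* Matrix.ProjGenLinGroup (Fin 2) F) →
      Nonempty (G ≃* Matrix.ProjGenLinGroup (Fin 2) (ZMod p)) := fun hF ⟨i⟩ =>
    ⟨i.trans (Dickson.pglCongr (FiniteField.ringEquivOfCardEq (hF.trans (ZMod.card p).symm)))⟩
  rcases eq_or_ne p 2 with rfl | hp2
  · -- the symmetric group of degree three
    obtain rfl : d = 1 := by omega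
    have htop : ∀ g : Equiv.Perm α, g ∈ G := by
      have : G = ⊤ := by
        refine Subgroup.eq_top_of_card_eq G ?_
        rw [hG, Nat.card_eq_fintype_card, Fintype.card_perm, hα]
        rfl
      intro g; rw [this]; exact Subgroup.mem_top g
    have hsurj : ∀ x : Fin 3 ↪ α, Function.Bijective x := fun x =>
      (Fintype.bijective_iff_injective_and_card x).2 ⟨x.injective, by simp [hα]⟩
    have h3 : IsMultiplyPretransitive G α 3 := ⟨fun x y => ⟨⟨(Equiv.ofBijective x (hsurj x)).symm.trans
        (Equiv.ofBijective y (hsurj y)), htop _⟩, Function.Embedding.ext fun i => by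
          show ((Equiv.ofBijective x (hsurj x)).symm.trans (Equiv.ofBijective y (hsurj y))) (x i) = y i
          simp [Equiv.ofBijective_symm_apply_apply]⟩⟩
    have hsharp : ∀ x : Fin 3 ↪ α, stabilizer G x = ⊥ := fun x => by
      rw [Subgroup.eq_bot_iff_forall]
      intro g hg
      refine Subtype.ext (Equiv.ext fun z => ?_)
      obtain ⟨i, rfl⟩ := (hsurj x).2 z
      exact congrArg (fun u : Fin 3 ↪ α => u i) hg
    obtain ⟨F, i1, i2, hF, hiso⟩ := SharpThreeField.exists_pgl2 Nat.prime_two (le_refl 1)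
      (fun h => absurd rfl h) (by rw [hα, pow_one]) h3 hsharp
    exact Or.inl ⟨rfl, pgl (by rw [hF, pow_one]) hiso⟩
  obtain ⟨a⟩ : Nonempty α := Fintype.card_pos_iff.1 (by omega)
  -- the stabiliser and its Sylow subgroup
  have hsc : Nat.card (stabilizer G a) = p * d := by
    have h := (stabilizer G a).index_mul_card
    rw [MulAction.index_stabilizer_of_transitive, hG, Nat.card_eq_fintype_card (α := α), hα,
      mul_assoc] at h
    exact Nat.eq_of_mul_eq_mul_left (by omega) h
  obtain ⟨π, hπ⟩ := exists_prime_orderOf_dvd_card' (G := stabilizer G a) p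
    (by rw [hsc]; exact dvd_mul_right p d)
  set U : Subgroup G := Subgroup.zpowers (π : G)
  have hUcard : Nat.card U = p := by rw [Nat.card_zpowers, Subgroup.orderOf_coe, hπ]
  have hUa : U ≤ stabilizer G a := by rw [Subgroup.zpowers_le]; exact π.2
  have hUn : ∀ g ∈ stabilizer G a, ∀ u ∈ U, g * u * g⁻¹ ∈ U := by
    intro g hg
    by_contra hcon
    push Not at hcon
    obtain ⟨u, hu, hgu⟩ := hcon
    set W : Subgroup G := U.map (MulAut.conj g).toMonoidHom
    have hWcard : Nat.card W = p :=
      (Nat.card_congr (U.equivMapOfInjective _ (MulAut.conj g).injective).toEquiv).symm.trans hUcard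
    have hWU : U ⊓ W = ⊥ := by
      have hdvd : Nat.card ↥(U ⊓ W) ∣ p := hUcard ▸ Subgroup.card_dvd_of_le inf_le_left
      rcases (Nat.dvd_prime hp).1 hdvd with h | h
      · exact Subgroup.card_eq_one.1 h
      · exfalso
        have h1 : U ⊓ W = U := Subgroup.eq_of_le_of_card_ge inf_le_left (by rw [h, hUcard])
        have h2 : U = W := Subgroup.eq_of_le_of_card_ge (h1 ▸ inf_le_right) (by rw [hWcard, hUcard])
        exact hgu (h2 ▸ ⟨u, hu, rfl⟩)
    have hWa : W ≤ stabilizer G a := by
      rintro _ ⟨w, hw, rfl⟩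
      exact (stabilizer G a).mul_mem ((stabilizer G a).mul_mem hg (hUa hw))
        ((stabilizer G a).inv_mem hg)
    let f : U × W → stabilizer G a := fun x =>
      ⟨(x.1 : G) * x.2, mul_mem (hUa x.1.2) (hWa x.2.2)⟩
    have hf : Function.Injective f := fun x y h => by
      have h' : (x.1 : G) * x.2 = y.1 * y.2 := congrArg Subtype.val h
      have hm : (y.1 : G)⁻¹ * x.1 = y.2 * (x.2 : G)⁻¹ := by
        rw [inv_mul_eq_iff_eq_mul, ← mul_assoc, ← h', mul_inv_cancel_right]
      have h0 : (y.1 : G)⁻¹ * x.1 ∈ U ⊓ W :=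
        ⟨U.mul_mem (U.inv_mem y.1.2) x.1.2, hm ▸ W.mul_mem y.2.2 (W.inv_mem x.2.2)⟩
      rw [hWU, Subgroup.mem_bot] at h0
      have e1 : (x.1 : G) = y.1 := (inv_mul_eq_one.1 h0).symm
      refine Prod.ext (Subtype.ext e1) (Subtype.ext ?_)
      rw [e1] at h'
      exact mul_left_cancel h'
    have hle := Nat.card_le_card_of_injective f hf
    rw [Nat.card_prod, hUcard, hWcard, hsc] at hle
    have := Nat.le_of_mul_le_mul_left hle hp.pos
    omega
  -- regularity of `U`
  have hUfix : ∀ y : α, y ≠ a → ∀ u ∈ U, u • y = y → u = 1 := by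
    intro y hy u hu huy
    by_contra hu1
    have ho : orderOf u = p := by
      have hd' := (Subgroup.orderOf_coe (⟨u, hu⟩ : U)).symm ▸ orderOf_dvd_natCard (⟨u, hu⟩ : U)
      rw [hUcard] at hd'
      rcases (Nat.dvd_prime hp).1 hd' with h | h
      · exact absurd (orderOf_eq_one_iff.1 h) hu1
      · exact h
    set σ : Equiv.Perm α := (u : Equiv.Perm α) with hσ
    have hσo : orderOf σ = p := by rw [hσ, Subgroup.orderOf_coe, ho]
    have hσp : σ.support.card ≤ p - 1 := by
      have hsub : σ.support ⊆ (Finset.univ.erase a).erase y := by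
        intro x hx
        rw [Equiv.Perm.mem_support] at hx
        simp only [Finset.mem_erase, Finset.mem_univ, and_true]
        exact ⟨fun h => hx (by subst h; exact huy),
          fun h => hx (by subst h; exact hUa hu)⟩
      refine le_trans (Finset.card_le_card hsub) (le_of_eq ?_)
      rw [Finset.card_erase_of_mem (Finset.mem_erase.2 ⟨hy, Finset.mem_univ _⟩),
        Finset.card_erase_of_mem (Finset.mem_univ _), Finset.card_univ, hα]
      omega
    obtain ⟨n, hn⟩ := Equiv.Perm.cycleType_prime_order (hσo.symm ▸ hp)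
    have hsum := Equiv.Perm.sum_cycleType σ
    rw [hn, hσo, Multiset.sum_replicate, smul_eq_mul] at hsum
    have : p * 1 ≤ (n + 1) * p := by rw [mul_one]; exact Nat.le_mul_of_pos_left p (Nat.succ_pos n)
    have := hp.two_le
    omega
  have hUr : ∀ y z : α, y ≠ a → z ≠ a → ∃! u : U, (u : G) • y = z := by
    intro y z hy hz
    have hinj : Function.Injective fun u : U => (⟨(u : G) • y, fun h => hy
        (MulAction.injective (u : G) (h.trans (hUa u.2).symm))⟩ : {x : α // x ≠ a}) := by
      intro u w h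
      have h' : (u : G) • y = (w : G) • y := congrArg Subtype.val h
      exact (inv_mul_eq_one.1 (Subtype.ext (hUfix y hy _ (mul_mem (inv_mem w.2) u.2)
        (by rw [mul_smul, h', inv_smul_smul])))).symm
    obtain ⟨u, hu⟩ := ((Nat.bijective_iff_injective_and_card _).2 ⟨hinj, by
      rw [hUcard, Nat.card_eq_fintype_card, Fintype.card_subtype_compl, Fintype.card_subtype_eq,
        hα, Nat.add_sub_cancel]⟩).2 ⟨z, hz⟩
    exact ⟨u, congrArg Subtype.val hu, fun w hw =>
      hinj (Subtype.ext (hw.trans (congrArg Subtype.val hu).symm))⟩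
  by_cases hA : ∃ N : Subgroup G, N.Normal ∧ IsPretransitive N α ∧ ∀ x : α, stabilizer N x = ⊥
  · obtain ⟨N, hNn, hNt, hNr⟩ := hA
    exact Or.inr (Or.inr (semiaffine_case hp hp2 hα hd U hUcard hUa hUn hUr hsc N hNt hNr))
  push Not at hA
  -- a Zassenhaus group
  have h2 : IsMultiplyPretransitive G α 2 := by
    rw [is_two_pretransitive_iff]
    intro x y x' y' hxy hxy'
    obtain ⟨g, hg⟩ := MulAction.exists_smul_eq G x a
    obtain ⟨g', hg'⟩ := MulAction.exists_smul_eq G x' a
    have h1 : g • y ≠ a := fun h => hxy (MulAction.injective g (hg.trans h.symm))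
    have h1' : g' • y' ≠ a := fun h => hxy' (MulAction.injective g' (hg'.trans h.symm))
    obtain ⟨u, hu, -⟩ := hUr (g • y) (g' • y') h1 h1'
    refine ⟨g'⁻¹ * (u : G) * g, ?_, ?_⟩
    · rw [mul_smul, mul_smul, hg, mem_stabilizer_iff.1 (hUa u.2), inv_smul_eq_iff, hg']
    · rw [mul_smul, mul_smul, hu, inv_smul_smul]
  obtain ⟨b, hb⟩ := Fintype.exists_ne_of_one_lt_card (show 1 < Fintype.card α by omega) a
  have hTcard : Nat.card ↥(Zass.two G a b) = d := by
    let f : U × ↥(Zass.two G a b) → stabilizer G a := fun x =>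
      ⟨(x.1 : G) * x.2, mul_mem (hUa x.1.2) x.2.2.1⟩
    have hf : Function.Bijective f := by
      constructor
      · intro x y h
        have h' : (x.1 : G) * x.2 = y.1 * y.2 := congrArg Subtype.val h
        have hb' := congrArg (· • b) h'
        simp only [mul_smul] at hb'
        rw [x.2.2.2, y.2.2.2] at hb'
        have e1 : x.1 = y.1 := (hUr b ((y.1 : G) • b) hb (fun h => hb
          (MulAction.injective (y.1 : G) (h.trans (hUa y.1.2).symm)))).unique hb' rfl
        refine Prod.ext e1 (Subtype.ext ?_)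
        rw [e1] at h'
        exact mul_left_cancel h'
      · rintro ⟨g, hg⟩
        have hgb : g • b ≠ a := fun h => hb (MulAction.injective g (h.trans hg.symm))
        obtain ⟨u, hu, -⟩ := hUr b (g • b) hb hgb
        refine ⟨(u, ⟨(u : G)⁻¹ * g, (stabilizer G a).mul_mem ((stabilizer G a).inv_mem (hUa u.2)) hg, ?_⟩), Subtype.ext ?_⟩
        · show ((u : G)⁻¹ * g) • b = b
          rw [mul_smul, inv_smul_eq_iff, hu]
        · show (u : G) * ((u : G)⁻¹ * g) = g
          rw [mul_inv_cancel_left]
    have h := Nat.card_eq_of_bijective f hf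
    rw [Nat.card_prod, hUcard, hsc] at h
    exact Nat.eq_of_mul_eq_mul_left hp.pos h
  have hπU : (π : G) ∈ U := Subgroup.mem_zpowers _
  have hπ1 : (π : G) ≠ 1 := fun h => by
    rw [← Subgroup.orderOf_coe, h, orderOf_one] at hπ
    exact hp.ne_one hπ.symm
  have hfix3 : ∀ g : G, ∀ x y z : α, x ≠ y → y ≠ z → x ≠ z →
      g • x = x → g • y = y → g • z = z → g = 1 := by
    intro g x y z hxy hyz hxz h1 h2' h3
    obtain ⟨k, hk⟩ := MulAction.exists_smul_eq G x a
    set g' := k * g * k⁻¹ with hg'
    have hfixk : ∀ w : α, g • w = w → g' • (k • w) = k • w := fun w hw => by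
      rw [hg', mul_smul, mul_smul, inv_smul_smul, hw]
    have ga : g' • a = a := by rw [← hk]; exact hfixk x h1
    have hby : k • y ≠ a := fun h => hxy (MulAction.injective k (hk.trans h.symm))
    have hbz : k • z ≠ a := fun h => hxz (MulAction.injective k (hk.trans h.symm))
    suffices g' = 1 by
      rw [hg', conj_eq_one_iff] at this
      exact this
    obtain ⟨u, hu, huu⟩ := hUr (k • y) (k • z) hby hbz
    have hne : (u : G) ≠ 1 := fun h => hyz (MulAction.injective k (by
      rw [h, one_smul] at hu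
      exact hu))
    have huc : (⟨g' * u * g'⁻¹, hUn g' ga u u.2⟩ : U) = u := huu _ (by
      show (g' * (u : G) * g'⁻¹) • (k • y) = k • z
      rw [mul_smul, mul_smul, inv_smul_eq_iff.2 (hfixk y h2').symm, hu, hfixk z h3])
    have hgu : g' * (u : G) = (u : G) * g' :=
      mul_inv_eq_iff_eq_mul.1 (congrArg Subtype.val huc)
    have hgen : Subgroup.zpowers (u : G) = U := by
      refine Subgroup.eq_of_le_of_card_ge ((Subgroup.zpowers_le).2 u.2) (le_of_eq ?_)
      rw [hUcard, Nat.card_zpowers, Subgroup.orderOf_coe]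
      rcases (Nat.dvd_prime hp).1 (hUcard ▸ orderOf_dvd_natCard u) with h | h
      · exact absurd (congrArg Subtype.val (orderOf_eq_one_iff.1 h)) hne
      · exact h.symm
    refine Subtype.ext (Equiv.ext fun w => ?_)
    by_cases hw : w = a
    · subst hw; exact ga
    obtain ⟨v, hv, -⟩ := hUr (k • y) w hby hw
    obtain ⟨i, hi⟩ := Subgroup.mem_zpowers_iff.1 (show (v : G) ∈ Subgroup.zpowers (u : G) by
      rw [hgen]; exact v.2)
    show g' • w = w
    rw [← hv, ← mul_smul, ← hi, (show Commute g' (u : G) from hgu).zpow_right i, mul_smul,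
      hfixk y h2']
  have hd2 : d ≠ 1 := by
    rintro rfl
    have hsharp : ∀ x : Fin 2 ↪ α, stabilizer G x = ⊥ := fun x => by
      rw [Subgroup.eq_bot_iff_forall]
      intro g hg
      have h01 : x 0 ≠ x 1 := fun h => absurd (x.injective h) (by decide)
      obtain ⟨k, hk0, hk1⟩ := (is_two_pretransitive_iff.1 h2) h01 hb.symm
      have hm : k * g * k⁻¹ ∈ Zass.two G a b := by
        have e0 : g • x 0 = x 0 := congrArg (fun u : Fin 2 ↪ α => u 0) hg
        have e1 : g • x 1 = x 1 := congrArg (fun u : Fin 2 ↪ α => u 1) hg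
        constructor
        · show (k * g * k⁻¹) • a = a
          rw [← hk0, mul_smul, mul_smul, inv_smul_smul, e0]
        · show (k * g * k⁻¹) • b = b
          rw [← hk1, mul_smul, mul_smul, inv_smul_smul, e1]
      rw [(Subgroup.card_eq_one.1 hTcard), Subgroup.mem_bot, conj_eq_one_iff] at hm
      exact hm
    obtain ⟨p', j, N, -, -, -, hNn, -, -, hNt, hNr, -⟩ :=
      Perm.SharplyTwo.exists_translations hsharp (by rw [Nat.card_eq_fintype_card]; omega)
    obtain ⟨x, hx⟩ := hA N hNn hNt
    exact hx (hNr x)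
  have hZ : Cfsg.IsZassenhausGroup G α := by
    refine ⟨inferInstance, h2, hfix3, ?_, fun N hN hNt => hA N hN hNt⟩
    obtain ⟨g, hg⟩ := Fintype.exists_ne_of_one_lt_card
      (show 1 < Fintype.card ↥(Zass.two G a b) by rw [← Nat.card_eq_fintype_card, hTcard]; omega) 1
    exact ⟨g, fun h => hg (Subtype.ext h), a, b, hb.symm, g.2.1, g.2.2⟩
  have hU : Zass.IsKernel a U :=
    ⟨hUa, by rw [hUcard, hα], fun u hu hu1 c hc => by
      by_contra hca
      exact hu1 (hUfix c hca u hu hc)⟩
  have hUc : ∀ x ∈ U, ∀ y ∈ U, x * y = y * x := by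
    intro x hx y hy
    obtain ⟨i, rfl⟩ := Subgroup.mem_zpowers_iff.1 hx
    obtain ⟨j, rfl⟩ := Subgroup.mem_zpowers_iff.1 hy
    exact (Commute.zpow_zpow_self (π : G) i j).eq
  rcases AbMain.classify_card hZ hb.symm hU hUc with ⟨hfull, h3, hsharp⟩ |
    ⟨K, i1, i2, hhalf, hK, -, ⟨iso⟩⟩
  · obtain ⟨F, i1, i2, hF, hiso⟩ := SharpThreeField.exists_pgl2 hp (le_refl 1) (fun _ => odd_one)
      (by rw [hα, pow_one]) h3 hsharp
    exact Or.inl ⟨by omega, pgl (by rw [hF, pow_one]) hiso⟩
  · refine Or.inr (Or.inl ⟨by omega, ⟨iso.trans (LinearGroup.pslCongr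
      (FiniteField.ringEquivOfCardEq ?_))⟩⟩)
    rw [ZMod.card]
    omega

end Cfsg.Agent.PermB.DegreePrimeSucc
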