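import Mathlib

/-!
A `k`-homogeneous group of sufficiently large degree is `(k-1)`-homogeneous.
-/

set_option autoImplicit false

namespace Cfsg.Agent.PermB.HomogDown

open scoped Pointwise

variable {α : Type*} [Fintype α] [DecidableEq α] (G : Subgroup (Equiv.Perm α))

theorem not_dvd_choose {p v k : ℕ} (hp : p.Prime) (hk : p ^ v ∣ k) :
    ¬ p ∣ (k + (p ^ v - 1)).choose (p ^ v - 1) := by
  intro h
  have hpos : (k + (p ^ v - 1)).choose (p ^ v - 1) ≠ 0 := (Nat.choose_pos (Nat.le_add_left _ _)).ne'
  have h1 := (hp.dvd_iff_one_le_factorization hpos).1 h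
  rw [Nat.factorization_choose' hp (Nat.lt_add_one _)] at h1
  obtain ⟨i, hi⟩ := Finset.card_pos.1 h1
  simp only [Finset.mem_filter, Finset.mem_Ico] at hi
  obtain ⟨-, hi⟩ := hi
  have hlt : ∀ m, m % p ^ i < p ^ i := fun m => Nat.mod_lt _ (pow_pos hp.pos i)
  rcases le_or_gt i v with hiv | hiv
  · rw [Nat.mod_eq_zero_of_dvd ((pow_dvd_pow p hiv).trans hk)] at hi
    have := hlt (p ^ v - 1)
    omega
  · have hpv : 0 < p ^ v := pow_pos hp.pos v
    have hle : p ^ v ≤ p ^ i := Nat.pow_le_pow_right hp.pos hiv.le
    rw [Nat.mod_eq_of_lt (show p ^ v - 1 < p ^ i by omega)] at hi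
    have hdvd : p ^ v ∣ p ^ i - k % p ^ i :=
      Nat.dvd_sub (pow_dvd_pow p hiv.le) ((Nat.dvd_mod_iff (pow_dvd_pow p hiv.le)).2 hk)
    have := Nat.le_of_dvd (by have := hlt k; omega) hdvd
    omega

theorem card_smul (g : G) (A : Finset α) : (g • A).card = A.card := Finset.card_smul_finset g A

theorem isPretransitive_pred {k : ℕ} (hk : 2 ≤ k)
    (hG : MulAction.IsPretransitive G (Set.powersetCard α k))
    (hq : ∀ q : ℕ, IsPrimePow q → q ∣ k → k + q - 1 ≤ Fintype.card α) :
    MulAction.IsPretransitive G (Set.powersetCard α (k - 1)) := by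
  classical
  refine ⟨fun A B => ?_⟩
  obtain ⟨p₀, hp₀, hp₀k⟩ := Nat.exists_prime_and_dvd (show k ≠ 1 by omega)
  have hkn : k ≤ Fintype.card α := by
    have := hq p₀ hp₀.isPrimePow hp₀k
    have := hp₀.two_le
    omega
  have move : ∀ K L : Finset α, K.card = k → L.card = k → ∃ g : G, g • K = L := fun K L hK hL => by
    obtain ⟨g, hg⟩ := MulAction.exists_smul_eq G (⟨K, hK⟩ : Set.powersetCard α k) ⟨L, hL⟩
    exact ⟨g, congrArg Subtype.val hg⟩
  -- the orbit of `A`
  set O : Finset (Finset α) := Finset.univ.filter fun C => ∃ g : G, g • (A : Finset α) = C with hO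
  have hOmem : ∀ C, C ∈ O ↔ ∃ g : G, g • (A : Finset α) = C := fun C => by simp [hO]
  have hOinv : ∀ (g : G), ∀ C ∈ O, g • C ∈ O := fun g C hC => by
    obtain ⟨h, rfl⟩ := (hOmem C).1 hC
    exact (hOmem _).2 ⟨g * h, mul_smul g h _⟩
  have hOcard : ∀ C ∈ O, C.card = k - 1 := fun C hC => by
    obtain ⟨h, rfl⟩ := (hOmem C).1 hC
    rw [card_smul, A.2]
  let cnt : Finset α → ℕ := fun K => (O.filter fun C => C ⊆ K).card
  have hinv : ∀ (g : G) (K : Finset α), cnt (g • K) = cnt K := fun g K => by
    symm
    refine Finset.card_bij' (fun C _ => g • C) (fun C _ => g⁻¹ • C) (fun C hC => ?_)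
      (fun C hC => ?_) (fun C _ => inv_smul_smul g C) (fun C _ => smul_inv_smul g C)
    · rw [Finset.mem_filter] at hC ⊢
      exact ⟨hOinv g C hC.1, Finset.smul_finset_subset_smul_finset hC.2⟩
    · rw [Finset.mem_filter] at hC ⊢
      refine ⟨hOinv g⁻¹ C hC.1, ?_⟩
      rw [← Finset.smul_finset_subset_smul_finset_iff (a := g), smul_inv_smul]
      exact hC.2
  obtain ⟨K₀, hAK, hK₀⟩ := Finset.exists_superset_card_eq (s := (A : Finset α)) (n := k)
    (by rw [A.2]; omega) hkn
  set a := cnt K₀ with ha
  have hcnt : ∀ K : Finset α, K.card = k → cnt K = a := fun K hK => by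
    obtain ⟨g, rfl⟩ := move K₀ K hK₀ hK
    exact hinv g K₀
  have ha1 : 0 < a := Finset.card_pos.2
    ⟨A, Finset.mem_filter.2 ⟨(hOmem _).2 ⟨1, one_smul _ _⟩, hAK⟩⟩
  have hsubk : ∀ K : Finset α, K.card = k → (O.filter fun C => C ⊆ K) ⊆
      K.powersetCard (k - 1) := fun K _ C hC => by
    rw [Finset.mem_filter] at hC
    exact Finset.mem_powersetCard.2 ⟨hC.2, hOcard C hC.1⟩
  have hak : a ≤ k := by
    have := Finset.card_le_card (hsubk K₀ hK₀)
    rw [Finset.card_powersetCard, hK₀, Nat.choose_symm (by omega), Nat.choose_one_right] at this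
    exact this
  -- divisibility
  have hdvd : k ∣ a := by
    rw [← Nat.factorization_le_iff_dvd (by omega) ha1.ne']
    intro p
    by_cases hp : p.Prime
    swap
    · simp [Nat.factorization_eq_zero_of_not_prime k hp]
    set v := k.factorization p with hv
    by_cases hv0 : v = 0
    · simp [hv0]
    have hqk : p ^ v ∣ k := Nat.ordProj_dvd k p
    have hqn := hq (p ^ v) (hp.isPrimePow.pow hv0) hqk
    have hq1 : 1 ≤ p ^ v := Nat.one_le_pow _ _ hp.pos
    obtain ⟨M, -, hM⟩ := Finset.exists_subset_card_eq (s := (Finset.univ : Finset α))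
      (n := k + (p ^ v - 1)) (by rw [Finset.card_univ]; omega)
    have key : a * (k + (p ^ v - 1)).choose (p ^ v - 1)
        = (O.filter fun C => C ⊆ M).card * p ^ v := by
      calc a * (k + (p ^ v - 1)).choose (p ^ v - 1)
          = ∑ K ∈ M.powersetCard k, cnt K := by
            rw [Finset.sum_const_nat (m := a) fun K hK => hcnt K (Finset.mem_powersetCard.1 hK).2,
              Finset.card_powersetCard, hM, Nat.choose_symm_add, mul_comm]
        _ = ∑ K ∈ M.powersetCard k, ∑ C ∈ O.filter (fun C => C ⊆ M),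
              if C ⊆ K then 1 else 0 := by
            refine Finset.sum_congr rfl fun K hK => ?_
            rw [← Finset.card_filter, Finset.filter_filter]
            refine congrArg Finset.card (Finset.filter_congr fun C _ => ?_)
            exact ⟨fun h => ⟨h.trans (Finset.mem_powersetCard.1 hK).1, h⟩, fun h => h.2⟩
        _ = ∑ C ∈ O.filter (fun C => C ⊆ M), p ^ v := by
            rw [Finset.sum_comm]
            refine Finset.sum_congr rfl fun C hC => ?_
            rw [Finset.mem_filter] at hC
            rw [← Finset.card_filter]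
            have : (M.powersetCard k).filter (fun K => C ⊆ K) =
                (M \ C).image fun x => insert x C := by
              ext K
              simp only [Finset.mem_filter, Finset.mem_powersetCard, Finset.mem_image,
                Finset.mem_sdiff]
              constructor
              · rintro ⟨⟨hKM, hKk⟩, hCK⟩
                have hd : (K \ C).card = 1 := by
                  rw [Finset.card_sdiff_of_subset hCK, hKk, hOcard C hC.1]; omega
                obtain ⟨x, hx⟩ := Finset.card_eq_one.1 hd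
                have hxm : x ∈ K \ C := by rw [hx]; exact Finset.mem_singleton_self x
                rw [Finset.mem_sdiff] at hxm
                refine ⟨x, ⟨hKM hxm.1, hxm.2⟩, Finset.eq_of_subset_of_card_le
                  (Finset.insert_subset hxm.1 hCK) ?_⟩
                rw [Finset.card_insert_of_notMem hxm.2, hOcard C hC.1, hKk]; omega
              · rintro ⟨x, ⟨hxM, hxC⟩, rfl⟩
                refine ⟨⟨Finset.insert_subset hxM hC.2, ?_⟩, Finset.subset_insert _ _⟩
                rw [Finset.card_insert_of_notMem hxC, hOcard C hC.1]; omega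
            rw [this, Finset.card_image_of_injOn fun x hx y hy h => by
              have hxC : x ∉ C := (Finset.mem_sdiff.1 hx).2
              have : x ∈ insert y C := h ▸ Finset.mem_insert_self x C
              exact (Finset.mem_insert.1 this).resolve_right hxC,
              Finset.card_sdiff_of_subset hC.2, hOcard C hC.1, hM]
            omega
        _ = _ := by rw [Finset.sum_const, smul_eq_mul]
    have hcop : (p ^ v).Coprime ((k + (p ^ v - 1)).choose (p ^ v - 1)) :=
      ((hp.coprime_iff_not_dvd).2 (not_dvd_choose hp hqk)).pow_left v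
    exact (hp.pow_dvd_iff_le_factorization ha1.ne').1
      (hcop.dvd_of_dvd_mul_right (Dvd.intro_left _ key.symm))
  have hka : a = k := le_antisymm hak (Nat.le_of_dvd ha1 hdvd)
  obtain ⟨K, hBK, hK⟩ := Finset.exists_superset_card_eq (s := (B : Finset α)) (n := k)
    (by rw [B.2]; omega) hkn
  have heq := Finset.eq_of_subset_of_card_le (hsubk K hK) (by
    rw [Finset.card_powersetCard, hK, Nat.choose_symm (by omega), Nat.choose_one_right]
    exact le_of_eq ((hcnt K hK).trans hka).symm)
  have hB : (B : Finset α) ∈ O.filter fun C => C ⊆ K := by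
    rw [heq, Finset.mem_powersetCard]; exact ⟨hBK, B.2⟩
  obtain ⟨g, hg⟩ := (hOmem _).1 (Finset.mem_filter.1 hB).1
  exact ⟨g, Subtype.ext hg⟩

end Cfsg.Agent.PermB.HomogDown
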