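import Mathlib

/-!
In a `k`-transitive group, if some non-identity element fixes more than `k` points then some
proper subset of more than `k` points has a `k`-transitive setwise stabiliser.
-/

set_option autoImplicit false

namespace Cfsg.Agent.PermB.InducedAlt

open MulAction

variable {G Ω : Type*} [Group G] [Finite G] [MulAction G Ω] [Fintype Ω] [DecidableEq Ω]

omit [Finite G] [DecidableEq Ω] in
/-- Gleason's lemma, relative to a pointwise fixed set. -/
theorem gleason {p : ℕ} [Fact p.Prime] (H : Subgroup G) (T F : Finset Ω)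
    (hT : ∀ h ∈ H, ∀ c ∈ T, h • c = c) (hF : ∀ h ∈ H, ∀ c ∈ F, h • c ∈ F)
    (hex : ∀ a ∈ F, a ∉ T → ∃ R : Subgroup G, R ≤ H ∧ IsPGroup p R ∧
      ∀ c ∈ F, (∀ r ∈ R, r • c = c) ↔ c ∈ T ∨ c = a)
    {a b : Ω} (ha : a ∈ F) (haT : a ∉ T) (hb : b ∈ F) (hbT : b ∉ T) :
    ∃ h ∈ H, h • a = b := by
  classical
  by_contra hne
  let O : SubMulAction H Ω :=
    { carrier := orbit H a
      smul_mem' := fun h _ hc => mem_orbit_of_mem_orbit h hc }
  have hO : ∀ c : Ω, c ∈ O → ∃ h ∈ H, h • a = c := by
    rintro c ⟨h, rfl⟩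
    exact ⟨h, h.2, rfl⟩
  have hOF : ∀ c : Ω, c ∈ O → c ∈ F ∧ c ∉ T := fun c hc => by
    obtain ⟨h, hh, rfl⟩ := hO c hc
    refine ⟨hF h hh a ha, fun hcT => haT ?_⟩
    have := hT h hh _ hcT
    rwa [← MulAction.injective h this]
  have key : ∀ d ∈ F, d ∉ T → Nat.card O ≡ (if d ∈ O then 1 else 0) [MOD p] := by
    intro d hd hdT
    obtain ⟨R, hRH, hR, hfix⟩ := hex d hd hdT
    have h1 := (hR.of_equiv (Subgroup.subgroupOfEquivOfLe hRH).symm).card_modEq_card_fixedPoints O
    suffices e : Nat.card ↥(fixedPoints (R.subgroupOf H) O) = if d ∈ O then 1 else 0 by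
      rw [e] at h1
      exact h1
    have hmem : ∀ c : O, c ∈ fixedPoints (R.subgroupOf H) O ↔ (c : Ω) = d := by
      intro c
      rw [mem_fixedPoints]
      constructor
      · intro hc
        have hall : ∀ r ∈ R, r • (c : Ω) = c := fun r hr =>
          congrArg Subtype.val (hc ⟨⟨r, hRH hr⟩, hr⟩)
        exact ((hfix c (hOF c c.2).1).1 hall).resolve_left (hOF c c.2).2
      · intro hc r
        exact Subtype.ext ((hfix c (hOF c c.2).1).2 (Or.inr hc) _ r.2)
    rw [Nat.card_coe_set_eq]
    split_ifs with hdO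
    · rw [show fixedPoints (R.subgroupOf H) O = {⟨d, hdO⟩} from
        Set.ext fun c => by rw [hmem, Set.mem_singleton_iff, Subtype.ext_iff]]
      exact Set.ncard_singleton _
    · rw [Set.ncard_eq_zero, Set.eq_empty_iff_forall_notMem]
      exact fun c hc => hdO ((hmem c).1 hc ▸ c.2)
  have h1 := key a ha haT
  rw [if_pos (show a ∈ O from mem_orbit_self a)] at h1
  have h0 := key b hb hbT
  rw [if_neg (show b ∉ O from fun h => hne (hO b h))] at h0
  have := Nat.modEq_iff_dvd'  (Nat.zero_le 1) |>.1 (h0.symm.trans h1)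
  exact (Fact.out : p.Prime).ne_one (Nat.dvd_one.1 (by simpa using this))

omit [Finite G] in
/-- A group in which every `k`-subset of an invariant set `F` is precisely the fixed-point set on
`F` of some `p`-subgroup is `k`-transitive on `F`. -/
theorem transitive_of_fixed {p : ℕ} [Fact p.Prime] (N : Subgroup G) (F : Finset Ω) {k : ℕ}
    (hk : k < F.card) (hF : ∀ h ∈ N, ∀ c ∈ F, h • c ∈ F)
    (hex : ∀ S : Finset Ω, S ⊆ F → S.card = k → ∃ R : Subgroup G, R ≤ N ∧ IsPGroup p R ∧
      ∀ c ∈ F, (∀ r ∈ R, r • c = c) ↔ c ∈ S)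
    (x y : Fin k ↪ Ω) (hx : ∀ i, x i ∈ F) (hy : ∀ i, y i ∈ F) :
    ∃ h ∈ N, h • x = y := by
  classical
  suffices ∀ j ≤ k, ∃ h ∈ N, ∀ i : Fin k, (i : ℕ) < j → h • x i = y i by
    obtain ⟨h, hh, he⟩ := this k le_rfl
    exact ⟨h, hh, Function.Embedding.ext fun i => he i i.2⟩
  intro j
  induction j with
  | zero => exact fun _ => ⟨1, N.one_mem, fun i hi => absurd hi (by omega)⟩
  | succ j ih =>
    intro hj
    obtain ⟨h, hh, he⟩ := ih (by omega)
    set jj : Fin k := ⟨j, by omega⟩ with hjj
    set S : Finset Ω := (Finset.univ.filter fun i : Fin k => (i : ℕ) < j).map y with hS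
    set a := h • x jj with ha
    set b := y jj with hb
    have haF : a ∈ F := hF h hh _ (hx jj)
    have haS : a ∉ S := by
      simp only [hS, Finset.mem_map, Finset.mem_filter, Finset.mem_univ, true_and, not_exists,
        not_and]
      intro i hi e
      rw [← he i hi, ha] at e
      have := x.injective (MulAction.injective h e)
      rw [this, hjj] at hi
      exact lt_irrefl _ hi
    have hbS : b ∉ S := by
      simp only [hS, Finset.mem_map, Finset.mem_filter, Finset.mem_univ, true_and, not_exists,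
        not_and]
      intro i hi e
      rw [y.injective e, hjj] at hi
      exact lt_irrefl _ hi
    have hSF : S ⊆ F := fun c hc => by
      simp only [hS, Finset.mem_map] at hc
      obtain ⟨i, -, rfl⟩ := hc
      exact hy i
    have hScard : S.card ≤ k - 1 := by
      rw [hS, Finset.card_map]
      have : (Finset.univ.filter fun i : Fin k => (i : ℕ) < j) ⊂ Finset.univ :=
        Finset.filter_ssubset.2 ⟨jj, Finset.mem_univ _, by rw [hjj]; simp⟩
      have := Finset.card_lt_card this
      simp only [Finset.card_univ, Fintype.card_fin] at this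
      omega
    obtain ⟨T, hST, hTF, hTcard⟩ := Finset.exists_subsuperset_card_eq
      (s := S) (t := F \ {a, b}) (n := k - 1)
      (fun c hc => Finset.mem_sdiff.2 ⟨hSF hc, by
        simp only [Finset.mem_insert, Finset.mem_singleton]
        rintro (rfl | rfl)
        exacts [haS hc, hbS hc]⟩) hScard (by
        have h1 := Finset.le_card_sdiff ({a, b} : Finset Ω) F
        have h2 : ({a, b} : Finset Ω).card ≤ 2 := Finset.card_le_two
        omega)
    let H : Subgroup G :=
      { carrier := {g | g ∈ N ∧ ∀ c ∈ T, g • c = c}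
        mul_mem' := fun {g g'} hg hg' => ⟨N.mul_mem hg.1 hg'.1, fun c hc => by
          rw [mul_smul, hg'.2 c hc, hg.2 c hc]⟩
        one_mem' := ⟨N.one_mem, fun c _ => one_smul G c⟩
        inv_mem' := fun {g} hg => ⟨N.inv_mem hg.1, fun c hc => by
          rw [inv_smul_eq_iff, hg.2 c hc]⟩ }
    have hnT : ∀ c, c = a ∨ c = b → c ∉ T := fun c hc hcT => by
      have := (Finset.mem_sdiff.1 (hTF hcT)).2
      simp only [Finset.mem_insert, Finset.mem_singleton] at this
      exact this hc
    obtain ⟨g, hg, hgab⟩ := gleason H T F (fun h hh c hc => hh.2 c hc)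
      (fun h hh c hc => hF h hh.1 c hc)
      (fun d hd hdT => by
        obtain ⟨R, hRN, hR, hfix⟩ := hex (insert d T)
          (Finset.insert_subset hd (hTF.trans Finset.sdiff_subset))
          (by rw [Finset.card_insert_of_notMem hdT, hTcard]; omega)
        refine ⟨R, fun r hr => ⟨hRN hr, fun c hc => ?_⟩, hR, fun c hc => ?_⟩
        · exact (hfix c (Finset.mem_sdiff.1 (hTF hc)).1).2 (Finset.mem_insert_of_mem hc) r hr
        · rw [hfix c hc, Finset.mem_insert, or_comm])
      haF (hnT a (Or.inl rfl)) (hy jj) (hnT b (Or.inr rfl))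
    refine ⟨g * h, N.mul_mem hg.1 hh, fun i hi => ?_⟩
    rw [mul_smul]
    rcases Nat.lt_succ_iff_lt_or_eq.1 hi with hi | hi
    · rw [he i hi]
      exact hg.2 _ (hST (by rw [hS]; exact Finset.mem_map_of_mem _ (by simp [hi])))
    · rw [show i = jj from Fin.ext hi, ← ha, hgab]

omit [DecidableEq Ω] in
theorem stabilizer_tuple_fix {k : ℕ} {x : Fin k ↪ Ω} {g : G} :
    g ∈ stabilizer G x ↔ ∀ i, g • x i = x i := by
  rw [mem_stabilizer_iff, Function.Embedding.ext_iff]
  exact Iff.rfl

/-- If a non-identity element fixes more than `k` points, then some proper subset of more than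
`k` points has a setwise stabiliser that is `k`-transitive on it. -/
theorem exists_smaller [FaithfulSMul G Ω] {k : ℕ} (hk : IsMultiplyPretransitive G Ω k) {g : G}
    (hg : g ≠ 1) (hfix : k < (Finset.univ.filter fun a : Ω => g • a = a).card) :
    ∃ F : Finset Ω, k < F.card ∧ F.card < Fintype.card Ω ∧
      ∀ x y : Fin k ↪ Ω, (∀ i, x i ∈ F) → (∀ i, y i ∈ F) →
        ∃ h : G, (∀ a ∈ F, h • a ∈ F) ∧ h • x = y := by
  classical
  have := Fintype.ofFinite G
  obtain ⟨p, hp, hpg⟩ := Nat.exists_prime_and_dvd (mt orderOf_eq_one_iff.1 hg)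
  have := Fact.mk hp
  let fixP : Subgroup G → Finset Ω := fun Q => Finset.univ.filter fun a => ∀ q ∈ Q, q • a = a
  set z := g ^ (orderOf g / p) with hz
  have hzp : orderOf z = p := orderOf_pow_orderOf_div (orderOf_pos g).ne' hpg
  set Z := Finset.univ.filter fun Q : Subgroup G => IsPGroup p Q ∧ k < (fixP Q).card with hZ
  have hzZ : Subgroup.zpowers z ∈ Z := by
    refine Finset.mem_filter.2 ⟨Finset.mem_univ _, IsPGroup.of_card (n := 1)
      (by rw [Nat.card_zpowers, hzp, pow_one]), hfix.trans_le (Finset.card_le_card fun a ha => ?_)⟩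
    simp only [fixP, Finset.mem_filter, Finset.mem_univ, true_and] at ha ⊢
    intro q hq
    have hga : g ∈ stabilizer G a := ha
    exact (Subgroup.zpowers_le.2 ((stabilizer G a).pow_mem hga _)) hq
  obtain ⟨Q, hQ, hmax⟩ := Finset.exists_max_image Z (fun Q => Nat.card Q) ⟨_, hzZ⟩
  obtain ⟨-, hQp, hQk⟩ := Finset.mem_filter.1 hQ
  have hQne : Q ≠ ⊥ := fun h => by
    have := hmax _ hzZ
    rw [Nat.card_zpowers, hzp, h, Subgroup.card_bot] at this
    exact hp.one_lt.not_ge this
  refine ⟨fixP Q, hQk, ?_, fun x y hx hy => ?_⟩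
  · refine Finset.card_lt_univ_of_notMem (x := ?_) ?_
    · exact Classical.choose (show ∃ a : Ω, a ∉ fixP Q by
        by_contra h
        push Not at h
        refine hQne ((Subgroup.eq_bot_iff_forall _).2 fun q hq => eq_of_smul_eq_smul fun a : Ω => ?_)
        have := h a
        simp only [fixP, Finset.mem_filter] at this
        rw [this.2 q hq, one_smul])
    · exact Classical.choose_spec (show ∃ a : Ω, a ∉ fixP Q by
        by_contra h
        push Not at h
        refine hQne ((Subgroup.eq_bot_iff_forall _).2 fun q hq => eq_of_smul_eq_smul fun a : Ω => ?_)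
        have := h a
        simp only [fixP, Finset.mem_filter] at this
        rw [this.2 q hq, one_smul])
  set N := Subgroup.normalizer (Q : Set G) with hN
  have hNF : ∀ h ∈ N, ∀ c ∈ fixP Q, h • c ∈ fixP Q := by
    intro h hh c hc
    simp only [fixP, Finset.mem_filter, Finset.mem_univ, true_and] at hc ⊢
    intro q hq
    have : h⁻¹ * q * h ∈ Q := (Subgroup.mem_normalizer_iff'.1 hh (h⁻¹ * q)).2 (by
      simpa [← mul_assoc] using hq)
    rw [← mul_smul, show q * h = h * (h⁻¹ * q * h) by group, mul_smul, hc _ this]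
  have hQle : ∀ z : Fin k ↪ Ω, (∀ i, z i ∈ fixP Q) → Q ≤ stabilizer G z := fun z hz q hq =>
    stabilizer_tuple_fix.2 fun i => (Finset.mem_filter.1 (hz i)).2 q hq
  suffices ∃ h ∈ N, h • x = y by
    obtain ⟨h, hh, he⟩ := this
    exact ⟨h, hNF h hh, he⟩
  have hcardeq : ∀ z w : Fin k ↪ Ω,
      Nat.card (stabilizer G z) = Nat.card (stabilizer G w) := fun z w => by
    obtain ⟨e, rfl⟩ := exists_smul_eq G z w
    exact Nat.card_congr (stabilizerEquivStabilizer (g := e) (a := z) rfl).toEquiv
  by_cases hfull : Nat.card Q = p ^ (Nat.card (stabilizer G x)).factorization p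
  · -- Witt
    obtain ⟨e, he⟩ := exists_smul_eq G x y
    have hQy := hQle y hy
    have hQy' : Q.map (MulAut.conj e).toMonoidHom ≤ stabilizer G y := by
      rintro _ ⟨q, hq, rfl⟩
      rw [mem_stabilizer_iff, ← he]
      simp only [MulEquiv.coe_toMonoidHom, MulAut.conj_apply, mul_smul, inv_smul_smul]
      rw [mem_stabilizer_iff.1 (hQle x hx hq)]
    have hc : ∀ A : Subgroup G, A ≤ stabilizer G y → Nat.card A = Nat.card Q →
        Nat.card ↥(A.subgroupOf (stabilizer G y)) =
          p ^ (Nat.card (stabilizer G y)).factorization p := fun A hA hAc => by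
      rw [Nat.card_congr (Subgroup.subgroupOfEquivOfLe hA).toEquiv, hAc, hfull, hcardeq x y]
    let P₁ : Sylow p (stabilizer G y) := Sylow.ofCard _ (hc Q hQy rfl)
    let P₂ : Sylow p (stabilizer G y) := Sylow.ofCard _ (hc _ hQy'
      (Nat.card_congr (Q.equivMapOfInjective _ (MulAut.conj e).injective).symm.toEquiv))
    obtain ⟨h, hh⟩ := exists_smul_eq (stabilizer G y) P₂ P₁
    refine ⟨h * e, ?_, by rw [mul_smul, he, mem_stabilizer_iff.1 h.2]⟩
    refine Subgroup.mem_normalizer_fintype fun q hq => ?_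
    have hm : (⟨e * q * e⁻¹, hQy' ⟨q, hq, rfl⟩⟩ : stabilizer G y) ∈ (P₂ : Subgroup _) :=
      ⟨q, hq, rfl⟩
    have := Subgroup.smul_mem_pointwise_smul _ (MulAut.conj h) _ hm
    rw [← Sylow.coe_subgroup_smul, hh] at this
    have hq' : ((h : G) * (e * q * e⁻¹) * (h : G)⁻¹) ∈ Q := this
    rw [show (h : G) * e * q * ((h : G) * e)⁻¹ = h * (e * q * e⁻¹) * (h : G)⁻¹ by group]
    exact hq'
  · refine transitive_of_fixed (p := p) N (fixP Q) hQk hNF (fun S hS hScard => ?_) x y hx hy
    let z : Fin k ↪ Ω := (S.equivFinOfCardEq hScard).symm.toEmbedding.trans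
      (Function.Embedding.subtype _)
    have hzS : ∀ c, c ∈ S ↔ ∃ i, z i = c := fun c =>
      ⟨fun hc => ⟨S.equivFinOfCardEq hScard ⟨c, hc⟩, by simp [z]⟩,
        fun ⟨i, hi⟩ => hi ▸ ((S.equivFinOfCardEq hScard).symm i).2⟩
    have hQz : Q ≤ stabilizer G z := hQle z fun i => hS ((hzS _).2 ⟨i, rfl⟩)
    obtain ⟨P, hP⟩ := (hQp.of_equiv
      (Subgroup.subgroupOfEquivOfLe hQz).symm).exists_le_sylow
    set P' := (P : Subgroup (stabilizer G z)).map (stabilizer G z).subtype with hP'
    have hQP : Q ≤ P' := fun q hq => ⟨⟨q, hQz hq⟩, hP hq, rfl⟩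
    have hP'p : IsPGroup p P' := P.2.map _
    have hlt : Q.subgroupOf P' < ⊤ := by
      refine lt_top_iff_ne_top.2 fun h => hfull ?_
      have hPQ : P' = Q := le_antisymm (Subgroup.subgroupOf_eq_top.1 h) hQP
      rw [← hPQ, hP', Nat.card_congr ((Subgroup.equivMapOfInjective _ _
        (stabilizer G z).subtype_injective).symm).toEquiv, P.card_eq_multiplicity, hcardeq z x]
    have := hP'p.isNilpotent
    obtain ⟨r, hr, hrQ⟩ := SetLike.exists_of_lt (normalizerCondition_of_isNilpotent _ hlt)
    refine ⟨P' ⊓ N, inf_le_right, hP'p.to_le inf_le_left, fun c hc => ⟨fun hall => ?_, ?_⟩⟩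
    · by_contra hcS
      have hQR : Q ≤ P' ⊓ N := le_inf hQP Subgroup.le_normalizer
      have hR : P' ⊓ N ∈ Z := by
        refine Finset.mem_filter.2 ⟨Finset.mem_univ _, hP'p.to_le inf_le_left, ?_⟩
        calc k < (insert c S).card := by rw [Finset.card_insert_of_notMem hcS, hScard]; omega
          _ ≤ _ := Finset.card_le_card fun d hd => by
            simp only [fixP, Finset.mem_filter, Finset.mem_univ, true_and]
            intro u hu
            rcases Finset.mem_insert.1 hd with rfl | hd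
            · exact hall u hu
            · obtain ⟨i, rfl⟩ := (hzS d).1 hd
              obtain ⟨v, -, rfl⟩ := hu.1
              exact stabilizer_tuple_fix.1 v.2 i
      have heq := Subgroup.eq_of_le_of_card_ge hQR (hmax _ hR)
      refine hrQ ?_
      change (r : G) ∈ Q
      rw [heq]
      refine ⟨r.2, Subgroup.mem_normalizer_fintype fun q hq => ?_⟩
      have hq' : q ∈ P' := hQP hq
      exact (Subgroup.mem_normalizer_iff.1 hr ⟨q, hq'⟩).1 hq
    · intro hcS u hu
      obtain ⟨i, rfl⟩ := (hzS c).1 hcS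
      obtain ⟨v, -, rfl⟩ := hu.1
      exact stabilizer_tuple_fix.1 v.2 i

end Cfsg.Agent.PermB.InducedAlt
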