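import Cfsg.Agent.PermB.InducedAltFour
import Cfsg.Agent.PermB.InducedAltReduce

/-!
In a `k`-transitive group, `4 ≤ k < n`, some `(k+1)`-subset has a setwise stabiliser inducing
all its even permutations.
-/

set_option autoImplicit false

namespace Cfsg.Agent.PermB.InducedAlt

open MulAction

/-- A symmetric group of degree `m ≥ 5` acting on fewer than `m` points has its alternating
subgroup in the kernel. -/
theorem alternating_smul_eq {m : ℕ} (hm : 5 ≤ m) {X : Type*} [Finite X]
    [MulAction (Equiv.Perm (Fin m)) X] (hX : Nat.card X < m) {σ : Equiv.Perm (Fin m)}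
    (hσ : σ ∈ alternatingGroup (Fin m)) (c : X) : σ • c = c := by
  have : IsSimpleGroup (alternatingGroup (Fin m)) := alternatingGroup.isSimpleGroup (by simpa)
  have : Nontrivial (Fin m) := Fin.nontrivial_iff_two_le.2 (by omega)
  set φ : alternatingGroup (Fin m) →* Equiv.Perm X :=
    (toPermHom (Equiv.Perm (Fin m)) X).comp (alternatingGroup (Fin m)).subtype with hφ
  rcases Subgroup.Normal.eq_bot_or_eq_top (inferInstance : φ.ker.Normal) with h | h
  · exfalso
    have h1 := Nat.card_le_card_of_injective φ ((MonoidHom.ker_eq_bot_iff φ).1 h)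
    rw [Nat.card_perm, nat_card_alternatingGroup, Nat.card_fin] at h1
    obtain ⟨j, rfl⟩ : ∃ j, m = j + 1 := ⟨m - 1, by omega⟩
    have h2 : (Nat.card X).factorial ≤ j.factorial := Nat.factorial_le (by omega)
    have h3 := Nat.factorial_pos j
    rw [Nat.factorial_succ] at h1
    have : 5 * j.factorial ≤ (j + 1) * j.factorial := Nat.mul_le_mul_right _ hm
    omega
  · have : φ ⟨σ, hσ⟩ = 1 := MonoidHom.mem_ker.1 (h ▸ Subgroup.mem_top _)
    exact Equiv.ext_iff.1 this c

theorem smul_fix_of_orbit {m : ℕ} (hm : 5 ≤ m) {X : Type*} [Finite X]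
    [MulAction (Equiv.Perm (Fin m)) X] (c : X)
    (hX : Nat.card (orbit (Equiv.Perm (Fin m)) c) < m) {σ : Equiv.Perm (Fin m)}
    (hσ : σ ∈ alternatingGroup (Fin m)) : σ • c = c :=
  congrArg Subtype.val (alternating_smul_eq hm hX hσ
    (⟨c, mem_orbit_self c⟩ : orbit (Equiv.Perm (Fin m)) c))

/-- A symmetric group of degree at least 5 acting on seven points, other than that of degree 7,
fixes a point with its alternating subgroup. -/
theorem exists_fix_seven {m : ℕ} (hm : m = 5 ∨ m = 6) {X : Type*} [Finite X]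
    [MulAction (Equiv.Perm (Fin m)) X] (hX : Nat.card X = 7) :
    ∃ c : X, ∀ σ ∈ alternatingGroup (Fin m), σ • c = c := by
  have hm5 : 5 ≤ m := by omega
  obtain ⟨hne, -⟩ := Nat.card_pos_iff.1 (show 0 < Nat.card X by omega)
  obtain ⟨c⟩ := hne
  by_cases hc : Nat.card (orbit (Equiv.Perm (Fin m)) c) < m
  · exact ⟨c, fun σ hσ => smul_fix_of_orbit hm5 c hc hσ⟩
  have hdvd : Nat.card (orbit (Equiv.Perm (Fin m)) c) ∣ m.factorial := by
    have h1 := (stabilizer (Equiv.Perm (Fin m)) c).index_dvd_card
    rwa [index_stabilizer, ← Nat.card_coe_set_eq, Nat.card_perm, Nat.card_fin] at h1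
  have hle : Nat.card (orbit (Equiv.Perm (Fin m)) c) ≤ 7 :=
    hX ▸ Nat.card_le_card_of_injective _ Subtype.val_injective
  have hne7 : Nat.card (orbit (Equiv.Perm (Fin m)) c) ≠ 7 := fun h => by
    rw [h] at hdvd
    rcases hm with rfl | rfl <;> revert hdvd <;> decide
  obtain ⟨d, hd⟩ : ∃ d : X, d ∉ orbit (Equiv.Perm (Fin m)) c := by
    by_contra h
    push Not at h
    exact hne7 ((Nat.card_congr (Equiv.subtypeUnivEquiv h)).trans hX)
  refine ⟨d, fun σ hσ => smul_fix_of_orbit hm5 d ?_ hσ⟩
  have hdisj : Disjoint (orbit (Equiv.Perm (Fin m)) c) (orbit (Equiv.Perm (Fin m)) d) := by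
    rw [Set.disjoint_left]
    intro e hec hed
    exact hd (orbit_eq_iff.1 ((orbit_eq_iff.2 hed).symm.trans (orbit_eq_iff.2 hec)))
  have h2 := (Set.ncard_union_eq hdisj (Set.toFinite _) (Set.toFinite _)).symm.trans_le
    (Set.ncard_le_ncard (Set.subset_univ _) (Set.toFinite _))
  rw [Set.ncard_univ, hX, ← Nat.card_coe_set_eq, ← Nat.card_coe_set_eq] at h2
  omega

section Semi

variable {α : Type*} [Fintype α] [DecidableEq α] (G : Subgroup (Equiv.Perm α))

/-- There is no group of order `13·12·11·10·9·8` on 13 points. -/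
theorem not_thirteen (hα : Fintype.card α = 13) (hG : Nat.card G = 1235520) : False := by
  classical
  have := Fact.mk (show Nat.Prime 13 by norm_num)
  obtain ⟨σ, hσ⟩ := exists_prime_orderOf_dvd_card' (G := G) 13 (by rw [hG]; norm_num)
  have hσα : orderOf (σ : Equiv.Perm α) = 13 := by rwa [Subgroup.orderOf_coe]
  have hcyc : (σ : Equiv.Perm α).IsCycle := Equiv.Perm.isCycle_of_prime_order''
    (α := α) (by rw [hα]; norm_num) (by rw [hσα, hα])
  have hsupp : (σ : Equiv.Perm α).support = Finset.univ :=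
    Finset.eq_univ_of_card _ (by rw [← hcyc.orderOf, hσα, hα])
  set P := Subgroup.zpowers σ with hP
  have hPcard : Nat.card P = 13 := by rw [hP, Nat.card_zpowers, hσ]
  have hfac : (Nat.card G).factorization 13 = 1 := by
    rw [hG, show 1235520 = 13 * 95040 by norm_num,
      Nat.factorization_mul (by norm_num) (by norm_num), Finsupp.add_apply,
      Nat.Prime.factorization_self (by norm_num), Nat.factorization_eq_zero_of_not_dvd (by norm_num)]
  let S : Sylow 13 G := Sylow.ofCard P (by rw [hPcard, hfac, pow_one])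
  have hn : Nat.card (Sylow 13 G) = (Subgroup.normalizer (P : Set G)).index := S.card_eq_index_normalizer
  have hmod := card_sylow_modEq_one 13 G
  -- the centraliser of `P` is `P`
  have hC : Subgroup.centralizer (P : Set G) ≤ P := by
    intro τ hτ
    obtain ⟨a⟩ : Nonempty α := Fintype.card_pos_iff.1 (by omega)
    have hmem : ∀ b, (σ : Equiv.Perm α) b ≠ b := fun b =>
      Equiv.Perm.mem_support.1 (hsupp ▸ Finset.mem_univ b)
    obtain ⟨i, hi⟩ := hcyc.exists_zpow_eq (hmem a) (hmem ((τ : Equiv.Perm α) a))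
    refine ⟨i, Subtype.ext (Equiv.ext fun b => ?_)⟩
    obtain ⟨j, rfl⟩ := hcyc.exists_zpow_eq (hmem a) (hmem b)
    have hc : σ ^ j * τ = τ * σ ^ j :=
      Subgroup.mem_centralizer_iff.1 hτ _ (Subgroup.zpow_mem _ (Subgroup.mem_zpowers σ) j)
    have hc' := Equiv.ext_iff.1 (congrArg Subtype.val hc) a
    simp only [Subgroup.coe_mul, SubgroupClass.coe_zpow, Equiv.Perm.mul_apply] at hc' ⊢
    rw [← hc', ← hi, ← Equiv.Perm.mul_apply, ← Equiv.Perm.mul_apply, ← zpow_add, ← zpow_add,
      add_comm]
  set N := Subgroup.normalizer (P : Set G) with hN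
  have hd1 : Nat.card N ∣ 13 * 12 := by
    let f := Subgroup.normalizerMonoidHom P
    have h1 := f.ker.card_mul_index
    rw [Subgroup.index_ker] at h1
    have h2 : Nat.card f.range ∣ Nat.card (MulAut P) := Subgroup.card_subgroup_dvd_card _
    rw [IsCyclic.card_mulAut, hPcard, Nat.totient_prime (by norm_num)] at h2
    have h3 : Nat.card f.ker ∣ Nat.card P := by
      rw [Subgroup.normalizerMonoidHom_ker,
        Nat.card_congr (Subgroup.subgroupOfEquivOfLe (Subgroup.centralizer_le_normalizer _)).toEquiv]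
      exact Subgroup.card_dvd_of_le hC
    rw [← h1]
    exact mul_dvd_mul (hPcard ▸ h3) h2
  have hd2 : 13 ∣ Nat.card N := hPcard ▸ Subgroup.card_dvd_of_le Subgroup.le_normalizer
  have hmul : Nat.card N * Nat.card (Sylow 13 G) = 1235520 := by
    rw [hn, N.card_mul_index, hG]
  obtain ⟨d, hd⟩ := hd2
  rw [hd] at hd1 hmul
  have hd12 : d ∣ 12 := Nat.dvd_of_mul_dvd_mul_left (by norm_num) hd1
  have hle : d ≤ 12 := Nat.le_of_dvd (by norm_num) hd12
  unfold Nat.ModEq at hmod
  interval_cases d <;> first | omega | (revert hd12; decide)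

variable {G}

theorem card_group {k : ℕ} (hk : IsMultiplyPretransitive G α k) (x : Fin k ↪ α) :
    Nat.card G = (Fintype.card α).descFactorial k * Nat.card (stabilizer G x) := by
  have : IsPretransitive G (Fin k ↪ α) := hk
  have hi : (stabilizer G x).index = Nat.card (Fin k ↪ α) :=
    @index_stabilizer_of_transitive G _ _ _ x this
  rw [← (stabilizer G x).card_mul_index, hi,
    Nat.card_eq_fintype_card (α := Fin k ↪ α), Fintype.card_embedding_eq, Fintype.card_fin,
    mul_comm]

theorem semi_case {k : ℕ} (hk4 : 4 ≤ k) (hkn : k < Fintype.card α)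
    (hk : IsMultiplyPretransitive G α k)
    (hsemi : ∀ g : G, g ≠ 1 → (fixS (Ω := α) g).card ≤ k) :
    ∃ e : Fin (k + 1) ↪ α, ∀ σ ∈ alternatingGroup (Fin (k + 1)),
      ∃ g : G, ∀ i, g • e i = e (σ i) := by
  classical
  set n := Fintype.card α with hn
  obtain ⟨x₀⟩ : Nonempty (Fin k ↪ α) :=
    Function.Embedding.nonempty_of_card_le (by rw [Fintype.card_fin]; omega)
  set κ := Nat.card (stabilizer G x₀) with hκ
  -- the four-transitive stabiliser of `k - 4` points
  set idx : Fin 4 ↪ Fin k := ⟨fun i => ⟨i, by omega⟩, fun i j h => Fin.ext (Fin.mk.inj h)⟩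
    with hidx
  set s : Finset α := ((Finset.univ.map idx)ᶜ).map x₀ with hs
  have hscard : s.card + 4 = k := by
    rw [hs, Finset.card_map, Finset.card_compl, Finset.card_map]
    simp only [Finset.card_univ, Fintype.card_fin]
    omega
  have hout : ∀ i, x₀ (idx i) ∉ (s : Set α) := fun i h => by
    rw [Finset.mem_coe, hs, Finset.mem_map' x₀, Finset.mem_compl] at h
    exact h (Finset.mem_map_of_mem _ (Finset.mem_univ i))
  let Y := SubMulAction.ofFixingSubgroup G (s : Set α)
  let H := fixingSubgroup G (s : Set α)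
  have htrY : IsMultiplyPretransitive H Y 4 :=
    SubMulAction.ofFixingSubgroup.isMultiplyPretransitive (Hn := hk) G (s : Set α)
      (by rw [Set.ncard_coe_finset]; omega)
  have : Fintype Y := Fintype.ofFinite _
  let y₀ : Fin 4 ↪ Y :=
    ⟨fun i => ⟨x₀ (idx i), hout i⟩, fun i j h => idx.injective (x₀.injective
      (congrArg Subtype.val h))⟩
  have hY : Fintype.card Y + s.card = n := by
    have e : Fintype.card Y = (sᶜ : Finset α).card := by
      rw [← Fintype.card_coe]
      exact Fintype.card_congr (Equiv.subtypeEquivRight fun a => by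
        rw [Finset.mem_compl]; exact Iff.rfl)
    rw [e, Finset.card_compl]
    have := Finset.card_le_univ s
    omega
  have hst : Nat.card (stabilizer H y₀) = κ := by
    rw [hκ]
    refine Nat.card_congr
      { toFun := fun h => ⟨(h : H).1, ?_⟩
        invFun := fun g => ⟨⟨g.1, ?_⟩, ?_⟩
        left_inv := fun h => rfl
        right_inv := fun g => rfl }
    · refine mem_stabilizer_iff.2 (Function.Embedding.ext fun i => ?_)
      change ((h : H) : G) • x₀ i = x₀ i
      by_cases hi : i ∈ Finset.univ.map idx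
      · simp only [Finset.mem_map, Finset.mem_univ, true_and] at hi
        obtain ⟨j, rfl⟩ := hi
        exact congrArg Subtype.val (Function.Embedding.ext_iff.1 (mem_stabilizer_iff.1 h.2) j)
      · exact (mem_fixingSubgroup_iff G).1 (h : H).2 _
          (Finset.mem_coe.2 (Finset.mem_map_of_mem _ (Finset.mem_compl.2 hi)))
    · refine (mem_fixingSubgroup_iff G).2 fun a ha => ?_
      rw [Finset.mem_coe, hs, Finset.mem_map] at ha
      obtain ⟨i, -, rfl⟩ := ha
      exact Function.Embedding.ext_iff.1 (mem_stabilizer_iff.1 g.2) i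
    · refine mem_stabilizer_iff.2 (Function.Embedding.ext fun i => Subtype.ext ?_)
      exact Function.Embedding.ext_iff.1 (mem_stabilizer_iff.1 g.2) (idx i)
  have hsemiY : ∀ h : H, h ≠ 1 → (fixS (Ω := Y) h).card ≤ 4 := by
    intro h hh
    have h1 := hsemi h.1 fun e => hh (Subtype.ext e)
    have h2 : ((fixS (Ω := Y) h).map (Function.Embedding.subtype _) ∪ s).card
        ≤ (fixS (Ω := α) h.1).card := Finset.card_le_card fun a ha => by
      rcases Finset.mem_union.1 ha with ha | ha
      · simp only [Finset.mem_map] at ha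
        obtain ⟨b, hb, rfl⟩ := ha
        exact mem_fixS.2 (congrArg Subtype.val (mem_fixS.1 hb))
      · exact mem_fixS.2 ((mem_fixingSubgroup_iff G).1 h.2 a ha)
    rw [Finset.card_union_of_disjoint, Finset.card_map] at h2
    · omega
    · rw [Finset.disjoint_left]
      intro a ha has
      simp only [Finset.mem_map] at ha
      obtain ⟨b, -, rfl⟩ := ha
      exact b.2 has
  have hfour := four_bound (G := H) (Ω := Y) htrY hsemiY y₀
  rw [hst] at hfour
  -- the orbits on `(k+1)`-tuples
  set E := (Fin (k + 1) ↪ α) with hE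
  have hfree : ∀ e : E, stabilizer G e = ⊥ := fun e => (Subgroup.eq_bot_iff_forall _).2
    fun g hg => by
      by_contra hg1
      have h1 := hsemi g hg1
      have h2 : (Finset.univ.map e).card ≤ (fixS (Ω := α) g).card :=
        Finset.card_le_card fun a ha => by
          simp only [Finset.mem_map, Finset.mem_univ, true_and] at ha
          obtain ⟨i, rfl⟩ := ha
          exact mem_fixS.2 (Function.Embedding.ext_iff.1 (mem_stabilizer_iff.1 hg) i)
      rw [Finset.card_map, Finset.card_univ, Fintype.card_fin] at h2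
      omega
  set X := orbitRel.Quotient G E with hX
  have : Finite X := Quotient.finite _
  set r := Nat.card X with hr
  have hrκ : r * κ = n - k := by
    have h1 := Nat.card_congr (selfEquivOrbitsQuotientProd hfree)
    rw [Nat.card_prod, Nat.card_eq_fintype_card (α := E), Fintype.card_embedding_eq,
      Fintype.card_fin, Nat.descFactorial_succ, card_group hk x₀] at h1
    refine Nat.eq_of_mul_eq_mul_right (Nat.descFactorial_pos.2 hkn.le) ?_
    rw [mul_assoc, mul_comm κ]
    exact h1.symm
  let perm : Equiv.Perm (Fin (k + 1)) → X → X := fun σ => Quotient.map'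
    (fun e : E => σ.symm.toEmbedding.trans e) (by
      rintro e e' ⟨g, rfl⟩
      exact ⟨g, Function.Embedding.ext fun i => rfl⟩)
  let _inst : MulAction (Equiv.Perm (Fin (k + 1))) X :=
    { smul := perm
      one_smul := fun q => Quotient.inductionOn' q fun e => congrArg Quotient.mk''
        (Function.Embedding.ext fun i => rfl)
      mul_smul := fun σ τ q => Quotient.inductionOn' q fun e => congrArg Quotient.mk''
        (Function.Embedding.ext fun i => rfl) }
  obtain ⟨c, hc⟩ : ∃ c : X, ∀ σ ∈ alternatingGroup (Fin (k + 1)), σ • c = c := by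
    have hκ1 : 0 < κ := Nat.card_pos
    rcases hfour with h | ⟨h11, hκ'⟩
    · have hr5 : r < 5 := by
        refine Nat.lt_of_mul_lt_mul_right (a := κ) ?_
        rw [hrκ]
        omega
      obtain ⟨e⟩ : Nonempty E :=
        Function.Embedding.nonempty_of_card_le (by rw [Fintype.card_fin]; omega)
      exact ⟨Quotient.mk'' e, fun σ hσ => alternating_smul_eq (by omega) (by omega) hσ _⟩
    · have hr7 : r = 7 := by rw [hκ', mul_one] at hrκ; omega
      rcases (show k = 4 ∨ k = 5 ∨ k = 6 ∨ 7 ≤ k by omega) with h | h | h | h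
      · exact exists_fix_seven (by omega) hr7
      · exact exists_fix_seven (by omega) hr7
      · exfalso
        subst h
        have hn13 : n = 13 := by omega
        refine not_thirteen G hn13 ?_
        rw [card_group hk x₀, ← hn, hn13, ← hκ, hκ']
        rfl
      · obtain ⟨e⟩ : Nonempty E :=
          Function.Embedding.nonempty_of_card_le (by rw [Fintype.card_fin]; omega)
        exact ⟨Quotient.mk'' e, fun σ hσ => alternating_smul_eq (by omega) (by omega) hσ _⟩
  obtain ⟨e, rfl⟩ := Quotient.exists_rep c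
  refine ⟨e, fun σ hσ => ?_⟩
  obtain ⟨g, hg⟩ := Quotient.eq''.1 (hc σ⁻¹ (inv_mem hσ))
  exact ⟨g, fun i => Function.Embedding.ext_iff.1 hg i⟩

end Semi

universe u

/-- The induction behind the theorem. -/
theorem exists_induced_aux (N : ℕ) : ∀ {α : Type u} [Fintype α] [DecidableEq α]
    (G : Subgroup (Equiv.Perm α)) {k : ℕ}, Fintype.card α = N → 4 ≤ k → k < Fintype.card α →
    IsMultiplyPretransitive G α k →
    ∃ e : Fin (k + 1) ↪ α, ∀ σ ∈ alternatingGroup (Fin (k + 1)),
      ∃ g ∈ G, ∀ i, g (e i) = e (σ i) := by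
  induction N using Nat.strong_induction_on with
  | _ N ih =>
    intro α _ _ G k hN hk4 hkn hk
    classical
    by_cases hsemi : ∀ g : G, g ≠ 1 → (fixS (Ω := α) g).card ≤ k
    · obtain ⟨e, he⟩ := semi_case hk4 hkn hk hsemi
      exact ⟨e, fun σ hσ => let ⟨g, hg⟩ := he σ hσ; ⟨g, g.2, hg⟩⟩
    push Not at hsemi
    obtain ⟨g, hg, hgk⟩ := hsemi
    obtain ⟨F, hF1, hF2, hF3⟩ := exists_smaller hk hg hgk
    let G' : Subgroup (Equiv.Perm F) :=
      { carrier := {τ | ∃ g ∈ G, ∀ a : F, g (a : α) = τ a}
        mul_mem' := fun {τ τ'} ⟨g, hg, hgτ⟩ ⟨g', hg', hgτ'⟩ => ⟨g * g', G.mul_mem hg hg',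
          fun a => by rw [Equiv.Perm.mul_apply, hgτ', hgτ, Equiv.Perm.mul_apply]⟩
        one_mem' := ⟨1, G.one_mem, fun a => rfl⟩
        inv_mem' := fun {τ} ⟨g, hg, hgτ⟩ => ⟨g⁻¹, G.inv_mem hg, fun a => by
          rw [Equiv.Perm.inv_def, Equiv.symm_apply_eq, hgτ, Equiv.Perm.inv_def,
            Equiv.apply_symm_apply]⟩ }
    have htr : IsMultiplyPretransitive G' F k := by
      refine ⟨fun x y => ?_⟩
      obtain ⟨h, hhF, hxy⟩ := hF3 (x.trans (Function.Embedding.subtype _))
        (y.trans (Function.Embedding.subtype _)) (fun i => (x i).2) (fun i => (y i).2)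
      have hinj : Function.Injective (fun a : F => (⟨h • (a : α), hhF a a.2⟩ : F)) :=
        fun a b e => Subtype.ext (MulAction.injective h (congrArg Subtype.val e))
      let τ : Equiv.Perm F := Equiv.ofBijective _ (Finite.injective_iff_bijective.1 hinj)
      refine ⟨⟨τ, h, h.2, fun a => rfl⟩, Function.Embedding.ext fun i => Subtype.ext ?_⟩
      exact Function.Embedding.ext_iff.1 hxy i
    obtain ⟨e, he⟩ := ih F.card (hN ▸ hF2) G' (Fintype.card_coe F) hk4
      (by rwa [Fintype.card_coe]) htr
    refine ⟨e.trans (Function.Embedding.subtype _), fun σ hσ => ?_⟩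
    obtain ⟨τ, ⟨g, hg, hgτ⟩, hτ⟩ := he σ hσ
    exact ⟨g, hg, fun i => (hgτ _).trans (congrArg Subtype.val (hτ i))⟩

/-- Some `(k+1)`-subset has all its even permutations induced by the group. -/
theorem exists_induced {α : Type u} [Fintype α] [DecidableEq α] (G : Subgroup (Equiv.Perm α))
    {k : ℕ} (hk4 : 4 ≤ k) (hkn : k < Fintype.card α) (hG : IsMultiplyPretransitive G α k) :
    ∃ Δ : Finset α, Δ.card = k + 1 ∧ ∀ σ : Equiv.Perm ↥Δ, σ ∈ alternatingGroup ↥Δ →
      ∃ g ∈ G, ∀ x : ↥Δ, g (x : α) = σ x := by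
  classical
  obtain ⟨e, he⟩ := exists_induced_aux _ G rfl hk4 hkn hG
  refine ⟨Finset.univ.map e, by simp, fun σ hσ => ?_⟩
  let j : Fin (k + 1) ≃ ↥(Finset.univ.map e) := Equiv.ofBijective
    (fun i => ⟨e i, Finset.mem_map_of_mem _ (Finset.mem_univ i)⟩)
    ⟨fun a b h => e.injective (congrArg Subtype.val h), fun x => by
      obtain ⟨i, -, hi⟩ := Finset.mem_map.1 x.2
      exact ⟨i, Subtype.ext hi⟩⟩
  obtain ⟨g, hg, hgi⟩ := he (j.symm.permCongr σ) (by
    rw [Equiv.Perm.mem_alternatingGroup, Equiv.Perm.sign_permCongr]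
    exact Equiv.Perm.mem_alternatingGroup.1 hσ)
  refine ⟨g, hg, fun x => ?_⟩
  obtain ⟨i, rfl⟩ := j.surjective x
  refine (hgi i).trans ?_
  rw [Equiv.permCongr_apply, Equiv.symm_symm]
  exact congrArg Subtype.val (j.apply_symm_apply (σ (j i)))

end Cfsg.Agent.PermB.InducedAlt
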