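import Mathlib

/-!
Counting involutions in a 4-transitive group in which every non-identity element fixes at most
four points.
-/

set_option autoImplicit false

namespace Cfsg.Agent.PermB.InducedAlt

open Finset

variable (G : Type*) {Ω : Type*} [Group G] [Fintype G] [MulAction G Ω]
  [Fintype Ω] [DecidableEq Ω]

/-- The fixed points of an element. -/
def fixS {G : Type*} [Group G] [MulAction G Ω] (g : G) : Finset Ω :=
  univ.filter fun a => g • a = a

/-- `g` acts on the tuple `x` by the permutation `π` of the indices. -/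
def Pat {G : Type*} [Group G] [MulAction G Ω] (π : Equiv.Perm (Fin 4)) (g : G) (x : Fin 4 ↪ Ω) :
    Prop :=
  ∀ i, g • x i = x (π i)

/-- A transposition pattern. -/
abbrev π₁ : Equiv.Perm (Fin 4) := Equiv.swap 0 1

/-- A double transposition pattern. -/
abbrev π₂ : Equiv.Perm (Fin 4) := Equiv.swap 0 1 * Equiv.swap 2 3

variable {G}

theorem mem_fixS {g : G} {a : Ω} : a ∈ fixS g ↔ g • a = a := by simp [fixS]

theorem card_fixS_conj (g h : G) : (fixS (Ω := Ω) (h * g * h⁻¹)).card = (fixS (Ω := Ω) g).card := by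
  refine card_bij' (fun a _ => h⁻¹ • a) (fun a _ => h • a) (fun a ha => ?_) (fun a ha => ?_)
    (fun a _ => smul_inv_smul h a) (fun a _ => inv_smul_smul h a)
  · rw [mem_fixS] at ha ⊢
    rw [mul_smul, mul_smul] at ha
    exact eq_inv_smul_iff.2 ha
  · rw [mem_fixS] at ha ⊢
    rw [mul_smul, mul_smul, inv_smul_smul, ha]

theorem pat_conj {π : Equiv.Perm (Fin 4)} {g : G} {x : Fin 4 ↪ Ω} (h : G) (hp : Pat π g x) :
    Pat π (h * g * h⁻¹) (h • x) := fun i => by
  rw [Function.Embedding.smul_apply, mul_smul, mul_smul, inv_smul_smul, hp i,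
    Function.Embedding.smul_apply]

theorem exists_pat (h4 : MulAction.IsMultiplyPretransitive G Ω 4) (π : Equiv.Perm (Fin 4))
    (x : Fin 4 ↪ Ω) : ∃ g : G, Pat π g x := by
  obtain ⟨g, hg⟩ := MulAction.exists_smul_eq G x (π.toEmbedding.trans x)
  exact ⟨g, fun i => by rw [← Function.Embedding.smul_apply, hg]; rfl⟩

theorem pat_inv_mul {π : Equiv.Perm (Fin 4)} {g g' : G} {x : Fin 4 ↪ Ω} (hp : Pat π g x)
    (hp' : Pat π g' x) : g⁻¹ * g' ∈ MulAction.stabilizer G x := by
  rw [MulAction.mem_stabilizer_iff]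
  ext i
  rw [Function.Embedding.smul_apply, mul_smul, hp' i, ← hp i, inv_smul_smul]

theorem pat_pow {π : Equiv.Perm (Fin 4)} {g : G} {x : Fin 4 ↪ Ω} (hp : Pat π g x) :
    ∀ m : ℕ, Pat (π ^ m) (g ^ m) x
  | 0 => fun i => by simp
  | m + 1 => fun i => by
    rw [pow_succ', mul_smul, pat_pow hp m i, hp, pow_succ', Equiv.Perm.mul_apply]

theorem card_stabilizer_tuple (h4 : MulAction.IsMultiplyPretransitive G Ω 4)
    (x y : Fin 4 ↪ Ω) :
    Nat.card (MulAction.stabilizer G y) = Nat.card (MulAction.stabilizer G x) := by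
  obtain ⟨g, rfl⟩ := MulAction.exists_smul_eq G x y
  exact (Nat.card_congr (MulAction.stabilizerEquivStabilizer (g := g) (a := x) rfl).toEquiv).symm

variable [DecidableEq G]

open scoped Classical in
/-- The number of elements of a set acting on `x` by a given pattern is at most the order of the
stabiliser of `x`. -/
theorem card_pat_le (π : Equiv.Perm (Fin 4)) (x : Fin 4 ↪ Ω) (T : Finset G) :
    (T.filter fun g => Pat π g x).card ≤ Nat.card (MulAction.stabilizer G x) := by
  rcases (T.filter fun g => Pat π g x).eq_empty_or_nonempty with h | ⟨g₀, hg₀⟩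
  · rw [h]; simp
  rw [mem_filter] at hg₀
  rw [Nat.card_eq_fintype_card, ← card_univ]
  refine card_le_card_of_injOn (fun g => if h : Pat π g x then
    (⟨g₀⁻¹ * g, pat_inv_mul hg₀.2 h⟩ : MulAction.stabilizer G x) else 1) (fun g _ => mem_univ _) ?_
  intro g hg g' hg' h
  simp only [coe_filter, Set.mem_setOf_eq] at hg hg'
  simp only [hg.2, hg'.2, dif_pos, Subtype.mk.injEq, mul_right_inj] at h
  exact h

section Odd

variable (h4 : MulAction.IsMultiplyPretransitive G Ω 4) {π : Equiv.Perm (Fin 4)}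
  (hπ : π * π = 1)

include h4 hπ

omit [DecidableEq G] in
theorem exists_inv_pat {x : Fin 4 ↪ Ω} (hodd : Odd (Nat.card (MulAction.stabilizer G x))) :
    ∃ g : G, g * g = 1 ∧ Pat π g x := by
  obtain ⟨g, hg⟩ := exists_pat h4 π x
  have hgg : g * g ∈ MulAction.stabilizer G x := by
    rw [MulAction.mem_stabilizer_iff]
    ext i
    rw [Function.Embedding.smul_apply, mul_smul, hg i, hg (π i), ← Equiv.Perm.mul_apply, hπ]
    rfl
  have h1 := congrArg Subtype.val
    (pow_card_eq_one' (x := (⟨g * g, hgg⟩ : MulAction.stabilizer G x)))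
  obtain ⟨m, hm⟩ := hodd
  refine ⟨g ^ Nat.card (MulAction.stabilizer G x), ?_, fun i => ?_⟩
  · rw [← (Commute.refl g).mul_pow]
    simpa using h1
  · rw [pat_pow hg _ i, hm, pow_succ, pow_mul, pow_two, hπ, one_pow, one_mul]

omit [DecidableEq G] hπ in
theorem card_fixS_eq {x y : Fin 4 ↪ Ω} (hodd : Odd (Nat.card (MulAction.stabilizer G x)))
    {g g' : G} (hg : g * g = 1) (hp : Pat π g x) (hg' : g' * g' = 1) (hp' : Pat π g' y) :
    (fixS (Ω := Ω) g').card = (fixS (Ω := Ω) g).card := by
  obtain ⟨h, rfl⟩ := MulAction.exists_smul_eq G y x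
  set g'' := h * g' * h⁻¹ with hg''
  have hi : g'' * g'' = 1 := by
    rw [hg'', show h * g' * h⁻¹ * (h * g' * h⁻¹) = h * (g' * g') * h⁻¹ by group, hg', mul_one,
      mul_inv_cancel]
  rw [← card_fixS_conj (Ω := Ω) g' h]
  set w := g * g'' with hw
  have hgi : g⁻¹ = g := inv_eq_of_mul_eq_one_left hg
  have hwK : w ∈ MulAction.stabilizer G (h • y) := by
    rw [hw, ← hgi]
    exact pat_inv_mul hp (pat_conj h hp')
  have hgw : g * w * g⁻¹ = w⁻¹ := by
    rw [hw, mul_inv_rev, hgi, ← mul_assoc, hg, one_mul, inv_eq_of_mul_eq_one_left hi]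
  obtain ⟨m, hm⟩ := hodd
  have hwc : w ^ (2 * m + 1) = 1 := by
    have := congrArg Subtype.val
      (pow_card_eq_one' (x := (⟨w, hwK⟩ : MulAction.stabilizer G (h • y))))
    rw [hm] at this
    simpa using this
  set z := w ^ (m + 1) with hz
  have hzz : z * z = w := by
    rw [hz, ← pow_add, show m + 1 + (m + 1) = 2 * m + 1 + 1 by omega, pow_succ, hwc, one_mul]
  have hgz : g * z * g⁻¹ = z⁻¹ := by
    rw [hz, ← conj_pow, hgw, inv_pow]
  have : g'' = z⁻¹ * g * z⁻¹⁻¹ := by
    rw [inv_inv, ← hgz, hgi]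
    rw [show g * z * g * g * z = g * (z * (g * g) * z) by group, hg, mul_one, hzz, hw,
      ← mul_assoc, hg, one_mul]
  rw [← hg'', this, card_fixS_conj]

end Odd

omit [DecidableEq G] in
theorem card_pattern_one (g : G) (hg : g * g = 1) [DecidablePred (Pat π₁ g (Ω := Ω))] :
    (univ.filter fun x : Fin 4 ↪ Ω => Pat π₁ g x).card =
      (Fintype.card Ω - (fixS (Ω := Ω) g).card) *
        ((fixS (Ω := Ω) g).card * (fixS (Ω := Ω) g).card - (fixS (Ω := Ω) g).card) := by
  rw [← card_compl, ← offDiag_card, ← card_product]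
  have hgg : ∀ a : Ω, g • g • a = a := fun a => by rw [← mul_smul, hg, one_smul]
  have p0 : π₁ 0 = 1 := by decide
  have p2 : π₁ 2 = 2 := by decide
  have p3 : π₁ 3 = 3 := by decide
  refine card_bij (fun x _ => (x 0, x 2, x 3)) (fun x hx => ?_) (fun x hx y hy h => ?_)
    fun p hp => ?_
  · rw [mem_filter] at hx
    have e0 := hx.2 0; rw [p0] at e0
    have e2 := hx.2 2; rw [p2] at e2
    have e3 := hx.2 3; rw [p3] at e3
    simp only [mem_product, mem_compl, mem_offDiag, mem_fixS, e0, e2, e3,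
      ne_eq, x.injective.eq_iff]
    decide
  · rw [mem_filter] at hx hy
    have ex := hx.2 0; rw [p0] at ex
    have ey := hy.2 0; rw [p0] at ey
    simp only [Prod.mk.injEq] at h
    ext i
    fin_cases i
    · exact h.1
    · exact ex.symm.trans ((congrArg (g • ·) h.1).trans ey)
    · exact h.2.1
    · exact h.2.2
  · obtain ⟨a, c, d⟩ := p
    simp only [mem_product, mem_compl, mem_offDiag, mem_fixS] at hp
    obtain ⟨ha, hc, hd, hcd⟩ := hp
    have h1 : g • a ≠ c := fun h => ha (by
      have := hgg a; rw [h, hc] at this; rw [h, this])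
    have h2 : g • a ≠ d := fun h => ha (by
      have := hgg a; rw [h, hd] at this; rw [h, this])
    have h3 : a ≠ c := fun h => ha (h ▸ hc)
    have h4 : a ≠ d := fun h => ha (h ▸ hd)
    have hinj : Function.Injective ![a, g • a, c, d] := by
      intro i j hij
      fin_cases i <;> fin_cases j <;> simp at hij ⊢ <;> grind
    refine ⟨⟨_, hinj⟩, mem_filter.2 ⟨mem_univ _, fun i => ?_⟩, rfl⟩
    fin_cases i
    · rfl
    · exact hgg a
    · exact hc
    · exact hd

omit [DecidableEq G] in
theorem card_pattern_two (g : G) (hg : g * g = 1) [DecidablePred (Pat π₂ g (Ω := Ω))] :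
    (univ.filter fun x : Fin 4 ↪ Ω => Pat π₂ g x).card =
      (Fintype.card Ω - (fixS (Ω := Ω) g).card) *
        (Fintype.card Ω - (fixS (Ω := Ω) g).card - 2) := by
  set M := (fixS (Ω := Ω) g)ᶜ with hM
  have hgg : ∀ a : Ω, g • g • a = a := fun a => by rw [← mul_smul, hg, one_smul]
  have hMg : ∀ a ∈ M, g • a ∈ M := fun a ha => by
    rw [hM, mem_compl, mem_fixS] at ha ⊢
    exact fun h => ha ((MulAction.injective g h))
  have hcard : (M.sigma fun a => M \ {a, g • a}).card = M.card * (M.card - 2) := by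
    rw [card_sigma, sum_const_nat fun a ha => ?_]
    rw [card_sdiff_of_subset (insert_subset ha (singleton_subset_iff.2 (hMg a ha))),
      card_pair (fun h => ?_)]
    rw [hM, mem_compl, mem_fixS] at ha
    exact ha h.symm
  rw [← card_compl, ← hM, ← hcard]
  have p0 : π₂ 0 = 1 := by decide
  have p2 : π₂ 2 = 3 := by decide
  refine card_bij (fun x _ => (⟨x 0, x 2⟩ : Σ _ : Ω, Ω)) (fun x hx => ?_) (fun x hx y hy h => ?_)
    fun p hp => ?_
  · rw [mem_filter] at hx
    have e0 := hx.2 0; rw [p0] at e0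
    have e2 := hx.2 2; rw [p2] at e2
    simp only [mem_sigma, mem_sdiff, hM, mem_compl, mem_fixS, mem_insert, mem_singleton, e0, e2,
      x.injective.eq_iff]
    decide
  · rw [mem_filter] at hx hy
    have ex := hx.2 0; rw [p0] at ex
    have ey := hy.2 0; rw [p0] at ey
    have ex' := hx.2 2; rw [p2] at ex'
    have ey' := hy.2 2; rw [p2] at ey'
    simp only [Sigma.mk.injEq, heq_eq_eq] at h
    ext i
    fin_cases i
    · exact h.1
    · exact ex.symm.trans ((congrArg (g • ·) h.1).trans ey)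
    · exact h.2
    · exact ex'.symm.trans ((congrArg (g • ·) h.2).trans ey')
  · obtain ⟨a, c⟩ := p
    simp only [mem_sigma, mem_sdiff, hM, mem_compl, mem_fixS, mem_insert, mem_singleton,
      not_or] at hp
    obtain ⟨ha, hc, hca, hcga⟩ := hp
    have h1 : g • c ≠ a := fun h => hcga (by rw [← h, hgg])
    have h2 : g • c ≠ g • a := fun h => hca (MulAction.injective g h)
    have hinj : Function.Injective ![a, g • a, c, g • c] := by
      intro i j hij
      fin_cases i <;> fin_cases j <;> simp at hij ⊢ <;> grind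
    refine ⟨⟨_, hinj⟩, mem_filter.2 ⟨mem_univ _, fun i => ?_⟩, rfl⟩
    fin_cases i
    · rfl
    · exact hgg a
    · rfl
    · exact hgg c

omit [DecidableEq G] in
theorem card_pattern_fix (g : G) [DecidablePred (Pat 1 g (Ω := Ω))] :
    (univ.filter fun x : Fin 4 ↪ Ω => Pat 1 g x).card =
      (fixS (Ω := Ω) g).card.descFactorial 4 := by
  classical
  rw [← Fintype.card_subtype]
  let e : {x : Fin 4 ↪ Ω // Pat 1 g x} ≃ (Fin 4 ↪ fixS (Ω := Ω) g) :=
    { toFun := fun x => ⟨fun i => ⟨x.1 i, mem_fixS.2 (x.2 i)⟩,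
        fun i j h => x.1.injective (congrArg Subtype.val h)⟩
      invFun := fun y => ⟨y.trans (Function.Embedding.subtype _), fun i => mem_fixS.1 (y i).2⟩
      left_inv := fun x => rfl
      right_inv := fun y => rfl }
  rw [Fintype.card_congr e, Fintype.card_embedding_eq, Fintype.card_fin, Fintype.card_coe]

end Cfsg.Agent.PermB.InducedAlt
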