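import Cfsg.Agent.PermB.InducedAltCount

/-!
A 4-transitive group in which every non-identity element fixes at most four points is small.
-/

set_option autoImplicit false

namespace Cfsg.Agent.PermB.InducedAlt

open Finset

variable {G Ω : Type*} [Group G] [MulAction G Ω] [Finite G] [Fintype Ω]

theorem four_bound [DecidableEq Ω] (h4 : MulAction.IsMultiplyPretransitive G Ω 4)
    (hsemi : ∀ g : G, g ≠ 1 → (fixS (Ω := Ω) g).card ≤ 4) (x₀ : Fin 4 ↪ Ω) :
    Fintype.card Ω - 4 < 5 * Nat.card (MulAction.stabilizer G x₀) ∨
      (Fintype.card Ω = 11 ∧ Nat.card (MulAction.stabilizer G x₀) = 1) := by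
  classical
  have := Fintype.ofFinite G
  set n := Fintype.card Ω with hn
  set κ := Nat.card (MulAction.stabilizer G x₀) with hκ
  have hκ1 : 0 < κ := Nat.card_pos
  have hK : ∀ x : Fin 4 ↪ Ω, Nat.card (MulAction.stabilizer G x) = κ := fun x =>
    card_stabilizer_tuple h4 x₀ x
  have hE : (univ : Finset (Fin 4 ↪ Ω)).card = n.descFactorial 4 := by
    rw [card_univ, Fintype.card_embedding_eq, Fintype.card_fin]
  have hn4 : 4 ≤ n := by simpa using Fintype.card_le_of_embedding x₀
  have hEpos : 0 < n.descFactorial 4 := Nat.descFactorial_pos.2 hn4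
  -- double counting over a set of involutions
  have up : ∀ (π : Equiv.Perm (Fin 4)) (T : Finset G),
      ∑ g ∈ T, (univ.filter fun x : Fin 4 ↪ Ω => Pat π g x).card ≤ n.descFactorial 4 * κ := by
    intro π T
    have e := sum_card_bipartiteAbove_eq_sum_card_bipartiteBelow (s := T)
      (t := (univ : Finset (Fin 4 ↪ Ω))) (fun g x => Pat π g x)
    simp only [bipartiteAbove, bipartiteBelow] at e
    rw [e, ← hE, ← smul_eq_mul]
    exact sum_le_card_nsmul _ _ _ fun x _ => (card_pat_le π x T).trans (hK x).le
  have low : ∀ (π : Equiv.Perm (Fin 4)) (T : Finset G) (a : ℕ),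
      (∀ x : Fin 4 ↪ Ω, a ≤ (T.filter fun g => Pat π g x).card) →
        n.descFactorial 4 * a ≤ ∑ g ∈ T, (univ.filter fun x : Fin 4 ↪ Ω => Pat π g x).card := by
    intro π T a h
    have e := sum_card_bipartiteAbove_eq_sum_card_bipartiteBelow (s := T)
      (t := (univ : Finset (Fin 4 ↪ Ω))) (fun g x => Pat π g x)
    simp only [bipartiteAbove, bipartiteBelow] at e
    rw [e, ← hE, ← smul_eq_mul]
    exact card_nsmul_le_sum _ _ _ fun x _ => h x
  rcases Nat.even_or_odd κ with heven | hodd
  · -- an involution of the stabiliser fixes exactly four points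
    left
    have := Fact.mk Nat.prime_two
    set T := univ.filter fun g : G => g * g = 1 ∧ (fixS (Ω := Ω) g).card = 4 with hT
    have hT1 : ∀ x : Fin 4 ↪ Ω, 1 ≤ (T.filter fun g => Pat 1 g x).card := by
      intro x
      obtain ⟨z, hz⟩ := exists_prime_orderOf_dvd_card'
        (G := MulAction.stabilizer G x) 2 (by rw [hK x]; exact even_iff_two_dvd.1 heven)
      have hz1 : (z : G) ≠ 1 := fun h => by
        rw [show z = 1 from Subtype.ext h, orderOf_one] at hz
        exact absurd hz (by norm_num)
      have hzp : Pat 1 (z : G) x := fun i => by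
        rw [← Function.Embedding.smul_apply, MulAction.mem_stabilizer_iff.1 z.2]; rfl
      refine card_pos.2 ⟨z, mem_filter.2 ⟨mem_filter.2 ⟨mem_univ _, ?_, ?_⟩, hzp⟩⟩
      · have := congrArg Subtype.val (pow_orderOf_eq_one z)
        simpa [hz, pow_two] using this
      · refine le_antisymm (hsemi _ hz1) ?_
        calc 4 = ((univ : Finset (Fin 4)).map x).card := by simp
          _ ≤ _ := card_le_card fun a ha => by
            simp only [mem_map, mem_univ, true_and] at ha
            obtain ⟨i, rfl⟩ := ha
            exact mem_fixS.2 (hzp i)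
    have s1 : n.descFactorial 4 ≤ T.card * 24 := by
      have := low 1 T 1 hT1
      rw [mul_one, sum_const_nat (m := 24) fun g hg => by
        rw [card_pattern_fix, (mem_filter.1 hg).2.2]; rfl] at this
      exact this
    have s2 : T.card * ((n - 4) * 12) ≤ n.descFactorial 4 * κ := by
      have := up π₁ T
      rwa [sum_const_nat (m := (n - 4) * 12) fun g hg => by
        rw [card_pattern_one g (mem_filter.1 hg).2.1, (mem_filter.1 hg).2.2]] at this
    have : T.card * ((n - 4) * 12) ≤ T.card * (κ * 24) := s2.trans
      (le_trans (Nat.mul_le_mul_right κ s1) (by ring_nf; exact le_refl _))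
    have hTpos : 0 < T.card := by
      rcases Nat.eq_zero_or_pos T.card with h | h
      · rw [h] at s1; omega
      · exact h
    have := Nat.le_of_mul_le_mul_left this hTpos
    omega
  · -- the stabiliser has odd order
    have hπ₁ : π₁ * π₁ = 1 := by decide
    have hπ₂ : π₂ * π₂ = 1 := by decide
    obtain ⟨u, hu, hup⟩ := exists_inv_pat h4 hπ₁ (x := x₀) hodd
    set f := (fixS (Ω := Ω) u).card with hf
    set T := univ.filter fun g : G => g * g = 1 ∧ (fixS (Ω := Ω) g).card = f with hT
    have hmem : ∀ (g : G) (x : Fin 4 ↪ Ω), g * g = 1 → Pat π₁ g x → g ∈ T := fun g x hg hp =>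
      mem_filter.2 ⟨mem_univ _, hg, card_fixS_eq h4 hodd hu hup hg hp⟩
    have hu1 : u ≠ 1 := by
      rintro rfl
      have := hup 0
      rw [one_smul, x₀.injective.eq_iff] at this
      revert this
      decide
    have hf4 : f ≤ 4 := hsemi u hu1
    have hf2 : 2 ≤ f := by
      calc 2 = (({2, 3} : Finset (Fin 4)).map x₀).card := by rfl
        _ ≤ _ := card_le_card fun a ha => by
          simp only [mem_map, mem_insert, mem_singleton] at ha
          obtain ⟨i, hi, rfl⟩ := ha
          rcases hi with rfl | rfl <;>
            exact mem_fixS.2 ((hup _).trans (congrArg x₀ (by decide)))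
    have hfn : f ≤ n := card_le_univ _
    have sA : ∑ g ∈ T, (univ.filter fun x : Fin 4 ↪ Ω => Pat π₁ g x).card
        = T.card * ((n - f) * (f * f - f)) := sum_const_nat fun g hg => by
      rw [card_pattern_one g (mem_filter.1 hg).2.1, (mem_filter.1 hg).2.2]
    have sB : ∑ g ∈ T, (univ.filter fun x : Fin 4 ↪ Ω => Pat π₂ g x).card
        = T.card * ((n - f) * (n - f - 2)) := sum_const_nat fun g hg => by
      rw [card_pattern_two g (mem_filter.1 hg).2.1, (mem_filter.1 hg).2.2]
    have hA1 : n.descFactorial 4 ≤ T.card * ((n - f) * (f * f - f)) := by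
      rw [← sA, ← mul_one (n.descFactorial 4)]
      refine low π₁ T 1 fun x => ?_
      obtain ⟨g, hg, hp⟩ := exists_inv_pat h4 hπ₁ (x := x) (by rwa [hK x])
      exact card_pos.2 ⟨g, mem_filter.2 ⟨hmem g x hg hp, hp⟩⟩
    have hB : T.card * ((n - f) * (n - f - 2)) ≤ n.descFactorial 4 * κ := sB ▸ up π₂ T
    have hTpos : 0 < T.card := card_pos.2 ⟨u, hmem u x₀ hu hup⟩
    by_cases hf2' : f = 2
    · left
      have : T.card * ((n - f) * (n - f - 2)) ≤ T.card * ((n - f) * (2 * κ)) :=
        hB.trans ((Nat.mul_le_mul_right κ hA1).trans (by rw [hf2']; ring_nf; exact le_refl _))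
      have h' := Nat.le_of_mul_le_mul_left this hTpos
      rcases Nat.eq_zero_or_pos (n - f) with h0 | h0
      · omega
      · have := Nat.le_of_mul_le_mul_left h' h0
        omega
    -- the involution centralises no non-trivial element of the stabiliser
    have hA : ∀ x : Fin 4 ↪ Ω, κ ≤ (T.filter fun g => Pat π₁ g x).card := by
      intro x
      obtain ⟨g, hg, hp⟩ := exists_inv_pat h4 hπ₁ (x := x) (by rwa [hK x])
      have hgT := hmem g x hg hp
      have hgf : (fixS (Ω := Ω) g).card = f := (mem_filter.1 hgT).2.2
      rw [← hK x, Nat.card_eq_fintype_card, ← card_univ]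
      have hfix : ∀ z : MulAction.stabilizer G x, ∀ i, (z : G) • x i = x i := fun z i => by
        rw [← Function.Embedding.smul_apply, MulAction.mem_stabilizer_iff.1 z.2]
      refine card_le_card_of_injOn (fun z : MulAction.stabilizer G x => (z : G) * g * (z : G)⁻¹)
        (fun z _ => ?_) ?_
      · have hzp : Pat π₁ ((z : G) * g * (z : G)⁻¹) x := by
          have := pat_conj (z : G) hp
          rwa [MulAction.mem_stabilizer_iff.1 z.2] at this
        refine mem_filter.2 ⟨hmem _ x ?_ hzp, hzp⟩
        rw [show (z : G) * g * (z : G)⁻¹ * ((z : G) * g * (z : G)⁻¹) = z * (g * g) * (z : G)⁻¹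
          by group, hg, mul_one, mul_inv_cancel]
      intro z _ z' _ h
      dsimp only at h
      set w : MulAction.stabilizer G x := z⁻¹ * z' with hw
      have hwg : g * (w : G) = w * g := by
        rw [hw, Subgroup.coe_mul, Subgroup.coe_inv]
        calc g * ((z : G)⁻¹ * z') = (z : G)⁻¹ * ((z : G) * g * (z : G)⁻¹) * z' := by group
          _ = (z : G)⁻¹ * ((z' : G) * g * (z' : G)⁻¹) * z' := by rw [h]
          _ = _ := by group
      suffices w = 1 from (inv_mul_eq_one.1 (hw.symm.trans this))
      -- the other fixed points of `g`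
      set S := fixS (Ω := Ω) g \ ({2, 3} : Finset (Fin 4)).map x with hS
      have hsub : ({2, 3} : Finset (Fin 4)).map x ⊆ fixS g := fun a ha => by
        simp only [mem_map, mem_insert, mem_singleton] at ha
        obtain ⟨i, hi, rfl⟩ := ha
        rcases hi with rfl | rfl <;> exact mem_fixS.2 ((hp _).trans (congrArg x (by decide)))
      have hScard : S.card = f - 2 := by
        rw [hS, card_sdiff_of_subset hsub, hgf, card_map]; rfl
      have hinv : ∀ v : MulAction.stabilizer G x, g * (v : G) = v * g →
          ∀ a ∈ S, (v : G) • a ∈ S := by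
        intro v hv a ha
        simp only [hS, mem_sdiff, mem_fixS, mem_map, mem_insert, mem_singleton] at ha ⊢
        refine ⟨by rw [← mul_smul, hv, mul_smul, ha.1], fun ⟨i, hi, hia⟩ => ha.2 ⟨i, hi, ?_⟩⟩
        refine MulAction.injective (v : G) ?_
        change (v : G) • x i = (v : G) • a
        rw [hfix v i, hia]
      obtain ⟨a, ha⟩ := card_pos.1 (show 0 < S.card by omega)
      have hw2 : (w : G) • (w : G) • a = a := by
        have h1 := hinv w hwg a ha
        have h2 := hinv w hwg _ h1
        by_contra hne
        have hne1 : (w : G) • a ≠ a := fun h => hne (by rw [h, h])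
        have : ({a, (w : G) • a, (w : G) • (w : G) • a} : Finset Ω).card ≤ S.card :=
          card_le_card (by simp [insert_subset_iff, ha, h1, h2])
        rw [card_eq_three.2 ⟨_, _, _, Ne.symm hne1, Ne.symm hne,
          fun h => hne1 (MulAction.injective (w : G) h).symm, rfl⟩] at this
        omega
      have hww : w * w = 1 := by
        by_contra hne
        have hne' : ((w * w : MulAction.stabilizer G x) : G) ≠ 1 := fun h => hne (Subtype.ext h)
        have h5 : 5 ≤ (fixS (Ω := Ω) ((w * w : MulAction.stabilizer G x) : G)).card := by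
          calc 5 = (insert a ((univ : Finset (Fin 4)).map x)).card := by
                rw [card_insert_of_notMem, card_map, card_univ, Fintype.card_fin]
                simp only [mem_map, mem_univ, true_and, not_exists]
                intro i hia
                simp only [hS, mem_sdiff, mem_fixS, mem_map, mem_insert, mem_singleton] at ha
                have hgi : g • x i = x i := by rw [hia]; exact ha.1
                rw [hp i, x.injective.eq_iff] at hgi
                refine ha.2 ⟨i, ?_, hia⟩
                revert hgi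
                clear hia
                revert i
                decide
            _ ≤ _ := card_le_card fun c hc => by
                rw [mem_fixS, Subgroup.coe_mul, mul_smul]
                rcases mem_insert.1 hc with rfl | hc
                · exact hw2
                · simp only [mem_map, mem_univ, true_and] at hc
                  obtain ⟨i, rfl⟩ := hc
                  rw [hfix w i, hfix w i]
        have := hsemi _ hne'
        omega
      refine orderOf_eq_one_iff.1 (Nat.eq_one_of_dvd_coprimes ?_ (orderOf_dvd_natCard w)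
        (orderOf_dvd_of_pow_eq_one ((pow_two w).trans hww)))
      rw [hK x]
      exact Nat.coprime_two_right.2 hodd
    have hA' : T.card * ((n - f) * (f * f - f)) = n.descFactorial 4 * κ :=
      le_antisymm (sA ▸ up π₁ T) (sA ▸ low π₁ T κ hA)
    have hle : n - f - 2 ≤ f * f - f := by
      rcases Nat.eq_zero_or_pos (n - f) with h0 | h0
      · omega
      exact Nat.le_of_mul_le_mul_left
        (Nat.le_of_mul_le_mul_left (hA'.symm ▸ hB) hTpos) h0
    have hff : f = 3 ∨ f = 4 := by omega
    rcases Nat.lt_or_ge (n - 4) (5 * κ) with hsmall | hbig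
    · exact Or.inl hsmall
    -- here the stabiliser is trivial
    have hκ : κ = 1 := by
      obtain ⟨m, hm⟩ := hodd
      rcases hff with h | h <;> rw [h] at hle <;> norm_num at hle <;> omega
    obtain ⟨v, hv, hvp⟩ := exists_inv_pat h4 hπ₂ (x := x₀) hodd
    obtain ⟨y, hy⟩ : ∃ y : Fin 4 ↪ Ω, Pat π₂ u y := by
      have hpos : 0 < (univ.filter fun x : Fin 4 ↪ Ω => Pat π₂ u x).card := by
        rw [card_pattern_two u hu, ← hn, ← hf]
        exact Nat.mul_pos (by omega) (by omega)
      obtain ⟨y, hy⟩ := card_pos.1 hpos
      exact ⟨y, (mem_filter.1 hy).2⟩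
    have hB1 : n.descFactorial 4 ≤ T.card * ((n - f) * (n - f - 2)) := by
      rw [← sB, ← mul_one (n.descFactorial 4)]
      refine low π₂ T 1 fun x => ?_
      obtain ⟨g, hg, hp⟩ := exists_inv_pat h4 hπ₂ (x := x) (by rwa [hK x])
      refine card_pos.2 ⟨g, mem_filter.2 ⟨mem_filter.2 ⟨mem_univ _, hg, ?_⟩, hp⟩⟩
      exact card_fixS_eq h4 (by rwa [hK y]) hu hy hg hp
    rw [hκ, mul_one] at hA'
    have hge : f * f - f ≤ n - f - 2 := by
      refine Nat.le_of_mul_le_mul_left (Nat.le_of_mul_le_mul_left (hA' ▸ hB1) hTpos) ?_
      omega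
    rcases hff with h | h
    · rw [h] at hle hge; norm_num at hle hge
      exact Or.inr ⟨by omega, hκ⟩
    · exfalso
      rw [h] at hle hge; norm_num at hle hge
      have hn18 : n = 18 := by omega
      rw [h, hn18] at hA'
      norm_num [Nat.descFactorial] at hA'
      omega

end Cfsg.Agent.PermB.InducedAlt
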