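import Cfsg.Prelude.Def_Perm
import Cfsg.Agent.S0735
import Cfsg.Agent.Huppert69.Main
import Cfsg.Agent.Lib.Solvable.Basic

/-!
Kantor: a 2-homogeneous group that is not 2-transitive is one-dimensional semiaffine, given that
it is solvable (it has odd order).
-/

set_option autoImplicit false

namespace Cfsg.Agent.PermB.KantorHomog

open MulAction
open scoped Pointwise

variable {α : Type*} [Fintype α] [DecidableEq α] (G : Subgroup (Equiv.Perm α))

/-- Two pairs are related in one of the two possible ways. -/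
theorem pair_cases (h2 : IsPretransitive G (Set.powersetCard α 2)) {a b c d : α} (hab : a ≠ b)
    (hcd : c ≠ d) : ∃ g : G, (g • a = c ∧ g • b = d) ∨ (g • a = d ∧ g • b = c) := by
  obtain ⟨g, hg⟩ := exists_smul_eq G (⟨{a, b}, Finset.card_pair hab⟩ : Set.powersetCard α 2)
    ⟨{c, d}, Finset.card_pair hcd⟩
  refine ⟨g, ?_⟩
  have hg' : g • ({a, b} : Finset α) = {c, d} := congrArg Subtype.val hg
  have ha : g • a ∈ ({c, d} : Finset α) := hg' ▸ Finset.smul_mem_smul_finset (by simp)
  have hb : g • b ∈ ({c, d} : Finset α) := hg' ▸ Finset.smul_mem_smul_finset (by simp)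
  simp only [Finset.mem_insert, Finset.mem_singleton] at ha hb
  have hne : g • a ≠ g • b := fun h => hab (MulAction.injective g h)
  rcases ha with ha | ha <;> rcases hb with hb | hb
  · exact absurd (ha.trans hb.symm) hne
  · exact Or.inl ⟨ha, hb⟩
  · exact Or.inr ⟨ha, hb⟩
  · exact absurd (ha.trans hb.symm) hne

theorem three_le_card (hne : G ≠ ⊥) (hn2 : ¬ IsMultiplyPretransitive G α 2) :
    3 ≤ Fintype.card α := by
  by_contra h
  obtain ⟨g, hg⟩ : ∃ g : G, g ≠ 1 := by
    obtain ⟨⟨g, hg⟩, hne'⟩ := (Subgroup.ne_bot_iff_exists_ne_one).1 hne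
    exact ⟨⟨g, hg⟩, hne'⟩
  obtain ⟨a, ha⟩ : ∃ a, g • a ≠ a := by
    by_contra h'
    push Not at h'
    exact hg (Subtype.ext (Equiv.ext h'))
  refine hn2 (is_two_pretransitive_iff.2 fun {x y u v} hxy huv => ?_)
  have huniv : ∀ z : α, z = a ∨ z = g • a := fun z => by
    by_contra hz
    push Not at hz
    have := Finset.card_le_univ ({a, g • a, z} : Finset α)
    rw [Finset.card_eq_three.2 ⟨_, _, _, Ne.symm ha, Ne.symm hz.1, Ne.symm hz.2, rfl⟩] at this
    omega
  have hga : g • g • a = a := by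
    rcases huniv (g • g • a) with e | e
    · exact e
    · exact absurd (MulAction.injective g e) ha
  rcases huniv x with rfl | rfl <;> rcases huniv y with rfl | rfl <;>
    rcases huniv u with rfl | rfl <;> rcases huniv v with rfl | rfl <;>
    first
      | exact absurd rfl hxy
      | exact absurd rfl huv
      | exact ⟨1, one_smul G _, one_smul G _⟩
      | exact ⟨g, rfl, hga⟩
      | exact ⟨g, hga, rfl⟩

theorem mod_four (h2 : IsPretransitive G (Set.powersetCard α 2)) (hα : 3 ≤ Fintype.card α)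
    (hodd : Odd (Nat.card G)) (htr : IsPretransitive G α) : Fintype.card α % 4 = 3 := by
  obtain ⟨a⟩ : Nonempty α := Fintype.card_pos_iff.1 (by omega)
  have h1 : Odd (Fintype.card α) := by
    refine Odd.of_dvd_nat hodd ?_
    rw [← Nat.card_eq_fintype_card, ← index_stabilizer_of_transitive G a]
    exact Subgroup.index_dvd_card _
  obtain ⟨b, hb⟩ : ∃ b, b ≠ a := by
    have : 1 < Fintype.card α := by omega
    exact Fintype.exists_ne_of_one_lt_card this a
  have h3 : Odd ((Fintype.card α).choose 2) := by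
    refine Odd.of_dvd_nat hodd ?_
    have := index_stabilizer_of_transitive G (⟨{a, b}, Finset.card_pair (Ne.symm hb)⟩ :
      Set.powersetCard α 2)
    rw [show (Fintype.card α).choose 2 = Nat.card (Set.powersetCard α 2) by
      rw [Set.powersetCard.card, Nat.card_eq_fintype_card], ← this]
    exact Subgroup.index_dvd_card _
  obtain ⟨m, hm⟩ := h1
  rw [Nat.choose_two_right, hm, show (2 * m + 1) * (2 * m + 1 - 1) / 2 = (2 * m + 1) * m by
    rw [show 2 * m + 1 - 1 = 2 * m by omega, show (2 * m + 1) * (2 * m) = (2 * m + 1) * m * 2 by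
      ring, Nat.mul_div_cancel _ (by norm_num)]] at h3
  obtain ⟨-, hm'⟩ := Nat.odd_mul.1 h3
  obtain ⟨l, hl⟩ := hm'
  omega

universe u

/-- The semiaffine structure from a regular elementary abelian normal subgroup. -/
theorem classify_vector {α : Type u} [Fintype α] [DecidableEq α] (G : Subgroup (Equiv.Perm α))
    (h2 : IsPretransitive G (Set.powersetCard α 2)) (hodd : Odd (Nat.card G))
    (hsol : Group.IsSolvable G) (hα : 3 ≤ Fintype.card α) (hmod : Fintype.card α % 4 = 3)
    {p d : ℕ} [hpf : Fact p.Prime] (hp2 : p ≠ 2) {V : Type u} [AddCommGroup V] [Finite V]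
    [Module (ZMod p) V] (hcardV : Nat.card V = p ^ d) (a : α) (ev : V ≃ α) (hev0 : ev 0 = a)
    (tr : V → G) (htrans' : ∀ v w, tr v • ev w = ev (v + w))
    (hnorm : ∀ (g : G) (v : V), ∃ w, g * tr v * g⁻¹ = tr w) :
    ∃ (p f : ℕ) (_ : Fact p.Prime), p ≠ 2 ∧ Fintype.card α = p ^ f ∧
      p ^ f % 4 = 3 ∧ ∃ e : α ≃ GaloisField p f,
        (∀ g : G, e.symm.trans (((g : Equiv.Perm α)).trans e) ∈
          Cfsg.semiaffineGroup (GaloisField p f)) ∧
        ∀ b : GaloisField p f, ∃ g : G, ∀ x : α, e ((g : Equiv.Perm α) x) = e x + b := by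
  classical
  have hp := hpf.out
  have hcardα : Fintype.card α = p ^ d := by
    rw [← Nat.card_eq_fintype_card, ← Nat.card_congr ev, hcardV]
  let lin : stabilizer G a → V → V := fun g v => ev.symm ((g : G) • ev v)
  have hlin : ∀ g v, ev (lin g v) = (g : G) • ev v := fun g v => ev.apply_symm_apply _
  have hlin0 : ∀ g, lin g 0 = 0 := fun g => ev.injective (by
    rw [hlin, hev0]; exact mem_stabilizer_iff.1 g.2)
  have hlinadd : ∀ g v w, lin g (v + w) = lin g v + lin g w := by
    intro g v w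
    obtain ⟨v', hv'⟩ := hnorm (g : G) v
    have key : ∀ u, ev (lin g (v + u)) = ev (v' + lin g u) := fun u => by
      rw [hlin, ← htrans' v u, ← htrans' v' (lin g u), ← hv', hlin, mul_smul, mul_smul,
        inv_smul_smul]
    have h0 : lin g v = v' := by
      have := ev.injective (key 0)
      rwa [add_zero, hlin0, add_zero] at this
    rw [h0]
    exact ev.injective (key w)
  let linAdd : stabilizer G a → V →+ V := fun g => AddMonoidHom.mk' (lin g) (hlinadd g)
  have hinv : ∀ g v, lin g⁻¹ (lin g v) = v := fun g v => ev.injective (by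
    rw [hlin, hlin, ← mul_smul]
    change ((g⁻¹ * g : stabilizer G a) : G) • ev v = ev v
    rw [inv_mul_cancel]; exact one_smul G _)
  let ρ₀ : stabilizer G a →* (V ≃ₗ[ZMod p] V) :=
    { toFun := fun g => LinearEquiv.ofLinear ((linAdd g).toZModLinearMap p)
        ((linAdd g⁻¹).toZModLinearMap p)
        (LinearMap.ext fun v => by simpa [linAdd] using hinv g⁻¹ v)
        (LinearMap.ext fun v => by simpa [linAdd] using hinv g v)
      map_one' := LinearEquiv.ext fun v => ev.injective ((hlin 1 v).trans (one_smul G _))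
      map_mul' := fun g h => LinearEquiv.ext fun v => ev.injective (by
        change ev (lin (g * h) v) = ev (lin g (lin h v))
        rw [hlin, hlin, hlin, Subgroup.coe_mul, mul_smul]) }
  have hρ₀ : ∀ (g : stabilizer G a) (v : V), ev (ρ₀ g v) = (g : G) • ev v := fun g v => hlin g v
  let negE : V ≃ₗ[ZMod p] V := LinearEquiv.neg (ZMod p)
  have hnegE : negE * negE = 1 := LinearEquiv.ext fun v => neg_neg v
  let negHom : Multiplicative (ZMod 2) →* (V ≃ₗ[ZMod p] V) :=
    { toFun := fun e => negE ^ (Multiplicative.toAdd e).val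
      map_one' := rfl
      map_mul' := fun e e' => by
        rw [← pow_add, toAdd_mul, ZMod.val_add]
        exact (pow_eq_pow_mod _ ((pow_two negE).trans hnegE)).symm }
  have hcomm : ∀ (g : stabilizer G a) (e : Multiplicative (ZMod 2)),
      Commute (ρ₀ g) (negHom e) := fun g e =>
    Commute.pow_right (LinearEquiv.ext fun v => map_neg (ρ₀ g) v) _
  let ρ : stabilizer G a × Multiplicative (ZMod 2) →* (V ≃ₗ[ZMod p] V) :=
    MonoidHom.noncommCoprod ρ₀ negHom hcomm
  have hρ₀inj : ∀ g, ρ₀ g = 1 → g = 1 := fun g hg => Subtype.ext (eq_of_smul_eq_smul fun b : α => by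
    obtain ⟨v, rfl⟩ := ev.surjective b
    rw [← hρ₀, hg]; exact (one_smul G (ev v)).symm)
  have hnodd : ∀ v : V, -v = v → v = 0 := fun v hv => by
    have h2v : (2 : ZMod p) • v = 0 := by rw [two_smul]; nth_rewrite 1 [← hv]; exact neg_add_cancel v
    have h2ne : (2 : ZMod p) ≠ 0 := by
      intro e
      have := (ZMod.natCast_eq_zero_iff 2 p).1 (by exact_mod_cast e)
      exact hp2 ((Nat.prime_dvd_prime_iff_eq hp Nat.prime_two).1 this)
    exact (smul_eq_zero.1 h2v).resolve_left h2ne
  have hne1 : negE ≠ 1 := fun e => by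
    obtain ⟨b, hb⟩ := Fintype.exists_ne_of_one_lt_card (show 1 < Fintype.card α by omega) a
    refine hb ?_
    obtain ⟨v, rfl⟩ := ev.surjective b
    have hv : -v = v := LinearEquiv.congr_fun e v
    rw [hnodd v hv, hev0]
  have hinj : Function.Injective ρ := by
    refine (injective_iff_map_eq_one ρ).2 fun x h => ?_
    obtain ⟨g, e⟩ := x
    change ρ₀ g * negHom e = 1 at h
    have he : e = 1 := by
      by_contra he
      have he1 : (Multiplicative.toAdd e).val = 1 := by
        have hlt := ZMod.val_lt (Multiplicative.toAdd e)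
        have hne0 : (Multiplicative.toAdd e).val ≠ 0 := fun h0 =>
          he (Multiplicative.toAdd.injective ((ZMod.val_eq_zero _).1 h0))
        omega
      have hg : ρ₀ g = negE := by
        have h' : ρ₀ g * negE = 1 := by
          rwa [show negHom e = negE from (congrArg (negE ^ ·) he1).trans (pow_one _)] at h
        exact (eq_inv_of_mul_eq_one_left h').trans (inv_eq_of_mul_eq_one_left hnegE)
      have h1 : orderOf negE ∣ Nat.card (stabilizer G a) :=
        hg ▸ (orderOf_map_dvd ρ₀ g).trans (orderOf_dvd_natCard g)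
      have h2' : orderOf negE = 2 := orderOf_eq_prime ((pow_two negE).trans hnegE) hne1
      rw [h2'] at h1
      exact (Nat.not_even_iff_odd.2 (Odd.of_dvd_nat hodd (Subgroup.card_subgroup_dvd_card _)))
        (even_iff_two_dvd.2 h1)
    subst he
    rw [show negHom 1 = 1 from map_one negHom, mul_one] at h
    exact Prod.ext (hρ₀inj g h) rfl
  have hneg1 : ∀ v : V, negHom (Multiplicative.ofAdd 1) v = -v := fun v => by
    change (negE ^ (1 : ℕ)) v = -v
    rw [pow_one]; rfl
  have hne0 : ∀ v : V, v ≠ 0 → a ≠ ev v := fun v hv h => hv (ev.injective (h.symm.trans hev0.symm))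
  have htrans : ∀ v w : V, v ≠ 0 → w ≠ 0 →
      ∃ x : stabilizer G a × Multiplicative (ZMod 2), ρ x v = w := by
    intro v w hv hw
    obtain ⟨g, hg⟩ := pair_cases G h2 (hne0 v hv) (hne0 w hw)
    rcases hg with ⟨h1, h3⟩ | ⟨h1, h3⟩
    · refine ⟨(⟨g, h1⟩, 1), ev.injective ?_⟩
      change ev ((ρ₀ ⟨g, h1⟩ * negHom 1) v) = ev w
      rw [map_one, mul_one, hρ₀]
      exact h3
    · set wn : G := tr w with hwn
      have hwa : wn • a = ev w := by rw [hwn, ← hev0, htrans', add_zero]
      have hfix : wn⁻¹ * g ∈ stabilizer G a := by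
        rw [mem_stabilizer_iff, mul_smul, h1, ← hwa, inv_smul_smul]
      refine ⟨(⟨_, hfix⟩, Multiplicative.ofAdd 1), ?_⟩
      have hgv : ρ₀ ⟨_, hfix⟩ v = -w := ev.injective (by
        rw [hρ₀]
        change (wn⁻¹ * g) • ev v = ev (-w)
        rw [mul_smul, h3, inv_smul_eq_iff, hwn, htrans', add_neg_cancel, hev0])
      change (ρ₀ ⟨_, hfix⟩ * negHom (Multiplicative.ofAdd 1)) v = w
      rw [LinearEquiv.mul_apply, hneg1, map_neg, hgv, neg_neg]
  have : Nontrivial V := by
    rw [← Finite.one_lt_card_iff_nontrivial, Nat.card_congr ev, Nat.card_eq_fintype_card]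
    omega
  have hsol' : Group.IsSolvable (stabilizer G a × Multiplicative (ZMod 2)) := inferInstance
  rcases Huppert69.semilinear_or_exceptional hsol' hinj htrans with hsemi | ⟨-, hexc⟩
  swap
  · exfalso
    rcases hexc with h | ⟨h, hq⟩
    · rw [hcardV, ← hcardα] at h
      omega
    · rw [hcardV, ← hcardα] at h
      rcases hq with e | e | e | e | e <;> rw [h, e] at hmod <;> norm_num at hmod
  obtain ⟨F, _, _, e₀, he₀⟩ := hsemi
  have hd0 : d ≠ 0 := fun e => by rw [hcardα, e] at hα; norm_num at hα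
  have hF : Nat.card F = p ^ d := (Nat.card_congr e₀.toEquiv).symm.trans hcardV
  have : Fintype (GaloisField p d) := Fintype.ofFinite _
  let ψ : F ≃+* GaloisField p d := FiniteField.ringEquivOfCardEq (by
    rw [← Nat.card_eq_fintype_card, ← Nat.card_eq_fintype_card, hF, GaloisField.card p d hd0])
  let e₁ : V ≃+ GaloisField p d := e₀.trans ψ.toAddEquiv
  let e : α ≃ GaloisField p d := ev.symm.trans e₁.toEquiv
  have heev : ∀ v : V, e (ev v) = e₁ v := fun v => congrArg e₁ (ev.symm_apply_apply v)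
  refine ⟨p, d, hpf, hp2, hcardα, hcardα ▸ hmod, e, fun g => ?_, fun b => ?_⟩
  · -- every element is semiaffine
    obtain ⟨n0, hn0⟩ := ev.surjective ((g : Equiv.Perm α) a)
    set nn : G := tr n0 with hnn
    have hnna : nn • a = ev n0 := by rw [hnn, ← hev0, htrans', add_zero]
    have hfix : nn⁻¹ * g ∈ stabilizer G a := by
      rw [mem_stabilizer_iff, mul_smul, inv_smul_eq_iff, hnna, hn0]
      rfl
    obtain ⟨c, σ, hσ⟩ := he₀ (⟨_, hfix⟩, 1)
    have hρe : ∀ v, ρ (⟨_, hfix⟩, 1) v = ρ₀ ⟨_, hfix⟩ v := fun v => by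
      change (ρ₀ ⟨_, hfix⟩ * negHom 1) v = _
      rw [map_one, mul_one]
    have hc0 : ψ c ≠ 0 := fun h0 => by
      have hc' : c = 0 := ψ.injective (h0.trans (map_zero ψ).symm)
      obtain ⟨v, hv⟩ := exists_ne (0 : V)
      have := hσ v
      rw [hc', zero_mul, ← map_zero e₀, e₀.injective.eq_iff, hρe] at this
      exact hv ((ρ₀ ⟨_, hfix⟩).map_eq_zero_iff.1 this)
    refine ⟨Units.mk0 (ψ c) hc0, e₁ n0, (ψ.symm.trans σ).trans ψ, fun x => ?_⟩
    obtain ⟨b, rfl⟩ := e.surjective x
    obtain ⟨v, rfl⟩ := ev.surjective b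
    change e ((g : Equiv.Perm α) (e.symm (e (ev v)))) = _
    rw [e.symm_apply_apply]
    have hgv : (g : Equiv.Perm α) (ev v) = ev (n0 + ρ₀ ⟨_, hfix⟩ v) := by
      rw [← htrans', hρ₀, ← hnn]
      change g • ev v = nn • ((nn⁻¹ * g) • ev v)
      rw [← mul_smul, mul_inv_cancel_left]
    rw [hgv, heev, heev, map_add, Units.val_mk0, add_comm (e₁ n0)]
    congr 1
    change ψ (e₀ (ρ₀ ⟨_, hfix⟩ v)) = ψ c * ψ (σ (ψ.symm (ψ (e₀ v))))
    rw [RingEquiv.symm_apply_apply, ← map_mul, ← hσ, hρe]
  · obtain ⟨v, rfl⟩ := e₁.surjective b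
    refine ⟨tr v, fun x => ?_⟩
    obtain ⟨w, rfl⟩ := ev.surjective x
    change e (tr v • ev w) = _
    rw [htrans', heev, heev, map_add, add_comm]



theorem classify {α : Type u} [Fintype α] [DecidableEq α] (G : Subgroup (Equiv.Perm α))
    (hne : G ≠ ⊥) (h2 : IsPretransitive G (Set.powersetCard α 2))
    (hn2 : ¬ IsMultiplyPretransitive G α 2)
    (hsolv : Odd (Nat.card G) → Group.IsSolvable G) :
    Odd (Nat.card G) ∧ ∃ (p f : ℕ) (_ : Fact p.Prime), p ≠ 2 ∧ Fintype.card α = p ^ f ∧
      p ^ f % 4 = 3 ∧ ∃ e : α ≃ GaloisField p f,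
        (∀ g : G, e.symm.trans (((g : Equiv.Perm α)).trans e) ∈
          Cfsg.semiaffineGroup (GaloisField p f)) ∧
        ∀ b : GaloisField p f, ∃ g : G, ∀ x : α, e ((g : Equiv.Perm α) x) = e x + b := by
  classical
  have hα := three_le_card G hne hn2
  obtain ⟨hev, -⟩ := Cfsg.Agent.S0735.result G h2 hα
  have hodd : Odd (Nat.card G) := by
    rcases Nat.even_or_odd (Nat.card G) with h | h
    · exact absurd (hev h) hn2
    · exact h
  refine ⟨hodd, ?_⟩
  have hsol := hsolv hodd
  have htr : IsPretransitive G α := by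
    refine ⟨fun a b => ?_⟩
    by_cases hab : a = b
    · exact ⟨1, by rw [one_smul, hab]⟩
    obtain ⟨c, hca, hcb⟩ : ∃ c, c ≠ a ∧ c ≠ b := by
      by_contra h
      push Not at h
      have hsub : (Finset.univ : Finset α) ⊆ {a, b} := fun z _ => by
        simp only [Finset.mem_insert, Finset.mem_singleton]
        by_cases hz : z = a
        · exact Or.inl hz
        · exact Or.inr (h z hz)
      have h1 := Finset.card_le_card hsub
      have h2 := Finset.card_le_two (a := a) (b := b)
      rw [Finset.card_univ] at h1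
      omega
    obtain ⟨g, hg⟩ := pair_cases G h2 (Ne.symm hca) (Ne.symm hcb)
    rcases hg with ⟨h1, -⟩ | ⟨h1, h3⟩
    · exact ⟨g, h1⟩
    · exact ⟨g * g, by rw [mul_smul, h1, h3]⟩
  have hmod := mod_four G h2 hα hodd htr
  obtain ⟨a⟩ : Nonempty α := Fintype.card_pos_iff.1 (by omega)
  have : Nontrivial G := by
    rw [Subgroup.nontrivial_iff_ne_bot]; exact hne
  obtain ⟨N, p, hNn, hN1, -, hp, -, hNc, hpow, d, -, hNcard⟩ :=
    Solvable.exists_minimal_normal_elementary G
  have := Fact.mk hp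
  have hc : ∀ x ∈ N, ∀ y ∈ N, x * y = y * x := fun x hx y hy =>
    congrArg Subtype.val (hNc.1.1 ⟨x, hx⟩ ⟨y, hy⟩)
  -- transitivity of `N`
  have hNtr : ∀ b : α, ∃ x : G, x ∈ N ∧ x • a = b := by
    obtain ⟨⟨x, hx⟩, hx1⟩ := (Subgroup.ne_bot_iff_exists_ne_one).1 hN1
    obtain ⟨c, hc'⟩ : ∃ c, x • c ≠ c := by
      by_contra h
      push Not at h
      exact hx1 (Subtype.ext (Subtype.ext (Equiv.ext h)))
    obtain ⟨g, hg⟩ := exists_smul_eq G c a
    have hb0 : ∃ x : G, x ∈ N ∧ x • a ≠ a := ⟨g * x * g⁻¹, hNn.conj_mem x hx g, fun e => hc' (by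
      rw [← hg, mul_smul, mul_smul, inv_smul_smul] at e
      exact MulAction.injective g e)⟩
    intro b
    by_contra hb
    push Not at hb
    obtain ⟨y, hy, hya⟩ := hb0
    have hab : a ≠ b := fun e => hb 1 N.one_mem (by rw [one_smul, e])
    obtain ⟨h, hh⟩ := pair_cases G h2 (Ne.symm hya) hab
    have key : ∀ u v : α, (∃ z : G, z ∈ N ∧ z • u = v) → ∀ k : G,
        ∃ z : G, z ∈ N ∧ z • (k • u) = k • v := fun u v ⟨z, hz, hzu⟩ k =>
      ⟨k * z * k⁻¹, hNn.conj_mem z hz k, by rw [mul_smul, mul_smul, inv_smul_smul, hzu]⟩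
    rcases hh with ⟨h1, h3⟩ | ⟨h1, h3⟩
    · obtain ⟨z, hz, hza⟩ := key a (y • a) ⟨y, hy, rfl⟩ h
      rw [h1, h3] at hza
      exact hb z hz hza
    · obtain ⟨z, hz, hza⟩ := key a (y • a) ⟨y, hy, rfl⟩ h
      rw [h1, h3] at hza
      exact hb z⁻¹ (N.inv_mem hz) (inv_smul_eq_iff.2 hza.symm)
  have hNreg : ∀ x ∈ N, ∀ b : α, x • b = b → x = 1 := fun x hx b hxb => by
    refine eq_of_smul_eq_smul fun c : α => ?_
    obtain ⟨y, hy, hyc⟩ := hNtr c
    obtain ⟨z, hz, hzb⟩ := hNtr b
    have hxa : x • a = a := by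
      have : x • z • a = z • a := by rw [hzb, hxb]
      rw [← mul_smul, hc x hx z hz, mul_smul] at this
      exact MulAction.injective z this
    rw [one_smul, ← hyc, ← mul_smul, hc x hx y hy, mul_smul, hxa]
  -- the vector space
  let instN : CommGroup N :=
    { (inferInstance : Group N) with mul_comm := fun x y => Subtype.ext (hc x x.2 y y.2) }
  let instM : Module (ZMod p) (Additive N) := AddCommGroup.zmodModule fun x => by
    change Additive.ofMul ((Additive.toMul x) ^ p) = 0
    rw [show (Additive.toMul x) ^ p = (1 : N) from Subtype.ext (hpow _ (Additive.toMul x).2)]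
    rfl
  let ev : Additive N ≃ α := Equiv.ofBijective
    (fun v => ((Additive.toMul v : N) : G) • a)
    ⟨fun v w hvw => by
      have h1 : (((Additive.toMul w : N) : G))⁻¹ * ((Additive.toMul v : N) : G) = 1 :=
        hNreg _ (N.mul_mem (N.inv_mem (Additive.toMul w).2) (Additive.toMul v).2) a (by
          rw [mul_smul, inv_smul_eq_iff]; exact hvw)
      exact congrArg Additive.ofMul (Subtype.ext (inv_mul_eq_one.1 h1).symm),
    fun b => by
      obtain ⟨x, hx, hxb⟩ := hNtr b
      exact ⟨Additive.ofMul ⟨x, hx⟩, hxb⟩⟩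
  have hcardV : Nat.card (Additive N) = p ^ d := hNcard
  have hcardα : Fintype.card α = p ^ d := by
    rw [← Nat.card_eq_fintype_card, ← Nat.card_congr ev, hcardV]
  have hp2 : p ≠ 2 := fun e => by
    rw [hcardα, e] at hmod
    rcases d with _ | d
    · norm_num at hmod
    · rw [pow_succ] at hmod
      omega
  exact classify_vector G h2 hodd hsol hα hmod hp2 hcardV a ev (one_smul G a)
    (fun v => ((Additive.toMul v : N) : G)) (fun v w => (mul_smul _ _ a).symm)
    fun g v => ⟨Additive.ofMul ⟨_, hNn.conj_mem _ (Additive.toMul v).2 g⟩, rfl⟩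

end Cfsg.Agent.PermB.KantorHomog
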