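import Mathlib

/-!
Groups transitive on unordered sets: the group of permutations of a tuple induced by the group,
and elementary consequences.
-/

set_option autoImplicit false

namespace Cfsg.Agent.PermB.LW

open MulAction
open scoped Pointwise

variable {α : Type*} [Fintype α] [DecidableEq α] (G : Subgroup (Equiv.Perm α))

/-- Any two `k`-tuples are related by the group up to a permutation of the entries. -/
def Hom (k : ℕ) : Prop :=
  ∀ x y : Fin k ↪ α, ∃ (g : G) (π : Equiv.Perm (Fin k)), ∀ i, g • x i = y (π i)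

/-- The permutations of the entries of a tuple induced by the group. -/
def liftGroup {k : ℕ} (x : Fin k ↪ α) : Subgroup (Equiv.Perm (Fin k)) where
  carrier := {π | ∃ g : G, ∀ i, g • x i = x (π i)}
  mul_mem' := fun {π π'} ⟨g, hg⟩ ⟨g', hg'⟩ => ⟨g * g', fun i => by
    rw [mul_smul, hg', hg, Equiv.Perm.mul_apply]⟩
  one_mem' := ⟨1, fun i => one_smul G (x i)⟩
  inv_mem' := fun {π} ⟨g, hg⟩ => ⟨g⁻¹, fun i => by
    rw [inv_smul_eq_iff, hg, Equiv.Perm.inv_def, Equiv.apply_symm_apply]⟩

variable {G}

omit [Fintype α] [DecidableEq α] in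
theorem mem_stabilizer_tuple {k : ℕ} {x : Fin k ↪ α} {g : G} :
    g ∈ stabilizer G x ↔ ∀ i, g • x i = x i := by
  rw [mem_stabilizer_iff, Function.Embedding.ext_iff]
  exact Iff.rfl

omit [Fintype α] [DecidableEq α] in
/-- The index of the stabiliser of a tuple in a multiply transitive group. -/
theorem index_stabilizer_tuple {k : ℕ} (h : IsMultiplyPretransitive G α k) (x : Fin k ↪ α) :
    (stabilizer G x).index = Nat.card (Fin k ↪ α) :=
  @index_stabilizer_of_transitive G _ _ _ x h

omit [DecidableEq α] in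
theorem card_of_transitive {k : ℕ} (h : IsMultiplyPretransitive G α k) (x : Fin k ↪ α) :
    Nat.card G = (Fintype.card α).descFactorial k * Nat.card (stabilizer G x) := by
  classical
  rw [← (stabilizer G x).card_mul_index, index_stabilizer_tuple h, Nat.card_eq_fintype_card
    (α := Fin k ↪ α), Fintype.card_embedding_eq, Fintype.card_fin, mul_comm]

theorem hom_of_powersetCard {k : ℕ} (h : IsPretransitive G (Set.powersetCard α k)) :
    Hom G k := by
  intro x y
  obtain ⟨g, hg⟩ := exists_smul_eq G
    (⟨Finset.univ.map x, by simp⟩ : Set.powersetCard α k)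
    ⟨Finset.univ.map y, by simp⟩
  have hg' : g • Finset.univ.map x = Finset.univ.map y := congrArg Subtype.val hg
  have hmem : ∀ i, ∃ j, y j = g • x i := fun i => by
    have : g • x i ∈ Finset.univ.map y := hg' ▸ Finset.smul_mem_smul_finset
      (Finset.mem_map_of_mem _ (Finset.mem_univ i))
    simpa using this
  choose f hf using hmem
  have hinj : Function.Injective f := fun i j e =>
    x.injective (MulAction.injective g ((hf i).symm.trans ((congrArg y e).trans (hf j))))
  exact ⟨g, Equiv.ofBijective f (Finite.injective_iff_bijective.1 hinj), fun i => (hf i).symm⟩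

omit [DecidableEq α] in
theorem card_stabilizer_eq {k : ℕ} (h : Hom G k) (x y : Fin k ↪ α) :
    Nat.card (stabilizer G x) = Nat.card (stabilizer G y) := by
  obtain ⟨g, π, hg⟩ := h x y
  refine Nat.card_congr
    { toFun := fun z => ⟨g * z * g⁻¹, ?_⟩
      invFun := fun z => ⟨g⁻¹ * z * g, ?_⟩
      left_inv := fun z => Subtype.ext (by simp [mul_assoc])
      right_inv := fun z => Subtype.ext (by simp [mul_assoc]) }
  · refine mem_stabilizer_tuple.2 fun i => ?_
    obtain ⟨j, rfl⟩ := π.surjective i
    rw [← hg, mul_smul, mul_smul, inv_smul_smul, mem_stabilizer_tuple.1 z.2]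
  · refine mem_stabilizer_tuple.2 fun i => ?_
    rw [mul_smul, mul_smul, hg, mem_stabilizer_tuple.1 z.2, ← hg, inv_smul_smul]

/-- The fundamental counting formula. -/
theorem card_formula {k : ℕ} (h : Hom G k) (x : Fin k ↪ α) :
    Nat.card G * k.factorial = (Fintype.card α).descFactorial k *
      (Nat.card (stabilizer G x) * Nat.card (liftGroup G x)) := by
  classical
  let _act : MulAction (G × Equiv.Perm (Fin k)) (Fin k ↪ α) :=
    { smul := fun p y => p.1 • p.2.symm.toEmbedding.trans y
      one_smul := fun y => Function.Embedding.ext fun i => one_smul G (y i)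
      mul_smul := fun p q y => Function.Embedding.ext fun i => mul_smul p.1 q.1 _ }
  have htr : IsPretransitive (G × Equiv.Perm (Fin k)) (Fin k ↪ α) := by
    refine ⟨fun y z => ?_⟩
    obtain ⟨g, π, hg⟩ := h y z
    refine ⟨(g, π), Function.Embedding.ext fun i => ?_⟩
    change g • y (π.symm i) = z i
    rw [hg, Equiv.apply_symm_apply]
  have hmem : ∀ p : G × Equiv.Perm (Fin k), p ∈ stabilizer (G × Equiv.Perm (Fin k)) x ↔
      ∀ i, p.1 • x i = x (p.2 i) := by
    intro p
    rw [mem_stabilizer_iff]
    constructor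
    · intro hp i
      have := Function.Embedding.ext_iff.1 hp (p.2 i)
      change p.1 • x (p.2.symm (p.2 i)) = x (p.2 i) at this
      rwa [Equiv.symm_apply_apply] at this
    · intro hp
      refine Function.Embedding.ext fun i => ?_
      change p.1 • x (p.2.symm i) = x i
      rw [hp, Equiv.apply_symm_apply]
  let f : stabilizer (G × Equiv.Perm (Fin k)) x →* liftGroup G x :=
    { toFun := fun p => ⟨p.1.2, p.1.1, (hmem _).1 p.2⟩
      map_one' := rfl
      map_mul' := fun _ _ => rfl }
  have hf : Function.Surjective f := fun π => by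
    obtain ⟨g, hg⟩ := π.2
    exact ⟨⟨(g, π.1), (hmem _).2 hg⟩, rfl⟩
  have hker : Nat.card f.ker = Nat.card (stabilizer G x) := by
    refine Nat.card_congr
      { toFun := fun p => ⟨p.1.1.1, mem_stabilizer_tuple.2 fun i => ?_⟩
        invFun := fun g => ⟨⟨(g.1, 1), (hmem _).2 fun i => mem_stabilizer_tuple.1 g.2 i⟩, rfl⟩
        left_inv := fun p => ?_
        right_inv := fun g => rfl }
    · have := (hmem _).1 p.1.2 i
      rwa [show p.1.1.2 = 1 from congrArg Subtype.val p.2, Equiv.Perm.one_apply] at this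
    · exact Subtype.ext (Subtype.ext (Prod.ext rfl (congrArg Subtype.val p.2).symm))
  have h1 := f.ker.card_mul_index
  rw [Subgroup.index_ker, MonoidHom.range_eq_top.2 hf, Subgroup.card_top, hker] at h1
  have h2 := (stabilizer (G × Equiv.Perm (Fin k)) x).card_mul_index
  rw [@index_stabilizer_of_transitive (G × Equiv.Perm (Fin k)) _ _ _ x htr, Nat.card_prod,
    Nat.card_perm, Nat.card_fin, Nat.card_eq_fintype_card (α := Fin k ↪ α),
    Fintype.card_embedding_eq, Fintype.card_fin] at h2
  rw [← h2, ← h1]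
  ring

theorem transitive_of_top {k : ℕ} (h : Hom G k) (hL : ∀ x : Fin k ↪ α, liftGroup G x = ⊤) :
    IsMultiplyPretransitive G α k := by
  refine ⟨fun x y => ?_⟩
  obtain ⟨g, π, hg⟩ := h x y
  obtain ⟨g', hg'⟩ := show π⁻¹ ∈ liftGroup G y by rw [hL y]; exact Subgroup.mem_top _
  refine ⟨g' * g, Function.Embedding.ext fun i => ?_⟩
  change (g' * g) • x i = y i
  rw [mul_smul, hg, hg', Equiv.Perm.inv_def, Equiv.symm_apply_apply]

theorem top_of_swap {k : ℕ} {a b : Fin k} (hab : a ≠ b)
    (hL : ∀ x : Fin k ↪ α, Equiv.swap a b ∈ liftGroup G x) (x : Fin k ↪ α) :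
    liftGroup G x = ⊤ := by
  have key : ∀ i j : Fin k, i ≠ j → Equiv.swap i j ∈ liftGroup G x := by
    intro i j hij
    set σ : Equiv.Perm (Fin k) := Equiv.swap (Equiv.swap a i b) j * Equiv.swap a i with hσ
    have h1 : σ a = i := by
      rw [hσ, Equiv.Perm.mul_apply, Equiv.swap_apply_left, Equiv.swap_apply_of_ne_of_ne ?_ hij]
      intro h
      have : Equiv.swap a i a = Equiv.swap a i b := by rw [Equiv.swap_apply_left, ← h]
      exact hab ((Equiv.swap a i).injective this)
    have h2 : σ b = j := by rw [hσ, Equiv.Perm.mul_apply, Equiv.swap_apply_left]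
    obtain ⟨g, hg⟩ := hL (σ.toEmbedding.trans x)
    refine ⟨g, fun u => ?_⟩
    obtain ⟨t, rfl⟩ := σ.surjective u
    rw [← h1, ← h2, ← σ.injective.map_swap]
    exact hg t
  refine top_unique fun π _ => ?_
  induction π using Equiv.Perm.swap_induction_on with
  | one => exact one_mem _
  | swap_mul f i j hij hf => exact mul_mem (key i j hij) (hf trivial)

/-- If all even permutations of all `(m+1)`-tuples are induced then the group is `m`-transitive. -/
theorem transitive_of_even {m : ℕ} (hm : 3 ≤ m) (hn : m + 2 ≤ Fintype.card α)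
    (hA : ∀ (x : Fin (m + 1) ↪ α), ∀ π ∈ alternatingGroup (Fin (m + 1)), π ∈ liftGroup G x) :
    IsMultiplyPretransitive G α m := by
  classical
  obtain ⟨l, rfl⟩ : ∃ l, m = l + 1 := ⟨m - 1, by omega⟩
  set L : Fin (l + 1) := Fin.last l
  set s : Equiv.Perm (Fin (l + 1)) := Equiv.swap 0 ⟨1, by omega⟩ with hs
  have hsL : s L = L := Equiv.swap_apply_of_ne_of_ne
    (fun h => by simp [L, Fin.ext_iff] at h; omega) (fun h => by simp [L, Fin.ext_iff] at h; omega)
  -- one move
  have move : ∀ (x : Fin (l + 1) ↪ α) (e : α), (∀ i, x i ≠ e) →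
      ∃ g : G, ∀ i, g • x i = if i = L then e else x (s i) := by
    intro x e he
    let x' : Fin (l + 1 + 1) ↪ α := ⟨Fin.snoc x e, by
      intro i j h
      induction i using Fin.lastCases <;> induction j using Fin.lastCases <;>
        simp_all [Fin.snoc_last, Fin.snoc_castSucc, x.injective.eq_iff]
      all_goals first | exact (he _ h.symm).elim | exact (he _ h).elim⟩
    set π : Equiv.Perm (Fin (l + 1 + 1)) := Equiv.swap (Fin.castSucc 0)
      (Fin.castSucc ⟨1, by omega⟩) * Equiv.swap (Fin.castSucc L) (Fin.last (l + 1)) with hπ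
    have hsign : π ∈ alternatingGroup (Fin (l + 1 + 1)) := by
      rw [Equiv.Perm.mem_alternatingGroup, hπ, map_mul, Equiv.Perm.sign_swap,
        Equiv.Perm.sign_swap]
      · rfl
      · exact fun h => Fin.castSucc_ne_last L h
      · exact fun h => by simp [Fin.ext_iff] at h
    obtain ⟨g, hg⟩ := hA x' π hsign
    refine ⟨g, fun i => ?_⟩
    have h1 := hg (Fin.castSucc i)
    change g • (Fin.snoc x e : Fin (l + 2) → α) (Fin.castSucc i) =
      (Fin.snoc x e : Fin (l + 2) → α) (π (Fin.castSucc i)) at h1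
    rw [Fin.snoc_castSucc] at h1
    rw [h1, hπ, Equiv.Perm.mul_apply]
    split_ifs with hi
    · subst hi
      rw [Equiv.swap_apply_left, Equiv.swap_apply_of_ne_of_ne]
      · exact Fin.snoc_last _ _
      · exact fun h => Fin.castSucc_ne_last _ h.symm
      · exact fun h => Fin.castSucc_ne_last _ h.symm
    · rw [Equiv.swap_apply_of_ne_of_ne (fun h => hi (Fin.castSucc_injective _ h))
        (Fin.castSucc_ne_last i), hs, ← (Fin.castSucc_injective (l + 1)).map_swap,
        Fin.snoc_castSucc]
  have hss : ∀ i, s (s i) = i := fun i => Equiv.swap_apply_self _ _ i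
  -- transpositions are induced
  have hswap : ∀ x : Fin (l + 1) ↪ α, s ∈ liftGroup G x := by
    intro x
    obtain ⟨e, -, he⟩ := Finset.exists_mem_notMem_of_card_lt_card
      (show (Finset.univ.map x).card < (Finset.univ : Finset α).card by simp; omega)
    obtain ⟨f, -, hf⟩ := Finset.exists_mem_notMem_of_card_lt_card
      (show (insert e (Finset.univ.map x)).card < (Finset.univ : Finset α).card by
        rw [Finset.card_insert_of_notMem he]; simp; omega)
    simp only [Finset.mem_insert, Finset.mem_map, Finset.mem_univ, true_and, not_or,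
      not_exists] at he hf
    obtain ⟨g₁, h₁⟩ := move x e he
    obtain ⟨g₂, h₂⟩ := move (g₁ • x) f fun i => by
      change g₁ • x i ≠ f
      rw [h₁]; split_ifs
      exacts [fun h => hf.1 h.symm, hf.2 _]
    have h₁₂ : ∀ i, g₂ • g₁ • x i = if i = L then f else x i := fun i => by
      refine (h₂ i).trans ?_
      split_ifs with hi
      · rfl
      · change g₁ • x (s i) = x i
        rw [h₁, if_neg (fun h => hi (by rw [← hss i, h, hsL])), hss]
    obtain ⟨g₃, h₃⟩ := move (g₂ • g₁ • x) (x L) fun i => by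
      change g₂ • g₁ • x i ≠ x L
      rw [h₁₂]; split_ifs with hi
      exacts [fun h => hf.2 L h.symm, fun h => hi (x.injective h)]
    refine ⟨g₃ * (g₂ * g₁), fun i => ?_⟩
    rw [mul_smul, mul_smul]
    refine (h₃ i).trans ?_
    split_ifs with hi
    · rw [hi, hsL]
    · change g₂ • g₁ • x (s i) = x (s i)
      rw [h₁₂, if_neg (fun h => hi (by rw [← hss i, h, hsL]))]
  have htop : ∀ x : Fin (l + 1) ↪ α, liftGroup G x = ⊤ :=
    top_of_swap (fun h => by simp [Fin.ext_iff] at h) hswap
  -- changing one entry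
  have change1 : ∀ (x : Fin (l + 1) ↪ α) (t : Fin (l + 1)) (e : α),
      ∃ g : G, ∀ i, g • x i = Equiv.swap (x t) e (x i) := by
    intro x t e
    by_cases he : ∃ j, x j = e
    · obtain ⟨j, rfl⟩ := he
      obtain ⟨g, hg⟩ := show Equiv.swap t j ∈ liftGroup G x by rw [htop]; exact Subgroup.mem_top _
      exact ⟨g, fun i => by rw [hg, x.injective.map_swap]⟩
    push Not at he
    obtain ⟨g₀, hg₀⟩ := show Equiv.swap t L ∈ liftGroup G x by rw [htop]; exact Subgroup.mem_top _
    obtain ⟨g₁, hg₁⟩ := show s ∈ liftGroup G ((Equiv.swap t L).toEmbedding.trans x) by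
      rw [htop]; exact Subgroup.mem_top _
    set y : Fin (l + 1) ↪ α := (Equiv.swap t L).toEmbedding.trans x with hy
    obtain ⟨g₂, hg₂⟩ := move y e fun i => he _
    obtain ⟨g₃, hg₃⟩ := show Equiv.swap t L ∈ liftGroup G (g₂ • g₁ • y) by
      rw [htop]; exact Subgroup.mem_top _
    have h12 : ∀ i, g₂ • g₁ • y i = if i = L then e else y i := fun i => by
      rw [hg₁, hg₂]
      split_ifs with h1 h2 h2
      · rfl
      · exact (h2 (by rw [← hss i, h1, hsL])).elim
      · exact (h1 (by rw [h2, hsL])).elim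
      · rw [hss]
    refine ⟨g₃ * (g₂ * (g₁ * g₀)), fun i => ?_⟩
    rw [mul_smul, mul_smul, mul_smul, hg₀]
    change g₃ • g₂ • g₁ • y i = _
    rw [show g₂ • g₁ • y i = (g₂ • g₁ • y) i from rfl, hg₃]
    change g₂ • g₁ • y (Equiv.swap t L i) = _
    rw [h12]
    split_ifs with h1
    · rw [show i = t by rw [← Equiv.swap_apply_self t L i, h1, Equiv.swap_apply_right],
        Equiv.swap_apply_left]
    · rw [hy]
      change x (Equiv.swap t L (Equiv.swap t L i)) = _
      rw [Equiv.swap_apply_self, Equiv.swap_apply_of_ne_of_ne ?_ (he i)]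
      exact fun h => h1 (by rw [x.injective h, Equiv.swap_apply_left])
  refine ⟨fun x y => ?_⟩
  suffices ∀ c ≤ l + 1, ∃ g : G, ∀ i : Fin (l + 1), (i : ℕ) < c → g • x i = y i by
    obtain ⟨g, hg⟩ := this _ le_rfl
    exact ⟨g, Function.Embedding.ext fun i => hg i i.2⟩
  intro c
  induction c with
  | zero => exact fun _ => ⟨1, fun i hi => absurd hi (by omega)⟩
  | succ c ih =>
    intro hc
    obtain ⟨g, hg⟩ := ih (by omega)
    obtain ⟨g', hg'⟩ := change1 (g • x) ⟨c, by omega⟩ (y ⟨c, by omega⟩)
    refine ⟨g' * g, fun i hi => ?_⟩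
    rw [mul_smul]
    refine (hg' i).trans ?_
    rcases Nat.lt_succ_iff_lt_or_eq.1 hi with hi | hi
    · change Equiv.swap _ _ (g • x i) = y i
      rw [← hg i hi, Equiv.swap_apply_of_ne_of_ne]
      · intro h
        have := congrArg Fin.val (x.injective (MulAction.injective g h))
        simp at this; omega
      · rw [hg i hi]
        intro h
        have := congrArg Fin.val (y.injective h)
        simp at this; omega
    · rw [show (⟨c, by omega⟩ : Fin (l + 1)) = i from Fin.ext hi.symm, Equiv.swap_apply_left]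

/-- A group of order `pM` acting faithfully on `p` points. -/
theorem prime_degree {H Ω : Type*} [Group H] [Finite H] [MulAction H Ω] [FaithfulSMul H Ω]
    [Fintype Ω] {p M : ℕ} (hp : p.Prime) (hΩ : Fintype.card Ω = p) (hH : Nat.card H = p * M)
    (hM : ¬ p ∣ M) : ∃ d, d ∣ p - 1 ∧ d ∣ M ∧ M / d % p = 1 := by
  classical
  have := Fact.mk hp
  set φ := MulAction.toPermHom H Ω with hφ
  have hφi : Function.Injective φ := MulAction.toPerm_injective
  obtain ⟨σ, hσ⟩ := exists_prime_orderOf_dvd_card' (G := H) p (hH ▸ dvd_mul_right p M)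
  have hσα : orderOf (φ σ) = p := by rw [orderOf_injective φ hφi, hσ]
  have hcyc : (φ σ).IsCycle := Equiv.Perm.isCycle_of_prime_order''
    (α := Ω) (by rw [hΩ]; exact hp) (by rw [hσα, hΩ])
  have hsupp : (φ σ).support = Finset.univ :=
    Finset.eq_univ_of_card _ (by rw [← hcyc.orderOf, hσα, hΩ])
  set P := Subgroup.zpowers σ with hP
  have hPcard : Nat.card P = p := by rw [hP, Nat.card_zpowers, hσ]
  have hM0 : M ≠ 0 := fun h => hM (h ▸ dvd_zero p)
  have hfac : (Nat.card H).factorization p = 1 := by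
    rw [hH, Nat.factorization_mul hp.ne_zero hM0, Finsupp.add_apply, hp.factorization_self,
      Nat.factorization_eq_zero_of_not_dvd hM]
  let S : Sylow p H := Sylow.ofCard P (by rw [hPcard, hfac, pow_one])
  have hn : Nat.card (Sylow p H) = (Subgroup.normalizer (P : Set H)).index :=
    S.card_eq_index_normalizer
  have hmod := card_sylow_modEq_one p H
  have hC : Subgroup.centralizer (P : Set H) ≤ P := by
    intro τ hτ
    obtain ⟨a⟩ : Nonempty Ω := Fintype.card_pos_iff.1 (hΩ ▸ hp.pos)
    have hmem : ∀ b, φ σ b ≠ b := fun b =>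
      Equiv.Perm.mem_support.1 (hsupp ▸ Finset.mem_univ b)
    obtain ⟨i, hi⟩ := hcyc.exists_zpow_eq (hmem a) (hmem (φ τ a))
    refine ⟨i, hφi ?_⟩
    change φ (σ ^ i) = φ τ
    refine Equiv.ext fun b => ?_
    obtain ⟨j, rfl⟩ := hcyc.exists_zpow_eq (hmem a) (hmem b)
    have hc : σ ^ j * τ = τ * σ ^ j :=
      Subgroup.mem_centralizer_iff.1 hτ _ (Subgroup.zpow_mem _ (Subgroup.mem_zpowers σ) j)
    have hc' := Equiv.ext_iff.1 (congrArg φ hc) a
    simp only [map_mul, map_zpow, Equiv.Perm.mul_apply] at hc' ⊢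
    rw [← hc', ← hi, ← Equiv.Perm.mul_apply, ← Equiv.Perm.mul_apply, ← zpow_add, ← zpow_add,
      add_comm]
  set N := Subgroup.normalizer (P : Set H) with hN
  have hd1 : Nat.card N ∣ p * (p - 1) := by
    let f := Subgroup.normalizerMonoidHom P
    have h1 := f.ker.card_mul_index
    rw [Subgroup.index_ker] at h1
    have h2 : Nat.card f.range ∣ Nat.card (MulAut P) := Subgroup.card_subgroup_dvd_card _
    rw [IsCyclic.card_mulAut, hPcard, Nat.totient_prime hp] at h2
    have h3 : Nat.card f.ker ∣ Nat.card P := by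
      rw [Subgroup.normalizerMonoidHom_ker,
        Nat.card_congr
          (Subgroup.subgroupOfEquivOfLe (Subgroup.centralizer_le_normalizer _)).toEquiv]
      exact Subgroup.card_dvd_of_le hC
    rw [← h1]
    exact mul_dvd_mul (hPcard ▸ h3) h2
  obtain ⟨d, hd⟩ : p ∣ Nat.card N := hPcard ▸ Subgroup.card_dvd_of_le Subgroup.le_normalizer
  have hmul : Nat.card N * Nat.card (Sylow p H) = p * M := by rw [hn, N.card_mul_index, hH]
  rw [hd, mul_assoc] at hmul
  have hdM : d * Nat.card (Sylow p H) = M := Nat.eq_of_mul_eq_mul_left hp.pos hmul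
  refine ⟨d, Nat.dvd_of_mul_dvd_mul_left hp.pos (hd ▸ hd1), ⟨_, hdM.symm⟩, ?_⟩
  have hd0 : 0 < d := Nat.pos_of_ne_zero fun h => hM0 (by rw [← hdM, h, zero_mul])
  rw [← hdM, Nat.mul_div_cancel_left _ hd0]
  exact Eq.trans hmod (Nat.mod_eq_of_lt hp.one_lt)

end Cfsg.Agent.PermB.LW
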