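import Cfsg.Agent.PermB.LWBasic

/-!
Involutions in groups inducing no odd permutation on any `k`-set.
-/

set_option autoImplicit false

namespace Cfsg.Agent.PermB.LW

open MulAction

variable {α : Type*} [Fintype α] [DecidableEq α] {G : Subgroup (Equiv.Perm α)}

theorem pow_lift {k : ℕ} {g : G} {π : Equiv.Perm (Fin k)} {x : Fin k ↪ α}
    (hg : ∀ i, g • x i = x (π i)) : ∀ m : ℕ, ∀ i, (g ^ m) • x i = x ((π ^ m) i)
  | 0 => fun i => one_smul G (x i)
  | m + 1 => fun i => by
    rw [pow_succ', mul_smul, pow_lift hg m i, hg, pow_succ', Equiv.Perm.mul_apply]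

/-- An involutory permutation of a tuple is induced by an involution if the stabiliser has odd
order. -/
theorem exists_involution_lift {k : ℕ} {π : Equiv.Perm (Fin k)} (hπ : π * π = 1)
    {x : Fin k ↪ α} (hodd : Odd (Nat.card (stabilizer G x))) (h : π ∈ liftGroup G x) :
    ∃ g : G, g * g = 1 ∧ ∀ i, g • x i = x (π i) := by
  obtain ⟨g, hg⟩ := h
  have hgg : g * g ∈ stabilizer G x := mem_stabilizer_tuple.2 fun i => by
    rw [mul_smul, hg, hg, ← Equiv.Perm.mul_apply, hπ, Equiv.Perm.one_apply]
  have h1 := congrArg Subtype.val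
    (pow_card_eq_one' (x := (⟨g * g, hgg⟩ : stabilizer G x)))
  obtain ⟨m, hm⟩ := hodd
  refine ⟨g ^ Nat.card (stabilizer G x), ?_, fun i => ?_⟩
  · rw [← (Commute.refl g).mul_pow]
    simpa using h1
  · rw [pow_lift hg _ i, hm, pow_succ, pow_mul, pow_two, hπ, one_pow, one_mul]

/-- The permutation induced on an invariant set of size `k` is even. -/
theorem sign_subtypePerm {k : ℕ}
    (hO : ∀ (x : Fin k ↪ α), ∀ π ∈ liftGroup G x, Equiv.Perm.sign π = 1) (g : G) (Δ : Finset α)
    (hΔ : Δ.card = k) (hinv : ∀ a, (g : Equiv.Perm α) a ∈ Δ ↔ a ∈ Δ) :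
    Equiv.Perm.sign ((g : Equiv.Perm α).subtypePerm hinv) = 1 := by
  set τ := (g : Equiv.Perm α).subtypePerm hinv with hτ
  set e := Δ.equivFinOfCardEq hΔ with he
  have := hO (e.symm.toEmbedding.trans (Function.Embedding.subtype _)) (e.permCongr τ)
    ⟨g, fun i => by
      change (g : Equiv.Perm α) (e.symm i) = (e.symm (e.permCongr τ i) : α)
      rw [Equiv.permCongr_apply, Equiv.symm_apply_apply]
      rfl⟩
  rwa [Equiv.Perm.sign_permCongr] at this

/-- Involutions fix at most `k - 3` points. -/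
theorem fix_add_three_le {k : ℕ} (hk : 2 ≤ k)
    (hO : ∀ (x : Fin k ↪ α), ∀ π ∈ liftGroup G x, Equiv.Perm.sign π = 1) {g : G}
    (hg : g * g = 1) (hg1 : g ≠ 1) :
    (Finset.univ.filter fun a : α => g • a = a).card + 3 ≤ k := by
  by_contra hlt
  obtain ⟨S, hS, hScard⟩ := Finset.exists_subset_card_eq
    (show k - 2 ≤ (Finset.univ.filter fun a : α => g • a = a).card by omega)
  have hfix : ∀ a ∈ S, (g : Equiv.Perm α) a = a := fun a ha => (Finset.mem_filter.1 (hS ha)).2
  obtain ⟨a, ha⟩ : ∃ a, (g : Equiv.Perm α) a ≠ a := by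
    by_contra h
    push Not at h
    exact hg1 (Subtype.ext (Equiv.ext h))
  have hgg : ∀ b, (g : Equiv.Perm α) ((g : Equiv.Perm α) b) = b := fun b => by
    change ((g * g : G) : Equiv.Perm α) b = b
    rw [hg]; rfl
  set Δ := insert a (insert ((g : Equiv.Perm α) a) S) with hΔ
  have haS : a ∉ S := fun h => ha (hfix a h)
  have hgaS : (g : Equiv.Perm α) a ∉ S := fun h => ha (by
    have := hfix _ h
    rw [hgg] at this
    exact this.symm)
  have hcard : Δ.card = k := by
    rw [hΔ, Finset.card_insert_of_notMem, Finset.card_insert_of_notMem hgaS, hScard]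
    · omega
    · simp only [Finset.mem_insert, not_or]
      exact ⟨Ne.symm ha, haS⟩
  have hinv1 : ∀ b ∈ Δ, (g : Equiv.Perm α) b ∈ Δ := fun b hb => by
    simp only [hΔ, Finset.mem_insert] at hb ⊢
    rcases hb with rfl | rfl | hb
    · exact Or.inr (Or.inl rfl)
    · exact Or.inl (hgg a)
    · exact Or.inr (Or.inr ((hfix b hb).symm ▸ hb))
  have hinv : ∀ b, (g : Equiv.Perm α) b ∈ Δ ↔ b ∈ Δ :=
    fun b => ⟨fun h => hgg b ▸ hinv1 _ h, hinv1 b⟩
  have h1 := sign_subtypePerm hO g Δ hcard hinv
  have h2 : (g : Equiv.Perm α).subtypePerm hinv = Equiv.swap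
      ⟨a, by simp [hΔ]⟩ ⟨(g : Equiv.Perm α) a, by simp [hΔ]⟩ := by
    refine Equiv.ext fun b => ?_
    rcases b with ⟨b, hb⟩
    simp only [hΔ, Finset.mem_insert] at hb
    rcases hb with rfl | rfl | hb
    · rw [Equiv.swap_apply_left]; rfl
    · rw [Equiv.swap_apply_right]; exact Subtype.ext (hgg a)
    · rw [Equiv.swap_apply_of_ne_of_ne]
      · exact Subtype.ext (hfix b hb)
      · exact fun h => haS ((show b = a from congrArg Subtype.val h) ▸ hb)
      · exact fun h => hgaS ((show b = (g : Equiv.Perm α) a from congrArg Subtype.val h) ▸ hb)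
  rw [h2, Equiv.Perm.sign_swap (fun h => ha (congrArg Subtype.val h).symm)] at h1
  exact absurd h1 (by decide)

/-- The stabiliser of a long tuple has odd order. -/
theorem odd_stabilizer {k j : ℕ} (hk : 2 ≤ k) (hj : k ≤ j + 2)
    (hO : ∀ (x : Fin k ↪ α), ∀ π ∈ liftGroup G x, Equiv.Perm.sign π = 1) (x : Fin j ↪ α) :
    Odd (Nat.card (stabilizer G x)) := by
  by_contra h
  have := Fact.mk Nat.prime_two
  obtain ⟨z, hz⟩ := exists_prime_orderOf_dvd_card' (G := stabilizer G x) 2
    (even_iff_two_dvd.1 (Nat.not_odd_iff_even.1 h))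
  have hz2 : (z : G) * z = 1 := by
    have := congrArg Subtype.val (pow_orderOf_eq_one z)
    simpa [hz, pow_two] using this
  have hz1 : (z : G) ≠ 1 := fun e => by
    rw [show z = 1 from Subtype.ext e, orderOf_one] at hz
    omega
  have hle : (Finset.univ.map x).card ≤
      (Finset.univ.filter fun a : α => (z : G) • a = a).card := Finset.card_le_card fun a ha => by
    simp only [Finset.mem_map, Finset.mem_univ, true_and] at ha
    obtain ⟨i, rfl⟩ := ha
    exact Finset.mem_filter.2 ⟨Finset.mem_univ _, mem_stabilizer_tuple.1 z.2 i⟩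
  rw [Finset.card_map, Finset.card_univ, Fintype.card_fin] at hle
  have := fix_add_three_le hk hO hz2 hz1
  omega

/-- No group is `(k-1)`-transitive and induces only even permutations on `k`-sets, `k ≥ 6`. -/
theorem no_triple {k : ℕ} (hk : 6 ≤ k) (hn : k + 3 ≤ Fintype.card α)
    (h : IsMultiplyPretransitive G α (k - 1))
    (hO : ∀ (x : Fin k ↪ α), ∀ π ∈ liftGroup G x, Equiv.Perm.sign π = 1) : False := by
  classical
  obtain ⟨y⟩ : Nonempty (Fin (k - 1) ↪ α) :=
    Function.Embedding.nonempty_of_card_le (by rw [Fintype.card_fin]; omega)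
  set i0 : Fin (k - 1) := ⟨0, by omega⟩
  set i1 : Fin (k - 1) := ⟨1, by omega⟩
  have hπ : Equiv.swap i0 i1 ∈ liftGroup G y := by
    obtain ⟨g, hg⟩ := exists_smul_eq G y ((Equiv.swap i0 i1).toEmbedding.trans y)
    exact ⟨g, fun i => Function.Embedding.ext_iff.1 hg i⟩
  obtain ⟨u, hu, huy⟩ := exists_involution_lift (Equiv.swap_mul_self i0 i1)
    (odd_stabilizer (by omega) (by omega) hO y) hπ
  have hu1 : u ≠ 1 := fun e => by
    have := huy i0
    rw [e, one_smul, y.injective.eq_iff, Equiv.swap_apply_left] at this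
    simp [i0, i1, Fin.ext_iff] at this
  set F := Finset.univ.filter fun a : α => u • a = a with hF
  have hFup : F.card + 3 ≤ k := fix_add_three_le (by omega) hO hu hu1
  have hFlow : k - 3 ≤ F.card := by
    calc k - 3 = ((Finset.univ \ {i0, i1}).map y).card := by
          rw [Finset.card_map, Finset.card_sdiff_of_subset (Finset.subset_univ _),
            Finset.card_pair (by simp [i0, i1, Fin.ext_iff]), Finset.card_univ, Fintype.card_fin]
          omega
      _ ≤ _ := Finset.card_le_card fun a ha => by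
          simp only [Finset.mem_map, Finset.mem_sdiff, Finset.mem_insert, Finset.mem_singleton,
            not_or] at ha
          obtain ⟨i, ⟨-, hi0, hi1⟩, rfl⟩ := ha
          rw [hF, Finset.mem_filter]
          exact ⟨Finset.mem_univ _, by rw [huy, Equiv.swap_apply_of_ne_of_ne hi0 hi1]⟩
  have huu : ∀ b : α, u • u • b = b := fun b => by rw [← mul_smul, hu, one_smul]
  have hMcard : 6 ≤ Fᶜ.card := by rw [Finset.card_compl]; omega
  have hM : ∀ a ∈ Fᶜ, u • a ≠ a ∧ u • a ∈ Fᶜ := fun a ha => by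
    simp only [hF, Finset.mem_compl, Finset.mem_filter, Finset.mem_univ, true_and] at ha ⊢
    exact ⟨ha, fun h' => ha (MulAction.injective u h')⟩
  -- three pairs
  have pick : ∀ P : Finset α, P.card < 6 → ∃ a ∈ Fᶜ, a ∉ P := fun P hP =>
    Finset.exists_mem_notMem_of_card_lt_card (lt_of_lt_of_le hP hMcard)
  obtain ⟨a, haM, -⟩ := pick ∅ (by simp)
  obtain ⟨b, hbM, hb⟩ := pick {a, u • a} (by
    have := Finset.card_le_two (a := a) (b := u • a); omega)
  obtain ⟨c, hcM, hc⟩ := pick {a, u • a, b, u • b} (by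
    have := Finset.card_le_four (a := a) (b := u • a) (c := b) (d := u • b); omega)
  simp only [Finset.mem_insert, Finset.mem_singleton, not_or] at hb hc
  obtain ⟨hba, hbua⟩ := hb
  obtain ⟨hca, hcua, hcb, hcub⟩ := hc
  obtain ⟨S, hS, hScard⟩ := Finset.exists_subset_card_eq (show k - 6 ≤ F.card by omega)
  set D : Finset α := {a, u • a, b, u • b, c, u • c} with hD
  have hDcard : D.card = 6 := by
    have e1 := (hM a haM).1
    have e2 := (hM b hbM).1
    have e3 := (hM c hcM).1
    have e4 : u • b ≠ a := fun h' => hbua (by rw [← h', huu])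
    have e5 : u • c ≠ a := fun h' => hcua (by rw [← h', huu])
    have e6 : u • c ≠ b := fun h' => hcub (by rw [← h', huu])
    have e7 : u • b ≠ u • a := fun h' => hba (MulAction.injective u h')
    have e8 : u • c ≠ u • a := fun h' => hca (MulAction.injective u h')
    have e9 : u • c ≠ u • b := fun h' => hcb (MulAction.injective u h')
    simp [hD, Finset.card_insert_of_notMem, Ne.symm hba, Ne.symm hbua, Ne.symm hca, Ne.symm hcua,
      Ne.symm hcb, Ne.symm hcub, Ne.symm e1, Ne.symm e2, Ne.symm e3, Ne.symm e4, Ne.symm e5,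
      Ne.symm e6, Ne.symm e7, Ne.symm e8, Ne.symm e9]
  have hDM : D ⊆ Fᶜ := by
    simp [hD, Finset.insert_subset_iff, haM, hbM, hcM, (hM a haM).2, (hM b hbM).2, (hM c hcM).2]
  have hdisj : Disjoint D S := Finset.disjoint_left.2 fun z hz hz' =>
    Finset.mem_compl.1 (hDM hz) (hS hz')
  have hinv1 : ∀ z ∈ D ∪ S, (u : Equiv.Perm α) z ∈ D ∪ S := fun z hz => by
    rcases Finset.mem_union.1 hz with hz | hz
    · refine Finset.mem_union_left _ ?_
      change u • z ∈ D
      simp only [hD, Finset.mem_insert, Finset.mem_singleton] at hz ⊢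
      rcases hz with rfl | rfl | rfl | rfl | rfl | rfl <;> simp [huu]
    · refine Finset.mem_union_right _ ?_
      change u • z ∈ S
      rw [(Finset.mem_filter.1 (hS hz)).2]; exact hz
  have hinv : ∀ z, (u : Equiv.Perm α) z ∈ D ∪ S ↔ z ∈ D ∪ S :=
    fun z => ⟨fun h' => by have := hinv1 _ h'; rwa [show (u : Equiv.Perm α) ((u : Equiv.Perm α) z) = z
      from huu z] at this, hinv1 z⟩
  have h1 := sign_subtypePerm hO u (D ∪ S)
    (by rw [Finset.card_union_of_disjoint hdisj, hDcard, hScard]; omega) hinv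
  set τ := (u : Equiv.Perm α).subtypePerm hinv with hτ
  have hτ2 : τ ^ 2 = 1 := by
    rw [pow_two]
    exact Equiv.ext fun z => Subtype.ext (huu z)
  have hfixcard : Fintype.card (Function.fixedPoints τ) = S.card := by
    rw [← Fintype.card_coe S]
    refine Fintype.card_congr
      { toFun := fun z => ⟨z.1.1, ?_⟩
        invFun := fun z => ⟨⟨z.1, Finset.mem_union_right _ z.2⟩, ?_⟩
        left_inv := fun z => rfl
        right_inv := fun z => rfl }
    · rcases Finset.mem_union.1 z.1.2 with hz | hz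
      · exact absurd (congrArg Subtype.val z.2) (hM _ (hDM hz)).1
      · exact hz
    · exact Subtype.ext (Finset.mem_filter.1 (hS z.2)).2
  rw [Equiv.Perm.sign_of_pow_two_eq_one hτ2, hfixcard, Fintype.card_coe,
    Finset.card_union_of_disjoint hdisj, hDcard, hScard,
    show (6 + (k - 6) - (k - 6)) / 2 = 3 by omega] at h1
  exact absurd h1 (by decide)

end Cfsg.Agent.PermB.LW
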