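import Cfsg.Agent.PermB.InducedAltCount
import Cfsg.Agent.PermB.LWOdd

/-!
A group transitive on 5-sets inducing exactly the alternating group on each of them has degree at
most 6.
-/

set_option autoImplicit false

namespace Cfsg.Agent.PermB.LW

open MulAction

section Tools

variable {H : Type*} [Group H]

/-- An involutive map of a finite set of odd cardinality fixes a point. -/
theorem odd_fixed {X : Type*} [Fintype X] [DecidableEq X] (f : X → X) (hf : ∀ a, f (f a) = a)
    (hX : Odd (Fintype.card X)) : Odd (Finset.univ.filter fun a => f a = a).card := by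
  let σ : Equiv.Perm X := ⟨f, f, hf, hf⟩
  have := Fact.mk Nat.prime_two
  have h := Equiv.Perm.card_compl_support_modEq (σ := σ) (p := 2) (n := 1)
    (Equiv.ext fun a => by rw [pow_one, pow_two]; exact hf a)
  have e : σ.supportᶜ = Finset.univ.filter fun a => f a = a := by
    ext a
    simp [σ]
  rw [e] at h
  rw [Nat.odd_iff] at hX ⊢
  exact Eq.trans h hX

/-- If an involution normalising a subgroup `K` of odd order centralises a subgroup `P` of `K`,
it centralises every conjugate of `P` in `K` that it normalises. -/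
theorem centralise_conj [Finite H] {K P : Subgroup H} (hodd : Odd (Nat.card K)) {u k : H}
    (hu : u * u = 1) (huK : ∀ z ∈ K, u * z * u ∈ K) (hP : ∀ z ∈ P, u * z * u = z) (hk : k ∈ K)
    (hnorm : ∀ z ∈ P, ∃ z' ∈ P, u * (k * z * k⁻¹) * u = k * z' * k⁻¹) {z : H} (hz : z ∈ P) :
    u * (k * z * k⁻¹) * u = k * z * k⁻¹ := by
  have hui : u⁻¹ = u := inv_eq_of_mul_eq_one_left hu
  set n := k⁻¹ * (u * k * u) with hn
  have hnK : n ∈ K := K.mul_mem (K.inv_mem hk) (huK k hk)
  have key : ∀ y ∈ P, u * (k * y * k⁻¹) * u = k * (n * y * n⁻¹) * k⁻¹ := by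
    intro y hy
    calc u * (k * y * k⁻¹) * u = u * (k * (u * y * u) * k⁻¹) * u := by rw [hP y hy]
      _ = (u * k * u) * y * (u * k⁻¹ * u) := by group
      _ = k * (n * y * n⁻¹) * k⁻¹ := by
          rw [hn, mul_inv_rev, mul_inv_rev, mul_inv_rev, hui, inv_inv]; group
  have hnP : ∀ y ∈ P, n * y * n⁻¹ ∈ P := by
    intro y hy
    obtain ⟨y', hy', e⟩ := hnorm y hy
    rw [key y hy] at e
    rwa [show n * y * n⁻¹ = y' from mul_left_cancel (mul_right_cancel e)]
  have hun : u * n * u = n⁻¹ := by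
    rw [hn, mul_inv_rev, mul_inv_rev, mul_inv_rev, hui, inv_inv]
    calc u * (k⁻¹ * (u * k * u)) * u = u * k⁻¹ * u * k * (u * u) := by group
      _ = u * (k⁻¹ * u) * k := by rw [hu]; group
  have h1 : n⁻¹ * z * n = n * z * n⁻¹ := by
    calc n⁻¹ * z * n = (u * n * u) * (u * z * u) * (u * n * u)⁻¹ := by
          rw [hP z hz, hun, inv_inv]
      _ = u * n * (u * u) * z * n⁻¹ * u⁻¹ := by group
      _ = u * (n * z * n⁻¹) * u := by rw [hu, hui]; group
      _ = _ := hP _ (hnP z hz)
  have hcomm : z * (n * n) = (n * n) * z := by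
    calc z * (n * n) = n * (n⁻¹ * z * n) * n := by group
      _ = n * (n * z * n⁻¹) * n := by rw [h1]
      _ = _ := by group
  obtain ⟨m, hm⟩ := hodd
  have hpow : n ^ (2 * m + 1) = 1 := by
    have := congrArg Subtype.val (pow_card_eq_one' (x := (⟨n, hnK⟩ : K)))
    rw [hm] at this
    simpa using this
  have hn2 : n = (n * n) ^ (m + 1) := by
    rw [← pow_two, ← pow_mul, show 2 * (m + 1) = 2 * m + 1 + 1 by omega, pow_succ, hpow, one_mul]
  have hnz : z * n = n * z := by
    rw [hn2]
    exact (show Commute z (n * n) from hcomm).pow_right (m + 1)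
  rw [key z hz, ← hnz, mul_inv_cancel_right]

end Tools

variable {α : Type*} [Fintype α] [DecidableEq α] {G : Subgroup (Equiv.Perm α)}

noncomputable local instance (priority := 10) fintypeSubgroup : Fintype G := Fintype.ofFinite G

theorem emb_mul_smul {l : ℕ} (g h : G) (x : Fin l ↪ α) : (g * h) • x = g • h • x :=
  Function.Embedding.ext fun i => mul_smul g h (x i)

/-- Appending a point to a tuple. -/
def snocEmb {l : ℕ} (x : Fin l ↪ α) (c : α) (hc : ∀ i, x i ≠ c) : Fin (l + 1) ↪ α :=
  ⟨Fin.snoc x c, by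
    intro i j h
    induction i using Fin.lastCases <;> induction j using Fin.lastCases <;>
      simp_all [Fin.snoc_last, Fin.snoc_castSucc, x.injective.eq_iff]
    all_goals first | exact (hc _ h.symm).elim | exact (hc _ h).elim⟩

open scoped Classical in
/-- The involutions inducing a given permutation of a tuple. -/
noncomputable def invLifts (G : Subgroup (Equiv.Perm α)) (π : Equiv.Perm (Fin 4))
    (x : Fin 4 ↪ α) : Finset G :=
  Finset.univ.filter fun g => g * g = 1 ∧ InducedAlt.Pat π g x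

theorem mem_invLifts {π : Equiv.Perm (Fin 4)} {x : Fin 4 ↪ α} {g : G} :
    g ∈ invLifts G π x ↔ g * g = 1 ∧ InducedAlt.Pat π g x := by
  simp [invLifts]

theorem card_invLifts_eq (h4 : IsMultiplyPretransitive G α 4) (π : Equiv.Perm (Fin 4))
    (x y : Fin 4 ↪ α) : (invLifts G π x).card = (invLifts G π y).card := by
  obtain ⟨h, rfl⟩ := exists_smul_eq G x y
  refine Finset.card_bij' (fun g _ => h * g * h⁻¹) (fun g _ => h⁻¹ * g * h) (fun g hg => ?_)
    (fun g hg => ?_) (fun g _ => by group) (fun g _ => by group)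
  · obtain ⟨h1, h2⟩ := mem_invLifts.1 hg
    refine mem_invLifts.2 ⟨?_, InducedAlt.pat_conj h h2⟩
    rw [show h * g * h⁻¹ * (h * g * h⁻¹) = h * (g * g) * h⁻¹ by group, h1]; group
  · obtain ⟨h1, h2⟩ := mem_invLifts.1 hg
    refine mem_invLifts.2 ⟨?_, ?_⟩
    · rw [show h⁻¹ * g * h * (h⁻¹ * g * h) = h⁻¹ * (g * g) * h by group, h1]; group
    · intro i
      have := InducedAlt.pat_conj h⁻¹ h2 i
      rw [inv_inv] at this
      change (h⁻¹ * g * h) • h⁻¹ • h • x i = h⁻¹ • h • x (π i) at this
      rwa [inv_smul_smul, inv_smul_smul] at this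

theorem pat_conj_stab {π : Equiv.Perm (Fin 4)} {g z : G} {x : Fin 4 ↪ α}
    (hp : InducedAlt.Pat π g x) (hz : z ∈ stabilizer G x) :
    InducedAlt.Pat π (z * g * z⁻¹) x := by
  intro i
  have := InducedAlt.pat_conj z hp i
  change (z * g * z⁻¹) • z • x i = z • x (π i) at this
  rwa [mem_stabilizer_tuple.1 hz, mem_stabilizer_tuple.1 hz] at this

open scoped Classical in
/-- Orbit-stabiliser for the involutions inducing `π`. -/
theorem card_invLifts_mul {π : Equiv.Perm (Fin 4)} {x : Fin 4 ↪ α}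
    (hodd : Odd (Nat.card (stabilizer G x))) {g : G} (hg : g ∈ invLifts G π x) :
    (invLifts G π x).card * Nat.card ↥(Subgroup.centralizer ({g} : Set G) ⊓ stabilizer G x) =
      Nat.card (stabilizer G x) := by
  let _act : MulAction (stabilizer G x) (invLifts G π x) :=
    { smul := fun z h => ⟨(z : G) * h * (z : G)⁻¹, mem_invLifts.2
        ⟨by rw [show (z : G) * h * (z : G)⁻¹ * ((z : G) * h * (z : G)⁻¹) =
              z * ((h : G) * h) * (z : G)⁻¹ by group, (mem_invLifts.1 h.2).1]; group,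
          pat_conj_stab (mem_invLifts.1 h.2).2 z.2⟩⟩
      one_smul := fun h => Subtype.ext (by
        change ((1 : stabilizer G x) : G) * h * ((1 : stabilizer G x) : G)⁻¹ = h
        simp)
      mul_smul := fun z z' h => Subtype.ext (by
        change ((z * z' : stabilizer G x) : G) * h * ((z * z' : stabilizer G x) : G)⁻¹ =
          (z : G) * ((z' : G) * h * (z' : G)⁻¹) * (z : G)⁻¹
        rw [Subgroup.coe_mul]; group) }
  have htr : IsPretransitive (stabilizer G x) (invLifts G π x) := by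
    refine ⟨fun h h' => ?_⟩
    obtain ⟨hh, hp⟩ := mem_invLifts.1 h.2
    obtain ⟨hh', hp'⟩ := mem_invLifts.1 h'.2
    have hi : (h : G)⁻¹ = h := inv_eq_of_mul_eq_one_left hh
    set w : G := (h : G) * h' with hw
    have hwK : w ∈ stabilizer G x := by
      rw [hw, ← hi]
      exact InducedAlt.pat_inv_mul hp hp'
    have hhw : (h : G) * w * (h : G)⁻¹ = w⁻¹ := by
      rw [hw, mul_inv_rev, hi, ← mul_assoc, hh, one_mul, inv_eq_of_mul_eq_one_left hh']
    obtain ⟨m, hm⟩ := hodd
    have hwc : w ^ (2 * m + 1) = 1 := by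
      have := congrArg Subtype.val (pow_card_eq_one' (x := (⟨w, hwK⟩ : stabilizer G x)))
      rw [hm] at this
      simpa using this
    set z := w ^ (m + 1) with hz
    have hzz : z * z = w := by
      rw [hz, ← pow_add, show m + 1 + (m + 1) = 2 * m + 1 + 1 by omega, pow_succ, hwc, one_mul]
    have hgz : (h : G) * z * (h : G)⁻¹ = z⁻¹ := by
      rw [hz, ← conj_pow, hhw, inv_pow]
    refine ⟨⟨z⁻¹, inv_mem ((stabilizer G x).pow_mem hwK _)⟩, Subtype.ext ?_⟩
    change z⁻¹ * h * z⁻¹⁻¹ = h'
    rw [inv_inv, ← hgz, hi]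
    rw [show (h : G) * z * h * h * z = h * (z * ((h : G) * h) * z) by group, hh, mul_one, hzz, hw,
      ← mul_assoc, hh, one_mul]
  have h1 := (stabilizer (stabilizer G x) (⟨g, hg⟩ : invLifts G π x)).card_mul_index
  rw [@index_stabilizer_of_transitive (stabilizer G x) _ _ _ _ htr, Nat.card_eq_fintype_card
    (α := invLifts G π x), Fintype.card_coe] at h1
  rw [mul_comm, ← h1]
  congr 1
  refine Nat.card_congr
    { toFun := fun z => ⟨⟨z.1, z.2.2⟩, Subtype.ext ?_⟩
      invFun := fun z => ⟨z.1.1, ?_, z.1.2⟩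
      left_inv := fun z => rfl
      right_inv := fun z => rfl }
  · change (z : G) * g * (z : G)⁻¹ = g
    rw [Subgroup.mem_centralizer_singleton_iff.1 z.2.1]; group
  · have : (z.1 : G) * g * (z.1 : G)⁻¹ = g := congrArg Subtype.val z.2
    exact Subgroup.mem_centralizer_singleton_iff.2 (mul_inv_eq_iff_eq_mul.1 this)

section Five

theorem card_alternating_five : Nat.card (alternatingGroup (Fin 5)) = 60 := by
  rw [nat_card_alternatingGroup, Nat.card_fin]
  rfl

variable (h5 : Hom G 5)
  (hA : ∀ (x : Fin 5 ↪ α), ∀ π ∈ alternatingGroup (Fin 5), π ∈ liftGroup G x)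
  (hO : ∀ (x : Fin 5 ↪ α), ∀ π ∈ liftGroup G x, Equiv.Perm.sign π = 1)

include h5 hA hO

/-- The relation between the stabilisers of four and five points. -/
theorem two_mul_card_stabilizer (hn : 6 ≤ Fintype.card α) (x : Fin 4 ↪ α) (e : Fin 5 ↪ α) :
    2 * Nat.card (stabilizer G x) = (Fintype.card α - 4) * Nat.card (stabilizer G e) := by
  have h4 := transitive_of_even (le_refl 3 |>.trans (by norm_num : 3 ≤ 4)) hn hA
  have hL : Nat.card (liftGroup G e) = 60 := by
    rw [show liftGroup G e = alternatingGroup (Fin 5) from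
      le_antisymm (fun π hπ => Equiv.Perm.mem_alternatingGroup.2 (hO e π hπ)) (hA e),
      card_alternating_five]
  have h := card_formula h5 e
  rw [hL, card_of_transitive h4 x, Nat.descFactorial_succ _ 4, show Nat.factorial 5 = 120 from rfl] at h
  refine Nat.eq_of_mul_eq_mul_left
    (Nat.mul_pos (Nat.descFactorial_pos.2 (show 4 ≤ Fintype.card α by omega))
      (show 0 < 60 by norm_num)) ?_
  calc (Fintype.card α).descFactorial 4 * 60 * (2 * Nat.card (stabilizer G x))
      = (Fintype.card α).descFactorial 4 * Nat.card (stabilizer G x) * 120 := by ring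
    _ = _ := by rw [h]; ring

omit hA in
/-- A Sylow subgroup of a five-point stabiliser with at least five fixed points. -/
theorem exists_inherit {p : ℕ} (hp : p.Prime) (e : Fin 5 ↪ α)
    (hpe : p ∣ Nat.card (stabilizer G e)) (hpn : p ∣ Fintype.card α - 4) :
    ∃ F : Finset α, 7 ≤ F.card ∧ F.card < Fintype.card α ∧
      ∀ x y : Fin 5 ↪ α, (∀ i, x i ∈ F) → (∀ i, y i ∈ F) → ∀ g : G, g • x = y →
        ∃ h : G, (∀ a ∈ F, h • a ∈ F) ∧ h • x = y := by
  classical
  have := Fact.mk hp
  obtain ⟨P⟩ : Nonempty (Sylow p (stabilizer G e)) := inferInstance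
  set Q := (P : Subgroup (stabilizer G e)).map (stabilizer G e).subtype with hQ
  have hQe : Q ≤ stabilizer G e := Subgroup.map_subtype_le _
  have hQcard : Nat.card Q = p ^ (Nat.card (stabilizer G e)).factorization p := by
    rw [hQ, Nat.card_congr ((Subgroup.equivMapOfInjective _ _
        (stabilizer G e).subtype_injective).symm).toEquiv, P.card_eq_multiplicity]
  have hQp : IsPGroup p Q := P.2.map _
  set F := Finset.univ.filter fun a : α => ∀ q ∈ Q, q • a = a with hF
  have hfix : ∀ a, a ∈ F ↔ ∀ q ∈ Q, q • a = a := fun a => by simp [hF]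
  have hFe : ∀ i, e i ∈ F := fun i => (hfix _).2 fun q hq =>
    mem_stabilizer_tuple.1 (hQe hq) i
  have hn4 : 5 ≤ Fintype.card α := by simpa using Fintype.card_le_of_embedding e
  have h5F : 5 ≤ F.card := by
    calc 5 = (Finset.univ.map e).card := by simp
      _ ≤ _ := Finset.card_le_card fun a ha => by
          simp only [Finset.mem_map, Finset.mem_univ, true_and] at ha
          obtain ⟨i, rfl⟩ := ha
          exact hFe i
  have hne2 : p ≠ 2 := fun h2 => by
    have ho := odd_stabilizer (G := G) (by norm_num : 2 ≤ 5) (by norm_num : 5 ≤ 5 + 2) hO e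
    exact (Nat.not_even_iff_odd.2 ho) (even_iff_two_dvd.2 (h2 ▸ hpe))
  have hmod : Fintype.card α ≡ F.card [MOD p] := by
    have h := hQp.card_modEq_card_fixedPoints α
    rw [Nat.card_eq_fintype_card] at h
    refine h.trans (Nat.ModEq.symm ?_)
    rw [← Fintype.card_coe F, ← Nat.card_eq_fintype_card]
    exact congrArg (fun c => c % p) (Nat.card_congr (Equiv.subtypeEquivRight fun a => by
      rw [hfix, mem_fixedPoints]
      exact ⟨fun h q => h q.1 q.2, fun h q hq => h ⟨q, hq⟩⟩))
  have hdF : p ∣ F.card - 4 := by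
    have h1 : 4 ≡ Fintype.card α [MOD p] := (Nat.modEq_iff_dvd' (by omega)).2 hpn
    exact (Nat.modEq_iff_dvd' (by omega)).1 (h1.trans hmod)
  refine ⟨F, ?_, ?_, fun x y hx hy g hg => ?_⟩
  · have h3 : 3 ≤ p := by have := hp.two_le; omega
    have := Nat.le_of_dvd (by omega) hdF
    omega
  · obtain ⟨a0, ha0⟩ : ∃ a, a ∉ F := by
      by_contra h
      push Not at h
      have hbot : Q = ⊥ := (Subgroup.eq_bot_iff_forall Q).2 fun q hq =>
        eq_of_smul_eq_smul fun a : α => by rw [(hfix a).1 (h a) q hq, one_smul]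
      rw [hbot, Subgroup.card_bot] at hQcard
      exact absurd hQcard.symm (Nat.one_lt_pow
        (hp.factorization_pos_of_dvd Nat.card_pos.ne' hpe).ne' hp.one_lt).ne'
    exact Finset.card_lt_univ_of_notMem ha0
  set N := Subgroup.normalizer (Q : Set G) with hN
  have hNF : ∀ h ∈ N, ∀ c ∈ F, h • c ∈ F := by
    intro h hh c hc
    rw [hfix] at hc ⊢
    intro q hq
    have : h⁻¹ * q * h ∈ Q := (Subgroup.mem_normalizer_iff'.1 hh (h⁻¹ * q)).2 (by
      simpa [← mul_assoc] using hq)
    rw [← mul_smul, show q * h = h * (h⁻¹ * q * h) by group, mul_smul, hc _ this]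
  have hQy : Q ≤ stabilizer G y := fun q hq => mem_stabilizer_tuple.2 fun i =>
    (hfix _).1 (hy i) q hq
  have hQx : Q ≤ stabilizer G x := fun q hq => mem_stabilizer_tuple.2 fun i =>
    (hfix _).1 (hx i) q hq
  have hQy' : Q.map (MulAut.conj g).toMonoidHom ≤ stabilizer G y := by
    rintro _ ⟨q, hq, rfl⟩
    refine mem_stabilizer_tuple.2 fun i => ?_
    rw [← hg]
    change (g * q * g⁻¹) • g • x i = g • x i
    rw [mul_smul, mul_smul, inv_smul_smul, mem_stabilizer_tuple.1 (hQx hq)]
  have hc : ∀ A : Subgroup G, A ≤ stabilizer G y → Nat.card A = Nat.card Q →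
      Nat.card ↥(A.subgroupOf (stabilizer G y)) =
        p ^ (Nat.card (stabilizer G y)).factorization p := fun A hA hAc => by
    rw [Nat.card_congr (Subgroup.subgroupOfEquivOfLe hA).toEquiv, hAc, hQcard,
      card_stabilizer_eq h5 e y]
  let P₁ : Sylow p (stabilizer G y) := Sylow.ofCard _ (hc Q hQy rfl)
  let P₂ : Sylow p (stabilizer G y) := Sylow.ofCard _ (hc _ hQy'
    (Nat.card_congr (Q.equivMapOfInjective _ (MulAut.conj g).injective).symm.toEquiv))
  obtain ⟨h, hh⟩ := exists_smul_eq (stabilizer G y) P₂ P₁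
  refine ⟨h * g, fun a ha => hNF _ ?_ a ha, (emb_mul_smul _ _ _).trans (by
    rw [hg]
    exact Function.Embedding.ext (mem_stabilizer_tuple.1 h.2))⟩
  refine Subgroup.mem_normalizer_fintype fun q hq => ?_
  have hm : (⟨g * q * g⁻¹, hQy' ⟨q, hq, rfl⟩⟩ : stabilizer G y) ∈ (P₂ : Subgroup _) :=
    ⟨q, hq, rfl⟩
  have := Subgroup.smul_mem_pointwise_smul _ (MulAut.conj h) _ hm
  rw [← Sylow.coe_subgroup_smul, hh] at this
  have hq' : ((h : G) * (g * q * g⁻¹) * (h : G)⁻¹) ∈ Q := this
  rw [show (h : G) * g * q * ((h : G) * g)⁻¹ = h * (g * q * g⁻¹) * (h : G)⁻¹ by group]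
  exact hq'

omit h5 in
set_option maxHeartbeats 1000000 in
/-- The main step: a prime divisor of the orbit length of the four-point stabiliser divides the
five-point stabiliser. -/
theorem dvd_five (hn : 7 ≤ Fintype.card α) (h5 : Hom G 5) (e : Fin 5 ↪ α) {p : ℕ}
    (hp : p.Prime) (hpm : p ∣ (Fintype.card α - 4) / 2) :
    p ∣ Nat.card (stabilizer G e) ∧ p ∣ Fintype.card α - 4 := by
  classical
  have := Fact.mk hp
  have h4 : IsMultiplyPretransitive G α 4 := transitive_of_even (by norm_num) (by omega) hA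
  set n := Fintype.card α with hndef
  obtain ⟨x⟩ : Nonempty (Fin 4 ↪ α) :=
    Function.Embedding.nonempty_of_card_le (by rw [Fintype.card_fin]; omega)
  set κ := Nat.card (stabilizer G x) with hκ
  set e5 := Nat.card (stabilizer G e) with he5
  have hrel : 2 * κ = (n - 4) * e5 := two_mul_card_stabilizer h5 hA hO (by omega) x e
  have hoddK : ∀ y : Fin 4 ↪ α, Odd (Nat.card (stabilizer G y)) := fun y =>
    odd_stabilizer (by norm_num : 2 ≤ 5) (by norm_num) hO y
  obtain ⟨m, hm⟩ : 2 ∣ n - 4 := by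
    have ho : ¬ 2 ∣ e5 := fun h => (Nat.not_even_iff_odd.2
      (odd_stabilizer (by norm_num : 2 ≤ 5) (by norm_num) hO e)) (even_iff_two_dvd.2 h)
    exact ((Nat.prime_two.coprime_iff_not_dvd).2 ho).dvd_of_dvd_mul_right ⟨κ, hrel.symm⟩
  have hm2 : (n - 4) / 2 = m := by omega
  rw [hm2] at hpm
  refine ⟨?_, hm ▸ Dvd.dvd.mul_left hpm 2⟩
  by_contra hpe
  have hκm : κ = m * e5 := by
    have : 2 * κ = 2 * (m * e5) := by rw [hrel, hm, mul_assoc]
    omega
  -- involutions and their fixed points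
  set π₁ : Equiv.Perm (Fin 4) := InducedAlt.π₁ with hπ₁
  set π₂ : Equiv.Perm (Fin 4) := InducedAlt.π₂ with hπ₂
  have hπ₁s : π₁ * π₁ = 1 := by rw [hπ₁]; decide
  have hπ₂s : π₂ * π₂ = 1 := by rw [hπ₂]; decide
  have hexists : ∀ (π : Equiv.Perm (Fin 4)), π * π = 1 → ∀ y, ∃ g, g ∈ invLifts G π y :=
    fun π hπ y => by
      obtain ⟨g, hg, hp'⟩ := InducedAlt.exists_inv_pat h4 hπ (hoddK y)
      exact ⟨g, mem_invLifts.2 ⟨hg, hp'⟩⟩
  have hne : ∀ (g : G) (y : Fin 4 ↪ α), InducedAlt.Pat π₁ g y → g ≠ 1 := fun g y hp' h => by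
    have := hp' 0
    rw [h, one_smul, y.injective.eq_iff, hπ₁] at this
    exact absurd this (by decide)
  have hfix1 : ∀ y, ∀ g ∈ invLifts G π₁ y, (InducedAlt.fixS (Ω := α) g).card = 2 := by
    intro y g hg
    obtain ⟨hg2, hgp⟩ := mem_invLifts.1 hg
    refine le_antisymm ?_ ?_
    · have h := fix_add_three_le (k := 5) (by norm_num) hO hg2 (hne g y hgp)
      change (InducedAlt.fixS (Ω := α) g).card + 3 ≤ 5 at h
      omega
    · calc 2 = (({2, 3} : Finset (Fin 4)).map y).card := by rfl
        _ ≤ _ := Finset.card_le_card fun a ha => by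
          simp only [Finset.mem_map, Finset.mem_insert, Finset.mem_singleton] at ha
          obtain ⟨i, hi, rfl⟩ := ha
          rcases hi with rfl | rfl <;>
            exact InducedAlt.mem_fixS.2 ((hgp _).trans (congrArg y (by rw [hπ₁]; decide)))
  obtain ⟨u, hu⟩ := hexists π₁ hπ₁s x
  obtain ⟨hu2, hup⟩ := mem_invLifts.1 hu
  obtain ⟨y₂, hy₂⟩ : ∃ y : Fin 4 ↪ α, InducedAlt.Pat π₂ u y := by
    have hpos : 0 < (Finset.univ.filter fun y : Fin 4 ↪ α => InducedAlt.Pat π₂ u y).card := by
      rw [hπ₂, InducedAlt.card_pattern_two u hu2, hfix1 x u hu]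
      exact Nat.mul_pos (by omega) (by omega)
    obtain ⟨y, hy⟩ := Finset.card_pos.1 hpos
    exact ⟨y, (Finset.mem_filter.1 hy).2⟩
  have hfix2 : ∀ y, ∀ g ∈ invLifts G π₂ y, (InducedAlt.fixS (Ω := α) g).card = 2 := by
    intro y g hg
    obtain ⟨hg2, hgp⟩ := mem_invLifts.1 hg
    rw [InducedAlt.card_fixS_eq h4 (hoddK y₂) hu2 hy₂ hg2 hgp, hfix1 x u hu]
  set T := Finset.univ.filter fun g : G => g * g = 1 ∧ (InducedAlt.fixS (Ω := α) g).card = 2
    with hT
  have hsum : ∀ (π : Equiv.Perm (Fin 4)) (c : ℕ),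
      (∀ g ∈ T, (Finset.univ.filter fun y : Fin 4 ↪ α => InducedAlt.Pat π g y).card = c) →
      (∀ y, ∀ g ∈ invLifts G π y, (InducedAlt.fixS (Ω := α) g).card = 2) →
      T.card * c = n.descFactorial 4 * (invLifts G π x).card := by
    intro π c hc hf
    have e := Finset.sum_card_bipartiteAbove_eq_sum_card_bipartiteBelow (s := T)
      (t := (Finset.univ : Finset (Fin 4 ↪ α))) (fun g y => InducedAlt.Pat π g y)
    simp only [Finset.bipartiteAbove, Finset.bipartiteBelow] at e
    rw [Finset.sum_const_nat hc, Finset.sum_const_nat (m := (invLifts G π x).card) fun y _ => by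
      rw [card_invLifts_eq h4 π x y]
      congr 1
      ext g
      simp only [hT, Finset.mem_filter, Finset.mem_univ, true_and, mem_invLifts]
      exact ⟨fun h => ⟨h.1.1, h.2⟩, fun h => ⟨⟨h.1, hf y g (mem_invLifts.2 h)⟩, h.2⟩⟩,
      Finset.card_univ, Fintype.card_embedding_eq, Fintype.card_fin] at e
    exact e
  have e1 := hsum π₁ ((n - 2) * 2) (fun g hg => by
    rw [hπ₁, InducedAlt.card_pattern_one g (Finset.mem_filter.1 hg).2.1,
      (Finset.mem_filter.1 hg).2.2]) hfix1
  have e2 := hsum π₂ ((n - 2) * (n - 4)) (fun g hg => by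
    rw [hπ₂, InducedAlt.card_pattern_two g (Finset.mem_filter.1 hg).2.1,
      (Finset.mem_filter.1 hg).2.2, show n - 2 - 2 = n - 4 by omega]) hfix2
  set W₁ := (invLifts G π₁ x).card with hW₁
  set W₂ := (invLifts G π₂ x).card with hW₂
  have hEpos : 0 < n.descFactorial 4 := Nat.descFactorial_pos.2 (by omega)
  have hW : m * W₁ = W₂ := by
    refine Nat.eq_of_mul_eq_mul_left (show 0 < n.descFactorial 4 by exact hEpos) ?_
    rw [← e2, mul_comm m, ← mul_assoc, ← e1, hm]
    ring
  -- the commuting conjugate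
  set π₀ : Equiv.Perm (Fin 4) := Equiv.swap 0 2 * Equiv.swap 1 3 with hπ₀
  set x' : Fin 4 ↪ α := π₀.toEmbedding.trans x with hx'
  have hst : stabilizer G x' = stabilizer G x := by
    ext z
    rw [mem_stabilizer_tuple, mem_stabilizer_tuple]
    exact ⟨fun h i => by
      have := h (π₀.symm i)
      change z • x (π₀ (π₀.symm i)) = x (π₀ (π₀.symm i)) at this
      rwa [Equiv.apply_symm_apply] at this, fun h i => h _⟩
  have hoddW : ∀ π y, (invLifts G π y).Nonempty → Odd (invLifts G π y).card := fun π y ⟨g, hg⟩ =>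
    Odd.of_dvd_nat (hoddK y) ⟨_, (card_invLifts_mul (hoddK y) hg).symm⟩
  have hui : u⁻¹ = u := inv_eq_of_mul_eq_one_left hu2
  have hconjW : ∀ v ∈ invLifts G π₁ x', u * v * u ∈ invLifts G π₁ x' := by
    intro v hv
    obtain ⟨hv2, hvp⟩ := mem_invLifts.1 hv
    refine mem_invLifts.2 ⟨?_, fun i => ?_⟩
    · rw [show u * v * u * (u * v * u) = u * (v * (u * u) * v) * u by group, hu2, mul_one, hv2,
        mul_one, hu2]
    · have hx'i : ∀ j, x' j = x (π₀ j) := fun j => rfl
      obtain ⟨j, hj⟩ := π₀.surjective (π₁ (π₀ i))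
      have key : ∀ i j, π₀ j = π₁ (π₀ i) → π₁ (π₀ (π₁ j)) = π₀ (π₁ i) := by
        rw [hπ₀, hπ₁]; decide
      rw [mul_smul, mul_smul, hx'i i, hup, ← hj, ← hx'i, hvp, hx'i, hup, hx'i, key i j hj]
  obtain ⟨v, hv, huv⟩ : ∃ v ∈ invLifts G π₁ x', u * v * u = v := by
    obtain ⟨v₀, hv₀⟩ := hexists π₁ hπ₁s x'
    have h := odd_fixed (fun v : invLifts G π₁ x' => (⟨u * v * u, hconjW _ v.2⟩ : invLifts G π₁ x'))
      (fun v => Subtype.ext (by
        change u * (u * (v : G) * u) * u = v
        rw [show u * (u * (v : G) * u) * u = (u * u) * v * (u * u) by group, hu2, one_mul,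
          mul_one]))
      (by rw [Fintype.card_coe]; exact hoddW _ _ ⟨v₀, hv₀⟩)
    obtain ⟨v, hv⟩ := Finset.card_pos.1 h.pos
    exact ⟨v, v.2, congrArg Subtype.val (Finset.mem_filter.1 hv).2⟩
  obtain ⟨hv2, hvp⟩ := mem_invLifts.1 hv
  have hvu : v * u = u * v := by
    calc v * u = (u * v * u) * u := by rw [huv]
      _ = u * v * (u * u) := by group
      _ = u * v := by rw [hu2, mul_one]
  set σ := u * v with hσ
  have hσW : σ ∈ invLifts G π₂ x := by
    refine mem_invLifts.2 ⟨?_, fun i => ?_⟩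
    · rw [hσ, show u * v * (u * v) = u * (v * u) * v by group, hvu,
        show u * (u * v) * v = (u * u) * (v * v) by group, hu2, hv2, mul_one]
    · obtain ⟨j, rfl⟩ := π₀.surjective i
      rw [hσ, mul_smul]
      change u • v • x' j = _
      rw [hvp j]
      change u • x (π₀ (π₁ j)) = _
      rw [hup]
      refine congrArg x ?_
      revert j
      rw [hπ₀, hπ₁, hπ₂]
      decide
  -- orders of centralisers
  set K := stabilizer G x with hK
  have hc1 := card_invLifts_mul (hoddK x) hu
  have hc1' := card_invLifts_mul (hoddK x') hv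
  rw [card_invLifts_eq h4 π₁ x' x, hst] at hc1'
  have hc2 := card_invLifts_mul (hoddK x) hσW
  rw [← hκ, ← hW₁] at hc1
  rw [← hκ, ← hW₁] at hc1'
  rw [← hκ, ← hW₂, ← hW] at hc2
  have hW1pos : 0 < W₁ := Finset.card_pos.2 ⟨u, hu⟩
  set Cσ := Subgroup.centralizer ({σ} : Set G) ⊓ K with hCσ
  have hcdvd : ∀ C : Subgroup G, W₁ * Nat.card C = κ → m ∣ Nat.card C := fun C hC =>
    ⟨Nat.card Cσ, Nat.eq_of_mul_eq_mul_left hW1pos (by rw [hC, ← hc2]; ring)⟩
  set a := κ.factorization p with ha
  have hκ0 : κ ≠ 0 := Nat.card_pos.ne'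
  have hm0 : m ≠ 0 := by omega
  have hpa : ∀ C : Subgroup G, W₁ * Nat.card C = κ → p ^ a ∣ Nat.card C := fun C hC => by
    refine Dvd.dvd.trans ?_ (hcdvd C hC)
    have : a = m.factorization p := by
      rw [ha, hκm, Nat.factorization_mul hm0 Nat.card_pos.ne', Finsupp.add_apply,
        Nat.factorization_eq_zero_of_not_dvd hpe, add_zero]
    rw [this]
    exact Nat.ordProj_dvd m p
  -- the centraliser of `σ` lies in a five-point stabiliser
  have hσf := hfix2 x σ hσW
  have hCσ5 : ¬ p ∣ Nat.card Cσ := by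
    intro hdvd
    obtain ⟨c, hc⟩ : (InducedAlt.fixS (Ω := α) σ).Nonempty := Finset.card_pos.1 (by omega)
    have hcx : ∀ i, x i ≠ c := fun i hi => by
      have h := (mem_invLifts.1 hσW).2 i
      rw [← hi] at hc
      rw [InducedAlt.mem_fixS.1 hc, x.injective.eq_iff] at h
      revert h
      clear hi hc
      revert i
      rw [hπ₂]
      decide
    let e' : Fin 5 ↪ α := snocEmb x c hcx
    have hle : Cσ ≤ stabilizer G e' := by
      intro z hz
      have hzσ : z * σ = σ * z := Subgroup.mem_centralizer_singleton_iff.1 hz.1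
      refine mem_stabilizer_tuple.2 fun i => ?_
      induction i using Fin.lastCases with
      | cast i =>
        change z • (Fin.snoc x c : Fin 5 → α) i.castSucc = (Fin.snoc x c : Fin 5 → α) i.castSucc
        rw [Fin.snoc_castSucc]
        exact mem_stabilizer_tuple.1 hz.2 i
      | last =>
        change z • (Fin.snoc x c : Fin 5 → α) (Fin.last 4) = (Fin.snoc x c : Fin 5 → α) (Fin.last 4)
        rw [Fin.snoc_last]
        have hst' : ∀ b ∈ InducedAlt.fixS (Ω := α) σ, z • b ∈ InducedAlt.fixS (Ω := α) σ :=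
          fun b hb => by
            rw [InducedAlt.mem_fixS] at hb ⊢
            rw [← mul_smul, ← hzσ, mul_smul, hb]
        have hzc : z • z • c = c := by
          by_contra hne
          have h1 := hst' c hc
          have h2 := hst' _ h1
          have hne1 : z • c ≠ c := fun h => hne (by rw [h, h])
          have hsub : ({c, z • c, z • z • c} : Finset α).card
              ≤ (InducedAlt.fixS (Ω := α) σ).card :=
            Finset.card_le_card (by simp [Finset.insert_subset_iff, hc, h1, h2])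
          rw [Finset.card_eq_three.2 ⟨_, _, _, Ne.symm hne1, Ne.symm hne,
            fun h => hne1 (MulAction.injective z h).symm, rfl⟩, hσf] at hsub
          omega
        obtain ⟨l, hl⟩ := hoddK x
        have hz1 : z ^ (2 * l + 1) = 1 := by
          have := congrArg Subtype.val (pow_card_eq_one' (x := (⟨z, hz.2⟩ : stabilizer G x)))
          rw [hl] at this
          simpa using this
        have hzz : (z * z) ^ (l + 1) = z := by
          rw [← pow_two, ← pow_mul, show 2 * (l + 1) = 2 * l + 1 + 1 by omega, pow_succ, hz1,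
            one_mul]
        have : z * z ∈ stabilizer G c := by
          rw [mem_stabilizer_iff, mul_smul, hzc]
        rw [← hzz]
        exact (stabilizer G c).pow_mem this (l + 1)
    refine hpe ?_
    rw [he5, card_stabilizer_eq h5 e e']
    exact hdvd.trans (Subgroup.card_dvd_of_le hle)
  -- a common invariant Sylow subgroup
  have hKodd : Odd (Nat.card K) := hoddK x
  set S := Finset.univ.filter fun A : Subgroup G => A ≤ K ∧ Nat.card A = p ^ a with hS
  have hSodd : Odd (Fintype.card S) := by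
    have hcardS : Fintype.card S = Nat.card (Sylow p K) := by
      rw [← Nat.card_eq_fintype_card]
      refine Nat.card_congr
        { toFun := fun A => Sylow.ofCard (A.1.subgroupOf K) (by
            rw [Nat.card_congr (Subgroup.subgroupOfEquivOfLe (Finset.mem_filter.1 A.2).2.1).toEquiv,
              (Finset.mem_filter.1 A.2).2.2])
          invFun := fun P => ⟨(P : Subgroup K).map K.subtype, Finset.mem_filter.2
            ⟨Finset.mem_univ _, Subgroup.map_subtype_le _, by
              rw [Nat.card_congr ((Subgroup.equivMapOfInjective _ _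
                K.subtype_injective).symm).toEquiv, P.card_eq_multiplicity]⟩⟩
          left_inv := fun A => Subtype.ext (Subgroup.map_subgroupOf_eq_of_le
            (Finset.mem_filter.1 A.2).2.1)
          right_inv := fun P => Sylow.ext (Subgroup.comap_map_eq_self_of_injective
            K.subtype_injective _) }
    rw [hcardS]
    obtain ⟨P⟩ : Nonempty (Sylow p K) := inferInstance
    exact Odd.of_dvd_nat hKodd (P.card_eq_index_normalizer ▸ Subgroup.index_dvd_card _)
  have hnormK : ∀ (w : G) (π : Equiv.Perm (Fin 4)), w * w = 1 → InducedAlt.Pat π w x →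
      ∀ z ∈ K, w * z * w ∈ K := fun w π hw hwp z hz => mem_stabilizer_tuple.2 fun i => by
    rw [mul_smul, mul_smul, hwp, mem_stabilizer_tuple.1 hz, ← hwp, ← mul_smul, hw, one_smul]
  have huK := hnormK u π₁ hu2 hup
  have hvK : ∀ z ∈ K, v * z * v ∈ K := fun z hz => by
    have hz' : z ∈ stabilizer G x' := hst.symm ▸ hz
    refine hst ▸ mem_stabilizer_tuple.2 fun i => ?_
    rw [mul_smul, mul_smul, hvp, mem_stabilizer_tuple.1 hz', ← hvp, ← mul_smul, hv2, one_smul]
  have hmap : ∀ w : G, w * w = 1 → (∀ z ∈ K, w * z * w ∈ K) → ∀ A ∈ S,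
      A.map (MulAut.conj w).toMonoidHom ∈ S := by
    intro w hw hwK A hA
    obtain ⟨-, hAK, hAc⟩ := Finset.mem_filter.1 hA
    refine Finset.mem_filter.2 ⟨Finset.mem_univ _, ?_, ?_⟩
    · rintro _ ⟨z, hz, rfl⟩
      change w * z * w⁻¹ ∈ K
      rw [inv_eq_of_mul_eq_one_left hw]
      exact hwK z (hAK hz)
    · rw [← hAc]
      exact Nat.card_congr (A.equivMapOfInjective _ (MulAut.conj w).injective).symm.toEquiv
  have hinvol : ∀ w : G, w * w = 1 → ∀ A : Subgroup G,
      (A.map (MulAut.conj w).toMonoidHom).map (MulAut.conj w).toMonoidHom = A := by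
    intro w hw A
    rw [Subgroup.map_map]
    convert Subgroup.map_id A using 2
    refine MonoidHom.ext fun z => ?_
    change w * (w * z * w⁻¹) * w⁻¹ = z
    rw [inv_eq_of_mul_eq_one_left hw, show w * (w * z * w) * w = (w * w) * z * (w * w) by group,
      hw, one_mul, mul_one]
  set fu : S → S := fun A => ⟨_, hmap u hu2 huK A.1 A.2⟩ with hfu
  set fv : S → S := fun A => ⟨_, hmap v hv2 hvK A.1 A.2⟩ with hfv
  have hfufv : ∀ A, fu (fv A) = fv (fu A) := fun A => Subtype.ext (by
    change (A.1.map (MulAut.conj v).toMonoidHom).map (MulAut.conj u).toMonoidHom =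
      (A.1.map (MulAut.conj u).toMonoidHom).map (MulAut.conj v).toMonoidHom
    rw [Subgroup.map_map, Subgroup.map_map]
    congr 1
    refine MonoidHom.ext fun z => ?_
    change u * (v * z * v⁻¹) * u⁻¹ = v * (u * z * u⁻¹) * v⁻¹
    rw [show u * (v * z * v⁻¹) * u⁻¹ = (u * v) * z * (u * v)⁻¹ by group,
      show v * (u * z * u⁻¹) * v⁻¹ = (v * u) * z * (v * u)⁻¹ by group, hvu])
  have hfu2 : ∀ A, fu (fu A) = A := fun A => Subtype.ext (hinvol u hu2 A.1)
  have hfv2 : ∀ A, fv (fv A) = A := fun A => Subtype.ext (hinvol v hv2 A.1)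
  have hfixu := odd_fixed fu hfu2 hSodd
  set S' := Finset.univ.filter fun A => fu A = A with hS'
  obtain ⟨A, hA⟩ := Finset.card_pos.1 (odd_fixed
    (fun A : S' => (⟨fv A.1, Finset.mem_filter.2 ⟨Finset.mem_univ _, by
      rw [hfufv, (Finset.mem_filter.1 A.2).2]⟩⟩ : S'))
    (fun A => Subtype.ext (hfv2 A.1)) (by rw [Fintype.card_coe]; exact hfixu)).pos
  have hAu : fu A.1 = A.1 := (Finset.mem_filter.1 A.2).2
  have hAv : fv A.1 = A.1 := congrArg Subtype.val (Finset.mem_filter.1 hA).2
  obtain ⟨-, hAK, hAc⟩ := Finset.mem_filter.1 A.1.2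
  -- it is centralised by both involutions
  have hcent : ∀ w : G, w * w = 1 → (∀ z ∈ K, w * z * w ∈ K) →
      W₁ * Nat.card ↥(Subgroup.centralizer ({w} : Set G) ⊓ K) = κ →
      A.1.1.map (MulAut.conj w).toMonoidHom = A.1.1 → ∀ z ∈ A.1.1, w * z * w = z := by
    intro w hw hwK hwc hwA z hz
    have hwi : w⁻¹ = w := inv_eq_of_mul_eq_one_left hw
    set C := Subgroup.centralizer ({w} : Set G) ⊓ K with hC
    obtain ⟨P, hP⟩ := Sylow.exists_subgroup_card_pow_prime (G := C) p (hpa C hwc)
    set P' := P.map C.subtype with hP'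
    have hP'C : P' ≤ C := Subgroup.map_subtype_le _
    have hP'c : Nat.card P' = p ^ a := by
      rw [hP', Nat.card_congr ((Subgroup.equivMapOfInjective _ _ C.subtype_injective).symm).toEquiv,
        hP]
    let P₁ : Sylow p K := Sylow.ofCard (P'.subgroupOf K) (by
      rw [Nat.card_congr (Subgroup.subgroupOfEquivOfLe (hP'C.trans inf_le_right)).toEquiv, hP'c])
    let P₂ : Sylow p K := Sylow.ofCard (A.1.1.subgroupOf K) (by
      rw [Nat.card_congr (Subgroup.subgroupOfEquivOfLe hAK).toEquiv, hAc])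
    obtain ⟨k, hk⟩ := exists_smul_eq K P₁ P₂
    have hto : ∀ y ∈ P', (k : G) * y * (k : G)⁻¹ ∈ A.1.1 := by
      intro y hy
      have hm' : (⟨y, (hP'C hy).2⟩ : K) ∈ (P₁ : Subgroup K) := hy
      have := Subgroup.smul_mem_pointwise_smul _ (MulAut.conj k) _ hm'
      rw [← Sylow.coe_subgroup_smul, hk] at this
      exact this
    have hback : ∀ b ∈ A.1.1, ∃ y ∈ P', b = (k : G) * y * (k : G)⁻¹ := by
      intro b hb
      have hm' : (⟨b, hAK hb⟩ : K) ∈ ((k • P₁ : Sylow p K) : Subgroup K) := by rw [hk]; exact hb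
      rw [Sylow.coe_subgroup_smul] at hm'
      obtain ⟨y, hy, hyb⟩ := Subgroup.mem_map.1 hm'
      exact ⟨y, hy, (congrArg Subtype.val hyb).symm⟩
    obtain ⟨y, hy, rfl⟩ := hback z hz
    refine centralise_conj (P := P') hKodd hw hwK (fun b hb => ?_) k.2 (fun b hb => ?_) hy
    · have hb' : b * w = w * b := Subgroup.mem_centralizer_singleton_iff.1 (hP'C hb).1
      calc w * b * w = b * w * w := by rw [hb']
        _ = b := by rw [mul_assoc, hw, mul_one]
    · refine hback _ ?_
      rw [← hwA]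
      exact ⟨_, hto b hb, by
        change w * ((k : G) * b * (k : G)⁻¹) * w⁻¹ = _
        rw [hwi]⟩
  refine hCσ5 (Dvd.dvd.trans ?_ (Subgroup.card_dvd_of_le (show A.1.1 ≤ Cσ from fun z hz => ?_)))
  · rw [hAc]
    refine dvd_pow_self p ?_
    have hpk : p ∣ κ := hκm ▸ Dvd.dvd.mul_right hpm e5
    exact (hp.factorization_pos_of_dvd hκ0 hpk).ne'
  · refine ⟨Subgroup.mem_centralizer_singleton_iff.2 ?_, hAK hz⟩
    have h1 := hcent u hu2 huK hc1 (congrArg Subtype.val hAu) z hz
    have h2 := hcent v hv2 hvK hc1' (congrArg Subtype.val hAv) z hz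
    have h1' : z * u = u * z := by
      calc z * u = (u * z * u) * u := by rw [h1]
        _ = u * z := by rw [mul_assoc, hu2, mul_one]
    have h2' : z * v = v * z := by
      calc z * v = (v * z * v) * v := by rw [h2]
        _ = v * z := by rw [mul_assoc, hv2, mul_one]
    rw [hσ, ← mul_assoc, h1', mul_assoc, h2', mul_assoc]

end Five

universe w

theorem card_le_six_aux (N : ℕ) : ∀ {α : Type w} [Fintype α] [DecidableEq α]
    {G : Subgroup (Equiv.Perm α)}, Fintype.card α = N → 7 ≤ Fintype.card α → Hom G 5 →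
    (∀ (x : Fin 5 ↪ α), ∀ π ∈ alternatingGroup (Fin 5), π ∈ liftGroup G x) →
    (∀ (x : Fin 5 ↪ α), ∀ π ∈ liftGroup G x, Equiv.Perm.sign π = 1) → False := by
  induction N using Nat.strong_induction_on with
  | _ N ih =>
    intro α _ _ G hN hn h5 hA hO
    classical
    obtain ⟨e⟩ : Nonempty (Fin 5 ↪ α) :=
      Function.Embedding.nonempty_of_card_le (by rw [Fintype.card_fin]; omega)
    obtain ⟨p, hp, hpm⟩ := Nat.exists_prime_and_dvd
      (show (Fintype.card α - 4) / 2 ≠ 1 by
        intro h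
        -- the five-point stabiliser would have even index
        obtain ⟨x⟩ : Nonempty (Fin 4 ↪ α) :=
          Function.Embedding.nonempty_of_card_le (by rw [Fintype.card_fin]; omega)
        have hrel := two_mul_card_stabilizer h5 hA hO (by omega) x e
        have ho := odd_stabilizer (G := G) (by norm_num : 2 ≤ 5) (by norm_num) hO e
        rw [show Fintype.card α - 4 = 3 by omega] at hrel
        obtain ⟨l, hl⟩ := ho
        omega)
    obtain ⟨hpe, hpn⟩ := dvd_five hA hO hn h5 e hp hpm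
    obtain ⟨F, hF7, hFn, hF⟩ := exists_inherit h5 hO hp e hpe hpn
    let G' : Subgroup (Equiv.Perm F) :=
      { carrier := {τ | ∃ g ∈ G, ∀ a : F, g (a : α) = τ a}
        mul_mem' := fun {τ τ'} ⟨g, hg, hgτ⟩ ⟨g', hg', hgτ'⟩ => ⟨g * g', G.mul_mem hg hg',
          fun a => by rw [Equiv.Perm.mul_apply, hgτ', hgτ, Equiv.Perm.mul_apply]⟩
        one_mem' := ⟨1, G.one_mem, fun a => rfl⟩
        inv_mem' := fun {τ} ⟨g, hg, hgτ⟩ => ⟨g⁻¹, G.inv_mem hg, fun a => by
          rw [Equiv.Perm.inv_def, Equiv.symm_apply_eq, hgτ, Equiv.Perm.inv_def,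
            Equiv.apply_symm_apply]⟩ }
    have hlift : ∀ (x y : Fin 5 ↪ F) (π : Equiv.Perm (Fin 5)) (g : G),
        (∀ i, g • (x i : α) = y (π i)) → ∃ τ : G', ∀ i, τ • x i = y (π i) := by
      intro x y π g hg
      obtain ⟨h, hhF, hxy⟩ := hF (x.trans (Function.Embedding.subtype _))
        (π.toEmbedding.trans (y.trans (Function.Embedding.subtype _))) (fun i => (x i).2)
        (fun i => (y (π i)).2) g (Function.Embedding.ext hg)
      have hinj : Function.Injective (fun a : F => (⟨h • (a : α), hhF a a.2⟩ : F)) :=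
        fun a b e => Subtype.ext (MulAction.injective h (congrArg Subtype.val e))
      let τ : Equiv.Perm F := Equiv.ofBijective _ (Finite.injective_iff_bijective.1 hinj)
      exact ⟨⟨τ, h, h.2, fun a => rfl⟩, fun i => Subtype.ext (Function.Embedding.ext_iff.1 hxy i)⟩
    refine ih F.card (hN ▸ hFn) (G := G') (Fintype.card_coe F) (by rwa [Fintype.card_coe])
      (fun x y => ?_) (fun x π hπ => ?_) (fun x π hπ => ?_)
    · obtain ⟨g, π, hg⟩ := h5 (x.trans (Function.Embedding.subtype _))
        (y.trans (Function.Embedding.subtype _))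
      obtain ⟨τ, hτ⟩ := hlift x y π g hg
      exact ⟨τ, π, hτ⟩
    · obtain ⟨g, hg⟩ := hA (x.trans (Function.Embedding.subtype _)) π hπ
      exact hlift x x π g hg
    · obtain ⟨τ, hτ⟩ := hπ
      obtain ⟨g, hg, hgτ⟩ := τ.2
      exact hO (x.trans (Function.Embedding.subtype _)) π ⟨⟨g, hg⟩, fun i =>
        (hgτ (x i)).trans (congrArg Subtype.val (hτ i))⟩

/-- No group of degree at least 7 is transitive on 5-sets inducing exactly the alternating group
on each of them. -/
theorem no_five {α : Type w} [Fintype α] [DecidableEq α] {G : Subgroup (Equiv.Perm α)}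
    (hn : 7 ≤ Fintype.card α) (h5 : Hom G 5)
    (hA : ∀ (x : Fin 5 ↪ α), ∀ π ∈ alternatingGroup (Fin 5), π ∈ liftGroup G x)
    (hO : ∀ (x : Fin 5 ↪ α), ∀ π ∈ liftGroup G x, Equiv.Perm.sign π = 1) : False :=
  card_le_six_aux _ rfl hn h5 hA hO

end Cfsg.Agent.PermB.LW
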