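import Cfsg.Agent.PermB.LWSharp

/-!
Excluding the sporadic numerical solutions in the Livingstone–Wagner lemma.
-/

set_option autoImplicit false

namespace Cfsg.Agent.PermB.LW

open MulAction Finset

variable {α : Type*} [Fintype α] [DecidableEq α] {G : Subgroup (Equiv.Perm α)}

omit [DecidableEq α] in
/-- An involution in the point stabiliser of a `j`-tuple, if its order is even. -/
theorem exists_involution_stab {j : ℕ} (y : Fin j ↪ α)
    (h : 2 ∣ Nat.card (stabilizer G y)) :
    ∃ z : G, z * z = 1 ∧ z ≠ 1 ∧ ∀ i, z • y i = y i := by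
  have := Fact.mk Nat.prime_two
  obtain ⟨z, hz⟩ := exists_prime_orderOf_dvd_card' (G := stabilizer G y) 2 h
  refine ⟨z, ?_, fun e => ?_, mem_stabilizer_tuple.1 z.2⟩
  · have := congrArg Subtype.val (pow_orderOf_eq_one z)
    simpa [hz, pow_two] using this
  · rw [show z = 1 from Subtype.ext e, orderOf_one] at hz
    omega

theorem exists_moved {g : G} (hg : g ≠ 1) : ∃ a : α, g • a ≠ a := by
  by_contra h
  push Not at h
  exact hg (Subtype.ext (Equiv.ext h))

theorem two_dvd_lift {k : ℕ} {x : Fin k ↪ α} {π : Equiv.Perm (Fin k)} (hπ : π * π = 1)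
    (hπ1 : π ≠ 1) (h : π ∈ liftGroup G x) : 2 ∣ Nat.card (liftGroup G x) := by
  have h2 : orderOf (⟨π, h⟩ : liftGroup G x) = 2 := orderOf_eq_prime
    (Subtype.ext (by rw [SubmonoidClass.coe_pow, pow_two, hπ]; rfl))
    fun e => hπ1 (congrArg Subtype.val e)
  exact h2 ▸ orderOf_dvd_natCard _

/-- No group of degree 5, transitive on pairs and triples, has point stabilisers of order 2. -/
theorem no_five_two (hn : Fintype.card α = 5) (y : Fin 1 ↪ α)
    (hs : Nat.card (stabilizer G y) = 2)
    (h1 : ∀ x : Fin 2 ↪ α, Nat.card (liftGroup G x) = 1) : False := by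
  obtain ⟨z, hz2, hz1, -⟩ := exists_involution_stab y (by rw [hs])
  obtain ⟨a, ha⟩ := exists_moved hz1
  have hzz : z • z • a = a := by rw [← mul_smul, hz2, one_smul]
  let x : Fin 2 ↪ α := ⟨![a, z • a], fun i j h => by
    fin_cases i <;> fin_cases j <;> simp at h ⊢ <;> grind⟩
  have hl : Equiv.swap (0 : Fin 2) 1 ∈ liftGroup G x := ⟨z, fun i => by
    fin_cases i
    · rfl
    · exact hzz⟩
  have := two_dvd_lift (Equiv.swap_mul_self _ _) (by decide) hl
  rw [h1 x] at this
  omega

/-- No group of degree 6, transitive on triples, has two-point stabilisers of order 2 and induces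
groups of order 3 on triples. -/
theorem no_six_two (y : Fin 2 ↪ α) (hs : Nat.card (stabilizer G y) = 2)
    (h1 : ∀ x : Fin 3 ↪ α, Nat.card (liftGroup G x) = 3) : False := by
  obtain ⟨z, hz2, hz1, hzy⟩ := exists_involution_stab y (by rw [hs])
  obtain ⟨a, ha⟩ := exists_moved hz1
  have hzz : z • z • a = a := by rw [← mul_smul, hz2, one_smul]
  have hya : y 0 ≠ a := fun e => ha (e ▸ hzy 0)
  have hyza : y 0 ≠ z • a := fun e => ha (by
    have := hzy 0
    rw [e, hzz] at this
    exact this.symm)
  let x : Fin 3 ↪ α := ⟨![y 0, a, z • a], fun i j h => by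
    fin_cases i <;> fin_cases j <;> simp at h ⊢ <;> grind⟩
  have hl : Equiv.swap (1 : Fin 3) 2 ∈ liftGroup G x := ⟨z, fun i => by
    fin_cases i
    · exact hzy 0
    · rfl
    · exact hzz⟩
  have := two_dvd_lift (Equiv.swap_mul_self _ _) (by decide) hl
  rw [h1 x] at this
  omega

/-- No group of order 330 on 11 points is regular on 4-sets with trivial three-point stabilisers. -/
theorem no_eleven (hn : Fintype.card α = 11) (hG : 2 ∣ Nat.card G)
    (h3 : ∀ x : Fin 3 ↪ α, Nat.card (stabilizer G x) = 1)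
    (h2 : ∀ x : Fin 4 ↪ α, Nat.card (liftGroup G x) = 1) : False := by
  have := Fact.mk Nat.prime_two
  obtain ⟨z, hz⟩ := exists_prime_orderOf_dvd_card' (G := G) 2 hG
  have hz2 : z * z = 1 := by
    have := pow_orderOf_eq_one z
    rwa [hz, pow_two] at this
  have hz1 : z ≠ 1 := fun e => by rw [e, orderOf_one] at hz; omega
  obtain ⟨a, ha⟩ := exists_moved hz1
  have hzz : ∀ b : α, z • z • b = b := fun b => by rw [← mul_smul, hz2, one_smul]
  obtain ⟨b, hb, hba, hbza⟩ : ∃ b : α, z • b ≠ b ∧ b ≠ a ∧ b ≠ z • a := by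
    by_contra h
    push Not at h
    -- otherwise the involution fixes three points
    have hfix : ∀ c ∈ (univ \ {a, z • a} : Finset α), z • c = c := fun c hc => by
      simp only [mem_sdiff, Finset.mem_univ, true_and, Finset.mem_insert, Finset.mem_singleton,
        not_or] at hc
      by_contra hne
      exact hc.2 (h c hne hc.1)
    obtain ⟨S, hS, hScard⟩ := Finset.exists_subset_card_eq
      (show 3 ≤ (univ \ {a, z • a} : Finset α).card by
        have h1 := Finset.le_card_sdiff ({a, z • a} : Finset α) univ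
        have h2 := Finset.card_le_two (a := a) (b := z • a)
        rw [Finset.card_univ, hn] at h1
        omega)
    let x : Fin 3 ↪ α := (S.equivFinOfCardEq hScard).symm.toEmbedding.trans
      (Function.Embedding.subtype _)
    have hzx : z ∈ stabilizer G x := mem_stabilizer_tuple.2 fun i =>
      hfix _ (hS ((S.equivFinOfCardEq hScard).symm i).2)
    obtain ⟨hsub, -⟩ := Nat.card_eq_one_iff_unique.1 (h3 x)
    exact hz1 (congrArg Subtype.val (Subsingleton.elim (⟨z, hzx⟩ : stabilizer G x) 1))
  have e1 : z • b ≠ a := fun h => hbza (by rw [← h, hzz])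
  have e2 : z • b ≠ z • a := fun h => hba (MulAction.injective z h)
  let x : Fin 4 ↪ α := ⟨![a, z • a, b, z • b], fun i j h => by
    fin_cases i <;> fin_cases j <;> simp at h ⊢ <;> grind⟩
  have hl : InducedAlt.π₂ ∈ liftGroup G x := ⟨z, fun i => by
    fin_cases i
    · rfl
    · exact hzz a
    · rfl
    · exact hzz b⟩
  have := two_dvd_lift (by decide) (by decide) hl
  rw [h2 x] at this
  omega

omit [DecidableEq α] in
theorem eq_one_of_four (h4 : ∀ x : Fin 4 ↪ α, Nat.card (stabilizer G x) = 1) {g : G}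
    (x : Fin 4 ↪ α) (h : ∀ i, g • x i = x i) : g = 1 := by
  obtain ⟨hsub, -⟩ := Nat.card_eq_one_iff_unique.1 (h4 x)
  exact congrArg Subtype.val (Subsingleton.elim
    (⟨g, mem_stabilizer_tuple.2 h⟩ : stabilizer G x) 1)

open scoped Classical in
/-- Summing a pattern count: if `T` is large enough then every tuple carries the pattern. -/
theorem all_lifted (h4 : ∀ x : Fin 4 ↪ α, Nat.card (stabilizer G x) = 1)
    (π : Equiv.Perm (Fin 4)) (T : Finset G) {c : ℕ}
    (hc : ∀ g ∈ T, (univ.filter fun y : Fin 4 ↪ α => InducedAlt.Pat π g y).card = c)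
    (hT : (Fintype.card α).descFactorial 4 ≤ T.card * c) (y : Fin 4 ↪ α) :
    π ∈ liftGroup G y := by
  classical
  have := Fintype.ofFinite G
  have e := sum_card_bipartiteAbove_eq_sum_card_bipartiteBelow (s := T)
    (t := (univ : Finset (Fin 4 ↪ α))) (fun g y => InducedAlt.Pat π g y)
  simp only [bipartiteAbove, bipartiteBelow] at e
  rw [sum_const_nat hc] at e
  have hle : ∀ y' ∈ (univ : Finset (Fin 4 ↪ α)),
      (T.filter fun g => InducedAlt.Pat π g y').card ≤ 1 := fun y' _ =>
    (InducedAlt.card_pat_le π y' T).trans (h4 y').le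
  have hsum : ∑ y' ∈ (univ : Finset (Fin 4 ↪ α)), 1 ≤
      ∑ y' ∈ (univ : Finset (Fin 4 ↪ α)), (T.filter fun g => InducedAlt.Pat π g y').card := by
    rw [← e, ← card_eq_sum_ones, card_univ, Fintype.card_embedding_eq, Fintype.card_fin]
    exact hT
  have := (sum_eq_sum_iff_of_le hle).1 (le_antisymm (sum_le_sum hle) hsum) y (Finset.mem_univ y)
  obtain ⟨g, hg⟩ := card_pos.1 (by omega : 0 < (T.filter fun g => InducedAlt.Pat π g y).card)
  exact ⟨g, (Finset.mem_filter.1 hg).2⟩

/-- No group of degree 9 with three-point stabilisers of order 2 induces groups of order 8 on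
quadruples. -/
theorem no_nine (hn : Fintype.card α = 9)
    (h3 : ∀ x : Fin 3 ↪ α, Nat.card (stabilizer G x) = 2)
    (h4 : ∀ x : Fin 4 ↪ α, Nat.card (stabilizer G x) = 1)
    (hL : ∀ x : Fin 4 ↪ α, Nat.card (liftGroup G x) = 8) : False := by
  classical
  have := Fintype.ofFinite G
  set T := univ.filter fun g : G => g * g = 1 ∧ (InducedAlt.fixS (Ω := α) g).card = 3 with hT
  have hfix : ∀ (g : G) (x : Fin 3 ↪ α), g ≠ 1 → (∀ i, g • x i = x i) →
      InducedAlt.fixS (Ω := α) g = univ.map x := by
    intro g x hg1 hgx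
    refine le_antisymm (fun a ha => ?_) fun a ha => ?_
    · by_contra hax
      simp only [Finset.mem_map, Finset.mem_univ, true_and, not_exists] at hax
      refine hg1 (eq_one_of_four h4 (snocEmb x a hax) fun i => ?_)
      induction i using Fin.lastCases with
      | cast i => rw [snocEmb_castSucc]; exact hgx i
      | last => rw [snocEmb_last]; exact InducedAlt.mem_fixS.1 ha
    · simp only [Finset.mem_map, Finset.mem_univ, true_and] at ha
      obtain ⟨i, rfl⟩ := ha
      exact InducedAlt.mem_fixS.2 (hgx i)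
  have hcount : (univ : Finset (Fin 3 ↪ α)).card ≤ T.card * 6 := by
    have hex : ∀ x : Fin 3 ↪ α, ∃ z : G, z ∈ T ∧ ∀ i, z • x i = x i := fun x => by
      obtain ⟨z, hz2, hz1, hzx⟩ := exists_involution_stab x (by rw [h3 x])
      exact ⟨z, Finset.mem_filter.2 ⟨Finset.mem_univ _, hz2, by
        rw [hfix z x hz1 hzx, card_map, card_univ, Fintype.card_fin]⟩, hzx⟩
    have e := sum_card_bipartiteAbove_eq_sum_card_bipartiteBelow (s := T)
      (t := (univ : Finset (Fin 3 ↪ α))) (fun g x => ∀ i, g • x i = x i)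
    simp only [bipartiteAbove, bipartiteBelow] at e
    have hup : ∀ g ∈ T, (univ.filter fun x : Fin 3 ↪ α => ∀ i, g • x i = x i).card = 6 := by
      intro g hg
      rw [← Fintype.card_subtype]
      let e' : {x : Fin 3 ↪ α // ∀ i, g • x i = x i} ≃ (Fin 3 ↪ InducedAlt.fixS (Ω := α) g) :=
        { toFun := fun x => ⟨fun i => ⟨x.1 i, InducedAlt.mem_fixS.2 (x.2 i)⟩,
            fun i j h => x.1.injective (congrArg Subtype.val h)⟩
          invFun := fun y => ⟨y.trans (Function.Embedding.subtype _),
            fun i => InducedAlt.mem_fixS.1 (y i).2⟩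
          left_inv := fun x => rfl
          right_inv := fun y => rfl }
      rw [Fintype.card_congr e', Fintype.card_embedding_eq, Fintype.card_fin, Fintype.card_coe,
        (Finset.mem_filter.1 hg).2.2]
      rfl
    rw [sum_const_nat hup] at e
    rw [e, card_eq_sum_ones]
    exact sum_le_sum fun x _ => by
      obtain ⟨z, hz, hzx⟩ := hex x
      exact card_pos.2 ⟨z, Finset.mem_filter.2 ⟨hz, hzx⟩⟩
  rw [card_univ, Fintype.card_embedding_eq, Fintype.card_fin, hn,
    show Nat.descFactorial 9 3 = 504 from rfl] at hcount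
  have hall : ∀ y : Fin 4 ↪ α, Equiv.swap (0 : Fin 4) 1 ∈ liftGroup G y :=
    all_lifted h4 InducedAlt.π₁ T (c := 36) (fun g hg => by
      rw [InducedAlt.card_pattern_one g (Finset.mem_filter.1 hg).2.1,
        (Finset.mem_filter.1 hg).2.2, hn]) (by
      rw [hn, show Nat.descFactorial 9 4 = 3024 from rfl]; omega)
  obtain ⟨y⟩ : Nonempty (Fin 4 ↪ α) :=
    Function.Embedding.nonempty_of_card_le (by rw [Fintype.card_fin]; omega)
  have := hL y
  rw [top_of_swap (by decide) hall y, Subgroup.card_top, Nat.card_perm, Nat.card_fin] at this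
  exact absurd this (by decide)

/-- No sharply 3-transitive group of degree 7 exists. -/
theorem no_seven (hn : Fintype.card α = 7) (ht : IsMultiplyPretransitive G α 3)
    (h3 : ∀ x : Fin 3 ↪ α, Nat.card (stabilizer G x) = 1)
    (hL : ∀ x : Fin 4 ↪ α, Nat.card (liftGroup G x) = 6) : False := by
  classical
  have := Fintype.ofFinite G
  have h3' : ∀ (g : G) (x : Fin 3 ↪ α), (∀ i, g • x i = x i) → g = 1 := fun g x h => by
    obtain ⟨hsub, -⟩ := Nat.card_eq_one_iff_unique.1 (h3 x)
    exact congrArg Subtype.val (Subsingleton.elim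
      (⟨g, mem_stabilizer_tuple.2 h⟩ : stabilizer G x) 1)
  have h4 : ∀ x : Fin 4 ↪ α, Nat.card (stabilizer G x) = 1 := fun x => by
    rw [(Subgroup.eq_bot_iff_forall (stabilizer G x)).2 fun g hg => h3' g (Fin.castSuccEmb.trans x)
      fun i => mem_stabilizer_tuple.1 hg _, Subgroup.card_bot]
  set T := univ.filter fun g : G => g * g = 1 ∧ (InducedAlt.fixS (Ω := α) g).card = 1 with hT
  have hswap : ∀ x : Fin 3 ↪ α, ∃ g : G, g ∈ T ∧ g • x 0 = x 1 ∧ g • x 1 = x 0 ∧
      InducedAlt.fixS (Ω := α) g = {x 2} := by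
    intro x
    obtain ⟨g, hg⟩ := exists_smul_eq G x ((Equiv.swap (0 : Fin 3) 1).toEmbedding.trans x)
    have hgi : ∀ i, g • x i = x (Equiv.swap (0 : Fin 3) 1 i) := fun i =>
      Function.Embedding.ext_iff.1 hg i
    have g0 : g • x 0 = x 1 := hgi 0
    have g1 : g • x 1 = x 0 := hgi 1
    have g2 : g • x 2 = x 2 := (hgi 2).trans (congrArg x (by decide))
    have hg2 : g * g = 1 := h3' _ x fun i => by
      rw [mul_smul, hgi, hgi, Equiv.swap_apply_self]
    have hg1 : g ≠ 1 := fun e => by
      rw [e, one_smul, x.injective.eq_iff] at g0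
      exact absurd g0 (by decide)
    have hlt : (InducedAlt.fixS (Ω := α) g).card < 3 := by
      by_contra hge
      obtain ⟨S, hS, hScard⟩ := Finset.exists_subset_card_eq (Nat.le_of_not_lt hge)
      exact hg1 (h3' g ((S.equivFinOfCardEq hScard).symm.toEmbedding.trans
        (Function.Embedding.subtype _)) fun i =>
          InducedAlt.mem_fixS.1 (hS ((S.equivFinOfCardEq hScard).symm i).2))
    have hmem : x 2 ∈ InducedAlt.fixS (Ω := α) g := InducedAlt.mem_fixS.2 g2
    have hev : (InducedAlt.fixS (Ω := α) g).card ≠ 2 := fun h2 => by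
      have h := Equiv.Perm.card_compl_support_modEq (σ := (g : Equiv.Perm α)) (p := 2) (n := 1)
        (by rw [pow_one, pow_two]; exact congrArg Subtype.val hg2)
      have e : (g : Equiv.Perm α).supportᶜ = InducedAlt.fixS (Ω := α) g := by
        ext a
        rw [InducedAlt.mem_fixS, Finset.mem_compl, Equiv.Perm.mem_support, not_not]
        rfl
      rw [e, h2, hn] at h
      exact absurd h (by decide)
    have hf1 : InducedAlt.fixS (Ω := α) g = {x 2} := by
      refine (Finset.eq_of_subset_of_card_le (Finset.singleton_subset_iff.2 hmem) ?_).symm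
      rw [Finset.card_singleton]
      have := card_pos.2 ⟨_, hmem⟩
      omega
    exact ⟨g, Finset.mem_filter.2 ⟨Finset.mem_univ _, hg2, by rw [hf1, card_singleton]⟩,
      g0, g1, hf1⟩
  choose f hfT hf0 hf1 hff using hswap
  have hT210 : 210 ≤ T.card * 6 := by
    have hle : (univ : Finset (Fin 3 ↪ α)).card ≤
        (T.sigma fun g => (InducedAlt.fixS (Ω := α) g)ᶜ).card := by
      refine Finset.card_le_card_of_injOn (fun x => (⟨f x, x 0⟩ : Σ _ : G, α)) (fun x _ => ?_) ?_
      · refine Finset.mem_sigma.2 ⟨hfT x, Finset.mem_compl.2 ?_⟩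
        change x 0 ∉ InducedAlt.fixS (f x)
        rw [hff x, Finset.mem_singleton, x.injective.eq_iff]
        decide
      · intro x _ y _ h
        simp only [Sigma.mk.injEq, heq_eq_eq] at h
        have h2 : x 2 = y 2 := Finset.singleton_injective ((hff x).symm.trans (h.1 ▸ hff y))
        have h1 : x 1 = y 1 := by rw [← hf0 x, ← hf0 y, h.1, h.2]
        ext i
        fin_cases i
        exacts [h.2, h1, h2]
    rw [card_sigma, sum_const_nat (m := 6) fun g hg => by
      rw [card_compl, (Finset.mem_filter.1 hg).2.2, hn], card_univ, Fintype.card_embedding_eq,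
      Fintype.card_fin, hn] at hle
    exact hle
  have hall : ∀ y : Fin 4 ↪ α, InducedAlt.π₂ ∈ liftGroup G y :=
    all_lifted h4 InducedAlt.π₂ T (c := 24) (fun g hg => by
      rw [InducedAlt.card_pattern_two g (Finset.mem_filter.1 hg).2.1,
        (Finset.mem_filter.1 hg).2.2, hn]) (by
      rw [hn, show Nat.descFactorial 7 4 = 840 from rfl]; omega)
  obtain ⟨y⟩ : Nonempty (Fin 4 ↪ α) :=
    Function.Embedding.nonempty_of_card_le (by rw [Fintype.card_fin]; omega)
  -- two conjugate patterns generate a group of order 4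
  set σ : Equiv.Perm (Fin 4) := Equiv.swap 1 2 with hσ
  set b : Equiv.Perm (Fin 4) := σ * InducedAlt.π₂ * σ with hb
  have hbmem : b ∈ liftGroup G y := by
    obtain ⟨g, hg⟩ := hall (σ.toEmbedding.trans y)
    refine ⟨g, fun i => ?_⟩
    obtain ⟨t, rfl⟩ := σ.surjective i
    refine (hg t).trans (congrArg y ?_)
    revert t
    rw [hb, hσ]
    decide
  let V : Subgroup (Equiv.Perm (Fin 4)) :=
    { carrier := {π | π = 1 ∨ π = InducedAlt.π₂ ∨ π = b ∨ π = InducedAlt.π₂ * b}
      mul_mem' := by
        intro p q hp hq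
        simp only [Set.mem_setOf_eq] at hp hq ⊢
        rcases hp with rfl | rfl | rfl | rfl <;> rcases hq with rfl | rfl | rfl | rfl <;>
          rw [hb, hσ] <;> decide
      one_mem' := Or.inl rfl
      inv_mem' := by
        intro p hp
        simp only [Set.mem_setOf_eq] at hp ⊢
        rcases hp with rfl | rfl | rfl | rfl <;> rw [hb, hσ] <;> decide }
  have hV : V ≤ liftGroup G y := by
    rintro p (rfl | rfl | rfl | rfl)
    exacts [one_mem _, hall y, hbmem, mul_mem (hall y) hbmem]
  have hVcard : Nat.card V = 4 := by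
    rw [Nat.card_eq_fintype_card]
    rw [Fintype.card_of_subtype {1, InducedAlt.π₂, b, InducedAlt.π₂ * b}]
    · rw [hb, hσ]; decide
    · intro p
      simp only [Finset.mem_insert, Finset.mem_singleton]
      exact Iff.rfl
  have := Subgroup.card_dvd_of_le hV
  rw [hVcard, hL y] at this
  exact absurd this (by decide)

/-- Sylow's theorem excludes some orders in prime degree or degree one more than a prime. -/
theorem no_prime_degree {p M : ℕ} (hp : p.Prime) (hn : Fintype.card α = p)
    (hG : Nat.card G = p * M) (hM : ¬ p ∣ M)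
    (hbad : ∀ d, d ≤ p - 1 → d ∣ p - 1 → d ∣ M → M / d % p ≠ 1) : False := by
  obtain ⟨d, hd1, hd2, hd3⟩ := prime_degree hp hn hG hM
  exact hbad d (Nat.le_of_dvd (by have := hp.two_le; omega) hd1) hd1 hd2 hd3

theorem no_prime_stabilizer (ht : IsPretransitive G α) {p M : ℕ} (hp : p.Prime)
    (hn : Fintype.card α = p + 1) (hG : Nat.card G = (p + 1) * (p * M)) (hM : ¬ p ∣ M)
    (hbad : ∀ d, d ≤ p - 1 → d ∣ p - 1 → d ∣ M → M / d % p ≠ 1) : False := by
  obtain ⟨a⟩ : Nonempty α := Fintype.card_pos_iff.1 (by omega)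
  have : FaithfulSMul (stabilizer G a) (SubMulAction.ofStabilizer G a) := by
    refine ⟨fun {g g'} h => Subtype.ext (Subtype.ext (Equiv.ext fun b => ?_))⟩
    by_cases hb : b = a
    · subst hb
      exact (g.2 : g.1 • b = b).trans (g'.2 : g'.1 • b = b).symm
    · exact congrArg Subtype.val (h ⟨b, hb⟩)
  have : Fintype (SubMulAction.ofStabilizer G a) := Fintype.ofFinite _
  have hcard : Fintype.card (SubMulAction.ofStabilizer G a) = p := by
    have e : Fintype.card (SubMulAction.ofStabilizer G a) = ({a}ᶜ : Finset α).card := by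
      rw [← Fintype.card_coe]
      exact Fintype.card_congr (Equiv.subtypeEquivRight fun b => by
        rw [Finset.mem_compl, Finset.mem_singleton]; exact Iff.rfl)
    rw [e, card_compl, card_singleton, hn]
    omega
  have horder : Nat.card (stabilizer G a) = p * M := by
    have h := (stabilizer G a).card_mul_index
    rw [@index_stabilizer_of_transitive G _ _ _ a ht, Nat.card_eq_fintype_card (α := α), hn, hG,
      mul_comm (p + 1) (p * M)] at h
    exact Nat.eq_of_mul_eq_mul_right (by omega) h
  obtain ⟨d, hd1, hd2, hd3⟩ := prime_degree hp hcard horder hM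
  exact hbad d (Nat.le_of_dvd (by have := hp.two_le; omega) hd1) hd1 hd2 hd3

end Cfsg.Agent.PermB.LW
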