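import Cfsg.Agent.PermB.InducedAlt
import Cfsg.Agent.PermB.HomogDown
import Cfsg.Agent.PermB.LWSmall

/-!
The Livingstone–Wagner theorem.
-/

set_option autoImplicit false

namespace Cfsg.Agent.PermB.LW

open MulAction

variable {α : Type*} [Fintype α] [DecidableEq α] {G : Subgroup (Equiv.Perm α)}

theorem lift_conj {k : ℕ} {x y : Fin k ↪ α} {g : G} {π σ : Equiv.Perm (Fin k)}
    (hg : ∀ i, g • x i = y (π i)) (hσ : σ ∈ liftGroup G x) :
    π * σ * π⁻¹ ∈ liftGroup G y := by
  obtain ⟨h, hh⟩ := hσ
  refine ⟨g * h * g⁻¹, fun i => ?_⟩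
  obtain ⟨t, rfl⟩ := π.surjective i
  rw [← hg, mul_smul, mul_smul, inv_smul_smul, hh, hg]
  refine congrArg y ?_
  rw [Equiv.Perm.mul_apply, Equiv.Perm.mul_apply, Equiv.Perm.inv_def, Equiv.symm_apply_apply]

/-- If `G` is transitive on `k`-sets, induces all even permutations on one of them and is not
`k`-transitive, then it induces exactly the alternating group on each. -/
theorem exactly_alternating {k : ℕ} (hk : 2 ≤ k) (h : Hom G k)
    (hnt : ¬ IsMultiplyPretransitive G α k)
    (hA : ∃ x : Fin k ↪ α, ∀ π ∈ alternatingGroup (Fin k), π ∈ liftGroup G x) :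
    (∀ (x : Fin k ↪ α), ∀ π ∈ alternatingGroup (Fin k), π ∈ liftGroup G x) ∧
      (∀ (x : Fin k ↪ α), ∀ π ∈ liftGroup G x, Equiv.Perm.sign π = 1) ∧
      (∀ x : Fin k ↪ α, 2 * Nat.card (liftGroup G x) = k.factorial) := by
  obtain ⟨x₀, hx₀⟩ := hA
  have hall : ∀ (x : Fin k ↪ α), ∀ π ∈ alternatingGroup (Fin k), π ∈ liftGroup G x := by
    intro x π hπ
    obtain ⟨g, τ, hg⟩ := h x₀ x
    have := lift_conj hg (hx₀ (τ⁻¹ * π * τ) (by
      rw [Equiv.Perm.mem_alternatingGroup] at hπ ⊢
      rw [map_mul, map_mul, map_inv, hπ, mul_one, inv_mul_cancel]))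
    rwa [show τ * (τ⁻¹ * π * τ) * τ⁻¹ = π by group] at this
  have hO : ∀ (x : Fin k ↪ α), ∀ π ∈ liftGroup G x, Equiv.Perm.sign π = 1 := by
    intro x π hπ
    by_contra hs
    refine hnt (transitive_of_top h fun y => top_unique fun τ _ => ?_)
    obtain ⟨g, ρ, hg⟩ := h x y
    have hy := lift_conj hg hπ
    rcases Int.units_eq_one_or (Equiv.Perm.sign τ) with ht | ht
    · exact hall y τ (Equiv.Perm.mem_alternatingGroup.2 ht)
    · have h1 : τ * (ρ * π * ρ⁻¹)⁻¹ ∈ liftGroup G y := hall y _ (by
        rw [Equiv.Perm.mem_alternatingGroup, map_mul, map_inv, map_mul, map_mul, map_inv, ht,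
          (Int.units_eq_one_or _).resolve_left hs]
        rcases Int.units_eq_one_or (Equiv.Perm.sign ρ) with e | e <;> rw [e] <;> decide)
      have h2 := mul_mem h1 hy
      rwa [inv_mul_cancel_right] at h2
  refine ⟨hall, hO, fun x => ?_⟩
  have : Nontrivial (Fin k) := Fin.nontrivial_iff_two_le.2 hk
  rw [show liftGroup G x = alternatingGroup (Fin k) from le_antisymm
    (fun π hπ => Equiv.Perm.mem_alternatingGroup.2 (hO x π hπ)) (hall x),
    two_mul_nat_card_alternatingGroup, Nat.card_perm, Nat.card_fin]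

/-- From `S0747`: a `(k-1)`-transitive group induces the even permutations on some `k`-set. -/
theorem exists_alternating {k : ℕ} (hk : 5 ≤ k) (hkn : k ≤ Fintype.card α)
    (ht : IsMultiplyPretransitive G α (k - 1)) :
    ∃ x : Fin k ↪ α, ∀ π ∈ alternatingGroup (Fin k), π ∈ liftGroup G x := by
  obtain ⟨Δ, hΔ, hind⟩ := InducedAlt.exists_induced G (k := k - 1) (by omega) (by omega) ht
  set e := Δ.equivFinOfCardEq (show Δ.card = k by omega) with he
  refine ⟨e.symm.toEmbedding.trans (Function.Embedding.subtype _), fun π hπ => ?_⟩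
  obtain ⟨g, hg, hgσ⟩ := hind (e.symm.permCongr π) (by
    rw [Equiv.Perm.mem_alternatingGroup, Equiv.Perm.sign_permCongr]
    exact Equiv.Perm.mem_alternatingGroup.1 hπ)
  refine ⟨⟨g, hg⟩, fun i => (hgσ (e.symm i)).trans ?_⟩
  rw [Equiv.permCongr_apply, Equiv.symm_symm, Equiv.apply_symm_apply]
  rfl

set_option maxRecDepth 4000 in
theorem solutions_three : ∀ r : Fin 3, ∀ s : Fin 4, 2 ≤ r.val → r.val ∣ 2 →
    r.val * (r.val * s.val - 1) ∣ 6 → 2 < r.val * s.val → r.val = 2 ∧ s.val = 2 := by decide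

set_option maxRecDepth 4000 in
theorem solutions_four : ∀ r : Fin 7, ∀ s : Fin 8, 2 ≤ r.val → r.val ∣ 6 →
    r.val * (r.val * s.val - 1) ∣ 24 → 2 < r.val * s.val →
    (r.val = 2 ∧ s.val = 2) ∨ (r.val = 3 ∧ s.val = 1) ∨ (r.val = 3 ∧ s.val = 3) := by decide

set_option maxRecDepth 4000 in
theorem solutions_five : ∀ r : Fin 25, ∀ s : Fin 32, 2 ≤ r.val → r.val ∣ 24 →
    r.val * (r.val * s.val - 1) ∣ 120 → 2 < r.val * s.val →
    (r.val = 2 ∧ s.val = 2) ∨ (r.val = 2 ∧ s.val = 3) ∨ (r.val = 2 ∧ s.val = 8) ∨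
      (r.val = 3 ∧ s.val = 1) ∨ (r.val = 3 ∧ s.val = 2) ∨ (r.val = 3 ∧ s.val = 3) ∨
      (r.val = 3 ∧ s.val = 7) ∨ (r.val = 4 ∧ s.val = 1) ∨ (r.val = 4 ∧ s.val = 4) ∨
      (r.val = 6 ∧ s.val = 1) ∨ (r.val = 8 ∧ s.val = 2) := by decide

theorem bound_of_dvd {r s B : ℕ} (hr : 2 ≤ r) (hB : 0 < B) (h : r * (r * s - 1) ∣ B) :
    s < B / 4 + 2 := by
  have h1 := Nat.le_of_dvd hB h
  rcases Nat.eq_zero_or_pos s with rfl | hs
  · omega
  have h2 : 2 * (2 * s - 1) ≤ r * (r * s - 1) :=
    Nat.mul_le_mul hr (Nat.sub_le_sub_right (Nat.mul_le_mul_right s hr) 1)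
  omega

/-- The exceptions in the Livingstone–Wagner lemma. -/
theorem exceptions (G : Subgroup (Equiv.Perm α)) {k : ℕ} (hk : 3 ≤ k)
    (hkn : k ≤ Fintype.card α) (ht : IsMultiplyPretransitive G α (k - 2))
    (hnt : ¬ IsMultiplyPretransitive G α (k - 1)) (hh1 : Hom G (k - 1)) (hh : Hom G k) :
    (k = Fintype.card α ∧ G = alternatingGroup α) ∨
      (Fintype.card α = 5 ∧ k = 4 ∧ Nat.card G = 20) ∨
      (Fintype.card α = 6 ∧ k = 5 ∧ Nat.card G = 120) ∨
      (Fintype.card α = 9 ∧ k = 5 ∧ (Nat.card G = 504 ∨ Nat.card G = 1512)) := by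
  classical
  rcases eq_or_lt_of_le hkn with hkeq | hlt
  · left
    refine ⟨hkeq, ?_⟩
    have hA : alternatingGroup α ≤ G := _root_.IsMultiplyPretransitive.alternatingGroup_le α G
      (by rwa [Nat.card_eq_fintype_card, ← hkeq])
    have : Nontrivial α := Fintype.one_lt_card_iff_nontrivial.1 (by omega)
    have hidx := Subgroup.relIndex_mul_index hA
    rw [alternatingGroup.index_eq_two] at hidx
    rcases (Nat.dvd_prime Nat.prime_two).1 (Dvd.intro _ hidx) with h | h
    · exact le_antisymm (Subgroup.relIndex_eq_one.1 h) hA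
    · exfalso
      have hGi : G.index = 1 := by rw [h] at hidx; omega
      rw [Subgroup.index_eq_one] at hGi
      refine hnt ?_
      have hperm : IsMultiplyPretransitive (Equiv.Perm α) α (k - 1) :=
        Equiv.Perm.isMultiplyPretransitive α _
      refine ⟨fun x y => ?_⟩
      obtain ⟨g, hg⟩ := exists_smul_eq (Equiv.Perm α) x y
      exact ⟨⟨g, hGi ▸ Subgroup.mem_top g⟩, hg⟩
  -- the generic case
  obtain ⟨j, rfl⟩ : ∃ j, k = j + 2 := ⟨k - 2, by omega⟩
  simp only [Nat.add_sub_cancel, show j + 2 - 1 = j + 1 by omega] at ht hnt hh1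
  obtain ⟨x₁⟩ : Nonempty (Fin (j + 1) ↪ α) :=
    Function.Embedding.nonempty_of_card_le (by rw [Fintype.card_fin]; omega)
  obtain ⟨x₂⟩ : Nonempty (Fin (j + 2) ↪ α) :=
    Function.Embedding.nonempty_of_card_le (by rw [Fintype.card_fin]; omega)
  obtain ⟨r, s, hr, hn, hG, hs, he, hL1, hL2⟩ := sharp ht hnt hh1 hh (by omega) x₁ x₂
  have hL1' : ∀ x : Fin (j + 1) ↪ α, (j + 1).factorial = r * Nat.card (liftGroup G x) := fun x => by
    obtain ⟨r', s', -, hn', -, hs2, -, h1', -⟩ := sharp ht hnt hh1 hh (by omega) x x₂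
    obtain ⟨y⟩ : Nonempty (Fin j ↪ α) :=
      Function.Embedding.nonempty_of_card_le (by rw [Fintype.card_fin]; omega)
    have hs0 : 0 < s := hs y ▸ Nat.card_pos
    have hss : s' = s := (hs2 y).symm.trans (hs y)
    rw [hn, hss] at hn'
    rwa [Nat.eq_of_mul_eq_mul_right hs0 (Nat.add_right_cancel hn')]
  have hL2' : ∀ x : Fin (j + 2) ↪ α,
      (j + 2).factorial = r * (r * s - 1) * Nat.card (liftGroup G x) := fun x => by
    obtain ⟨r', s', -, hn', -, hs2, -, -, h2'⟩ := sharp ht hnt hh1 hh (by omega) x₁ x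
    obtain ⟨y⟩ : Nonempty (Fin j ↪ α) :=
      Function.Embedding.nonempty_of_card_le (by rw [Fintype.card_fin]; omega)
    have hs0 : 0 < s := hs y ▸ Nat.card_pos
    have hss : s' = s := (hs2 y).symm.trans (hs y)
    rw [hn, hss] at hn'
    rw [hss] at h2'
    rwa [Nat.eq_of_mul_eq_mul_right hs0 (Nat.add_right_cancel hn')]
  have hd1 : r ∣ (j + 1).factorial := Dvd.intro _ hL1.symm
  have hd2 : r * (r * s - 1) ∣ (j + 2).factorial := Dvd.intro _ hL2.symm
  have hrs : 2 < r * s := by omega
  have hrle := Nat.le_of_dvd (Nat.factorial_pos _) hd1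
  have hsle := bound_of_dvd hr (Nat.factorial_pos _) hd2
  obtain hj | hj | hj | hj : j = 1 ∨ j = 2 ∨ j = 3 ∨ 4 ≤ j := by omega
  · subst hj
    rw [show Nat.factorial (1 + 1) = 2 from rfl] at hd1 hrle
    rw [show Nat.factorial (1 + 2) = 6 from rfl] at hd2 hsle
    obtain ⟨rfl, rfl⟩ := solutions_three ⟨r, by omega⟩ ⟨s, by omega⟩ hr hd1 hd2 hrs
    exfalso
    obtain ⟨y⟩ : Nonempty (Fin 1 ↪ α) :=
      Function.Embedding.nonempty_of_card_le (by rw [Fintype.card_fin]; omega)
    refine no_five_two (G := G) (by omega) y (hs y) fun x => ?_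
    have := hL1' x
    change 2 = 2 * Nat.card (liftGroup G x) at this
    omega
  · subst hj
    rw [show Nat.factorial (2 + 1) = 6 from rfl] at hd1 hrle
    rw [show Nat.factorial (2 + 2) = 24 from rfl] at hd2 hsle
    rcases solutions_four ⟨r, by omega⟩ ⟨s, by omega⟩ hr hd1 hd2 hrs with
      ⟨rfl, rfl⟩ | ⟨rfl, rfl⟩ | ⟨rfl, rfl⟩
    · exfalso
      obtain ⟨y⟩ : Nonempty (Fin 2 ↪ α) :=
        Function.Embedding.nonempty_of_card_le (by rw [Fintype.card_fin]; omega)
      refine no_six_two (G := G) y (hs y) fun x => ?_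
      have := hL1' x
      change 6 = 2 * Nat.card (liftGroup G x) at this
      omega
    · right; left
      refine ⟨by omega, rfl, ?_⟩
      rw [hG, show Fintype.card α = 5 by omega]
      rfl
    · exfalso
      refine no_eleven (G := G) (by omega) ?_ he fun x => ?_
      · rw [hG, show Fintype.card α = 11 by omega]; decide
      · have := hL2' x
        change 24 = 3 * (3 * 3 - 1) * Nat.card (liftGroup G x) at this
        omega
  · subst hj
    rw [show Nat.factorial (3 + 1) = 24 from rfl] at hd1 hrle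
    rw [show Nat.factorial (3 + 2) = 120 from rfl] at hd2 hsle
    have he3 : ∀ x : Fin 3 ↪ α, Nat.card (stabilizer G x) = s := hs
    have hlift : ∀ x : Fin 4 ↪ α, 24 = r * Nat.card (liftGroup G x) := fun x => by
      have := hL1' x
      rw [show Nat.factorial (3 + 1) = 24 from rfl] at this
      exact this
    rcases solutions_five ⟨r, by omega⟩ ⟨s, by omega⟩ hr hd1 hd2 hrs with
      ⟨rfl, rfl⟩ | ⟨rfl, rfl⟩ | ⟨rfl, rfl⟩ | ⟨rfl, rfl⟩ | ⟨rfl, rfl⟩ | ⟨rfl, rfl⟩ | ⟨rfl, rfl⟩ |
        ⟨rfl, rfl⟩ | ⟨rfl, rfl⟩ | ⟨rfl, rfl⟩ | ⟨rfl, rfl⟩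
    · exfalso
      refine no_prime_degree (G := G) (p := 7) (M := 60) (by norm_num) (by omega) ?_ (by norm_num)
        (by decide)
      rw [hG, show Fintype.card α = 7 by omega]; rfl
    · right; right; right
      refine ⟨by omega, rfl, Or.inr ?_⟩
      rw [hG, show Fintype.card α = 9 by omega]; rfl
    · exfalso
      refine no_prime_degree (G := G) (p := 19) (M := 2448) (by norm_num) (by omega) ?_
        (by norm_num) (by decide)
      rw [hG, show Fintype.card α = 19 by omega]; rfl
    · right; right; left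
      refine ⟨by omega, rfl, ?_⟩
      rw [hG, show Fintype.card α = 6 by omega]; rfl
    · exfalso
      refine no_nine (G := G) (by omega) he3 he fun x => ?_
      have := hlift x
      omega
    · exfalso
      have : IsMultiplyPretransitive G α 1 := MulAction.isMultiplyPretransitive_of_le (n := 3)
        (by norm_num) (by rw [Nat.card_eq_fintype_card]; omega)
      refine no_prime_stabilizer (G := G) (MulAction.is_one_pretransitive_iff.1 this) (p := 11)
        (M := 30) (by norm_num) (by omega) ?_ (by norm_num) (by decide)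
      rw [hG, show Fintype.card α = 12 by omega]; rfl
    · exfalso
      have : IsMultiplyPretransitive G α 1 := MulAction.isMultiplyPretransitive_of_le (n := 3)
        (by norm_num) (by rw [Nat.card_eq_fintype_card]; omega)
      refine no_prime_stabilizer (G := G) (MulAction.is_one_pretransitive_iff.1 this) (p := 23)
        (M := 154) (by norm_num) (by omega) ?_ (by norm_num) (by decide)
      rw [hG, show Fintype.card α = 24 by omega]; rfl
    · exfalso
      refine no_seven (G := G) (by omega) ht he3 fun x => ?_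
      have := hlift x
      omega
    · exfalso
      refine no_prime_degree (G := G) (p := 19) (M := 1224) (by norm_num) (by omega) ?_
        (by norm_num) (by decide)
      rw [hG, show Fintype.card α = 19 by omega]; rfl
    · right; right; right
      refine ⟨by omega, rfl, Or.inl ?_⟩
      rw [hG, show Fintype.card α = 9 by omega]; rfl
    · exfalso
      refine no_prime_degree (G := G) (p := 19) (M := 612) (by norm_num) (by omega) ?_
        (by norm_num) (by decide)
      rw [hG, show Fintype.card α = 19 by omega]; rfl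
  -- degree at least six
  exfalso
  obtain ⟨hA, hO, hcard⟩ := exactly_alternating (by omega) hh1 hnt
    (exists_alternating (k := j + 1) (by omega) (by omega) ht)
  have hr2 : r = 2 := by
    have h := hcard x₁
    rw [hL1] at h
    exact (Nat.eq_of_mul_eq_mul_right Nat.card_pos h).symm
  subst hr2
  rcases eq_or_lt_of_le hj with hj4 | hj5
  · subst hj4
    exact no_five (by omega) hh1 hA hO
  · exact no_triple (k := j + 1) (by omega) (by omega) ht hO

/-- Homogeneity descends. -/
theorem hom_pred {k : ℕ} (hk : 2 ≤ k) (hkn : 2 * k ≤ Fintype.card α)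
    (h : IsPretransitive G (Set.powersetCard α k)) :
    IsPretransitive G (Set.powersetCard α (k - 1)) :=
  HomogDown.isPretransitive_pred G hk h fun q _ hqk => by
    have := Nat.le_of_dvd (by omega) hqk
    omega

/-- The Livingstone–Wagner theorem, first form. -/
theorem pred_transitive {k : ℕ} (hk : 2 ≤ k) (hkn : 2 * k ≤ Fintype.card α)
    (hh : IsPretransitive G (Set.powersetCard α k)) : IsMultiplyPretransitive G α (k - 1) := by
  induction k, hk using Nat.le_induction with
  | base =>
    have h1 := hom_of_powersetCard (hom_pred le_rfl hkn hh)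
    refine transitive_of_top h1 fun x => ?_
    refine top_unique fun π _ => ?_
    rw [show π = 1 from Equiv.ext fun i => Fin.ext (by omega)]
    exact one_mem _
  | succ k hk ih =>
    have hh1 : IsPretransitive G (Set.powersetCard α k) := hom_pred (by omega) hkn hh
    have ht := ih (by omega) hh1
    by_contra hnt
    rcases exceptions G (k := k + 1) (by omega) (by omega) ht hnt (hom_of_powersetCard hh1)
      (hom_of_powersetCard hh) with h | h | h | h <;> omega

/-- The Livingstone–Wagner theorem. -/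
theorem transitive {k : ℕ} (hk : 5 ≤ k) (hkn : 2 * k ≤ Fintype.card α)
    (hh : IsPretransitive G (Set.powersetCard α k)) : IsMultiplyPretransitive G α k := by
  by_contra hnt
  have ht := pred_transitive (by omega) hkn hh
  have hhom := hom_of_powersetCard hh
  obtain ⟨hA, hO, -⟩ := exactly_alternating (by omega) hhom hnt
    (exists_alternating hk (by omega) ht)
  rcases eq_or_lt_of_le hk with hk5 | hk6
  · subst hk5
    exact no_five (by omega) hhom hA hO
  · exact no_triple (by omega) (by omega) ht hO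

end Cfsg.Agent.PermB.LW
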