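import Cfsg.Agent.PermB.LWFive

/-!
A `j`-transitive group that is `(j+1)`- and `(j+2)`-homogeneous but not `(j+1)`-transitive has
trivial `(j+1)`-point stabilisers, and its order satisfies divisibility conditions.
-/

set_option autoImplicit false

namespace Cfsg.Agent.PermB.LW

open MulAction

/-- An invariant finite set all of whose orbits have size `q` has cardinality divisible by `q`. -/
theorem dvd_card_invariant {H Ω : Type*} [Group H] [Finite H] [MulAction H Ω] [DecidableEq Ω]
    {q : ℕ} (A : Finset Ω) (hA : ∀ (h : H), ∀ a ∈ A, h • a ∈ A)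
    (hq : ∀ a ∈ A, Nat.card (orbit H a) = q) : q ∣ A.card := by
  classical
  induction A using Finset.strongInduction with
  | H A ih =>
    rcases A.eq_empty_or_nonempty with rfl | ⟨a, ha⟩
    · simp
    set O := A.filter fun b => b ∈ orbit H a with hO
    have hOc : O.card = q := by
      rw [← hq a ha, ← Fintype.card_coe, ← Nat.card_eq_fintype_card]
      refine Nat.card_congr (Equiv.subtypeEquivRight fun b => ?_)
      rw [hO, Finset.mem_filter]
      exact ⟨fun h => h.2, fun h => ⟨by obtain ⟨g, rfl⟩ := h; exact hA g a ha, h⟩⟩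
    have hlt : A \ O ⊂ A :=
      Finset.sdiff_ssubset (Finset.filter_subset _ _) ⟨a, Finset.mem_filter.2 ⟨ha, mem_orbit_self a⟩⟩
    have := ih (A \ O) hlt (fun h b hb => by
      simp only [hO, Finset.mem_sdiff, Finset.mem_filter] at hb ⊢
      refine ⟨hA h b hb.1, fun hc => hb.2 ⟨hb.1, ?_⟩⟩
      rw [← orbit_eq_iff] at hc ⊢
      rw [← hc.2, orbit_smul]) (fun b hb => hq b (Finset.mem_sdiff.1 hb).1)
    rw [Finset.card_sdiff_of_subset (Finset.filter_subset _ _), hOc] at this
    have hle : q ≤ A.card := hOc ▸ Finset.card_le_card (Finset.filter_subset _ _)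
    have := Nat.dvd_add this (dvd_refl q)
    rwa [Nat.sub_add_cancel hle] at this

variable {α : Type*} [Fintype α] [DecidableEq α] {G : Subgroup (Equiv.Perm α)}

theorem snocEmb_castSucc {l : ℕ} (x : Fin l ↪ α) (c : α) (hc : ∀ i, x i ≠ c) (i : Fin l) :
    snocEmb x c hc i.castSucc = x i :=
  Fin.snoc_castSucc (α := fun _ => α) c x i

theorem snocEmb_last {l : ℕ} (x : Fin l ↪ α) (c : α) (hc : ∀ i, x i ≠ c) :
    snocEmb x c hc (Fin.last l) = c :=
  Fin.snoc_last (α := fun _ => α) c x

theorem card_orbit_mul {l : ℕ} (x : Fin l ↪ α) (c : α) (hc : ∀ i, x i ≠ c) :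
    Nat.card (orbit (stabilizer G x) c) * Nat.card (stabilizer G (snocEmb x c hc)) =
      Nat.card (stabilizer G x) := by
  rw [← (stabilizer (stabilizer G x) c).card_mul_index, index_stabilizer, mul_comm,
    ← Nat.card_coe_set_eq]
  congr 1
  refine Nat.card_congr
    { toFun := fun g => ⟨⟨g.1, mem_stabilizer_tuple.2 fun i => ?_⟩, ?_⟩
      invFun := fun g => ⟨g.1.1, mem_stabilizer_tuple.2 fun i => ?_⟩
      left_inv := fun g => rfl
      right_inv := fun g => rfl }
  · have := mem_stabilizer_tuple.1 g.2 i.castSucc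
    rwa [snocEmb_castSucc] at this
  · have := mem_stabilizer_tuple.1 g.2 (Fin.last l)
    rwa [snocEmb_last] at this
  · induction i using Fin.lastCases with
    | cast i => rw [snocEmb_castSucc]; exact mem_stabilizer_tuple.1 g.1.2 i
    | last => rw [snocEmb_last]; exact g.2

/-- Two points outside a tuple in different orbits of its stabiliser. -/
theorem exists_two_orbits {j : ℕ} (ht : IsMultiplyPretransitive G α j)
    (hnt : ¬ IsMultiplyPretransitive G α (j + 1)) :
    ∃ (y : Fin j ↪ α) (c d : α), (∀ i, y i ≠ c) ∧ (∀ i, y i ≠ d) ∧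
      d ∉ orbit (stabilizer G y) c := by
  by_contra h
  push Not at h
  refine hnt ⟨fun x x' => ?_⟩
  obtain ⟨g, hg⟩ := exists_smul_eq G (Fin.castSuccEmb.trans x) (Fin.castSuccEmb.trans x')
  set y := Fin.castSuccEmb.trans x' with hy
  have hgi : ∀ i : Fin j, g • x i.castSucc = x' i.castSucc := fun i =>
    Function.Embedding.ext_iff.1 hg i
  obtain ⟨z, hz⟩ := h y (g • x (Fin.last j)) (x' (Fin.last j))
    (fun i e => by
      change x' i.castSucc = _ at e
      rw [← hgi] at e
      exact Fin.castSucc_ne_last i (x.injective (MulAction.injective g e)))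
    (fun i e => Fin.castSucc_ne_last i (x'.injective e))
  refine ⟨(z : G) * g, Function.Embedding.ext fun i => ?_⟩
  change ((z : G) * g) • x i = x' i
  rw [mul_smul]
  induction i using Fin.lastCases with
  | cast i => rw [hgi]; exact mem_stabilizer_tuple.1 z.2 i
  | last => exact hz

/-- The main computation. -/
theorem sharp {j : ℕ} (ht : IsMultiplyPretransitive G α j)
    (hnt : ¬ IsMultiplyPretransitive G α (j + 1)) (h1 : Hom G (j + 1)) (h2 : Hom G (j + 2))
    (hn : j + 2 ≤ Fintype.card α) (x₁ : Fin (j + 1) ↪ α) (x₂ : Fin (j + 2) ↪ α) :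
    ∃ r s : ℕ, 2 ≤ r ∧ Fintype.card α = r * s + j ∧
      Nat.card G = (Fintype.card α).descFactorial j * s ∧
      (∀ y : Fin j ↪ α, Nat.card (stabilizer G y) = s) ∧
      (∀ x : Fin (j + 1) ↪ α, Nat.card (stabilizer G x) = 1) ∧
      (j + 1).factorial = r * Nat.card (liftGroup G x₁) ∧
      (j + 2).factorial = r * (r * s - 1) * Nat.card (liftGroup G x₂) := by
  classical
  obtain ⟨y, c, d, hc, hd, hcd⟩ := exists_two_orbits ht hnt
  set x := snocEmb y c hc with hx
  set s := Nat.card (stabilizer G y) with hs
  set e1 := Nat.card (stabilizer G x₁) with he1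
  set e2 := Nat.card (stabilizer G x₂) with he2
  have hs' : ∀ y' : Fin j ↪ α, Nat.card (stabilizer G y') = s := fun y' => by
    refine Nat.eq_of_mul_eq_mul_left (Nat.descFactorial_pos.2 (show j ≤ Fintype.card α by omega)) ?_
    rw [hs, ← card_of_transitive ht y', ← card_of_transitive ht y]
  have he1' : ∀ z, Nat.card (stabilizer G z) = e1 := fun z => card_stabilizer_eq h1 z x₁
  have he2' : ∀ z, Nat.card (stabilizer G z) = e2 := fun z => card_stabilizer_eq h2 z x₂
  have he1pos : 0 < e1 := Nat.card_pos
  have he2pos : 0 < e2 := Nat.card_pos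
  set t := Nat.card (orbit (stabilizer G y) c) with ht'
  set q := e1 / e2 with hq
  have horb1 : ∀ a, (∀ i, y i ≠ a) → Nat.card (orbit (stabilizer G y) a) * e1 = s := fun a ha => by
    rw [← he1' (snocEmb y a ha)]
    exact card_orbit_mul y a ha
  have hsize : ∀ a, (∀ i, y i ≠ a) → Nat.card (orbit (stabilizer G y) a) = t := fun a ha =>
    Nat.eq_of_mul_eq_mul_right he1pos ((horb1 a ha).trans (horb1 c hc).symm)
  have horb2 : ∀ a, (∀ i, x i ≠ a) → Nat.card (orbit (stabilizer G x) a) = q := fun a ha => by
    rw [hq]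
    refine (Nat.div_eq_of_eq_mul_left he2pos ?_).symm
    rw [← he1' x, ← he2' (snocEmb x a ha)]
    exact (card_orbit_mul x a ha).symm
  have hxmem : ∀ a, (∀ i, y i ≠ a) → a ≠ c → ∀ i, x i ≠ a := fun a ha hac i => by
    induction i using Fin.lastCases with
    | cast i => rw [hx, snocEmb_castSucc]; exact ha i
    | last => rw [hx, snocEmb_last]; exact Ne.symm hac
  have hout : ∀ (a : α), (∀ i, y i ≠ a) → ∀ b ∈ orbit (stabilizer G y) a, ∀ i, y i ≠ b := by
    rintro a ha _ ⟨g, rfl⟩ i e
    change y i = (g : G) • a at e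
    rw [← mem_stabilizer_tuple.1 g.2 i] at e
    exact ha i (MulAction.injective (g : G) e)
  have hxy : ∀ g ∈ stabilizer G x, g ∈ stabilizer G y := fun g hg =>
    mem_stabilizer_tuple.2 fun i => by
      have := mem_stabilizer_tuple.1 hg i.castSucc
      rwa [hx, snocEmb_castSucc] at this
  have hsub : ∀ a : α, ∀ g : stabilizer G x, ∀ b ∈ orbit (stabilizer G y) a,
      g • b ∈ orbit (stabilizer G y) a := fun a g b hb => by
    rw [← orbit_eq_iff] at hb ⊢
    rw [← hb]
    exact orbit_eq_iff.2 ⟨⟨g.1, hxy _ g.2⟩, rfl⟩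
  -- the two orbits
  set O : Finset α := Finset.univ.filter fun b => b ∈ orbit (stabilizer G y) c with hO
  set O' : Finset α := Finset.univ.filter fun b => b ∈ orbit (stabilizer G y) d with hO'
  have hcardF : ∀ a : α, (∀ i, y i ≠ a) →
      (Finset.univ.filter fun b => b ∈ orbit (stabilizer G y) a).card = t := fun a ha => by
    rw [← hsize a ha, ← Fintype.card_coe, ← Nat.card_eq_fintype_card]
    exact Nat.card_congr (Equiv.subtypeEquivRight fun b => by simp)
  have hqt : q ∣ t := by
    rw [← hcardF d hd]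
    refine dvd_card_invariant (H := stabilizer G x) _ (fun g b hb => ?_) fun b hb => ?_
    · simp only [Finset.mem_filter, Finset.mem_univ, true_and] at hb ⊢
      exact hsub d g b hb
    · simp only [Finset.mem_filter, Finset.mem_univ, true_and] at hb
      refine horb2 b (hxmem b (hout d hd b hb) ?_)
      rintro rfl
      exact hcd (orbit_eq_iff.1 (orbit_eq_iff.2 hb).symm)
  have hqt' : q ∣ t - 1 := by
    have hcard : (O.erase c).card = t - 1 := by
      rw [Finset.card_erase_of_mem (Finset.mem_filter.2 ⟨Finset.mem_univ _, mem_orbit_self c⟩),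
        hcardF c hc]
    rw [← hcard]
    refine dvd_card_invariant (H := stabilizer G x) _ (fun g b hb => ?_) fun b hb => ?_
    · simp only [hO, Finset.mem_erase, Finset.mem_filter, Finset.mem_univ, true_and] at hb ⊢
      refine ⟨fun h => hb.1 ?_, hsub c g b hb.2⟩
      have hgc : g • c = c := by
        have hxl : x (Fin.last j) = c := by rw [hx, snocEmb_last]
        have := mem_stabilizer_tuple.1 g.2 (Fin.last j)
        rwa [hxl] at this
      exact MulAction.injective g (h.trans hgc.symm)
    · simp only [hO, Finset.mem_erase, Finset.mem_filter, Finset.mem_univ, true_and] at hb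
      exact horb2 b (hxmem b (hout c hc b hb.2) hb.1)
  have ht1 : 0 < t := by
    rw [ht', Nat.card_pos_iff]
    exact ⟨⟨⟨c, mem_orbit_self c⟩⟩, inferInstance⟩
  have hq1 : q = 1 := Nat.dvd_one.1 (by
    have h := Nat.dvd_sub hqt hqt'
    rwa [show t - (t - 1) = 1 by omega] at h)
  -- the stabiliser of `x` fixes everything
  have hall : ∀ g ∈ stabilizer G x, g = 1 := fun g hg => by
    refine eq_of_smul_eq_smul fun a : α => ?_
    rw [one_smul]
    by_cases ha : ∃ i, x i = a
    · obtain ⟨i, rfl⟩ := ha
      exact mem_stabilizer_tuple.1 hg i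
    push Not at ha
    obtain ⟨h1', -⟩ := Nat.card_eq_one_iff_unique.1 ((horb2 a ha).trans hq1)
    exact congrArg Subtype.val (Subsingleton.elim
      (⟨g • a, ⟨⟨g, hg⟩, rfl⟩⟩ : orbit (stabilizer G x) a) ⟨a, mem_orbit_self a⟩)
  have hone : e1 = 1 := by
    rw [← he1' x, (Subgroup.eq_bot_iff_forall _).2 hall, Subgroup.card_bot]
  have hts : t = s := by rw [ht', ← horb1 c hc, hone, mul_one]
  have hcomp : ((Finset.univ.map y)ᶜ).card = Fintype.card α - j := by
    rw [Finset.card_compl, Finset.card_map, Finset.card_univ, Fintype.card_fin]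
  have hsdvd : s ∣ Fintype.card α - j := by
    rw [← hcomp]
    refine dvd_card_invariant (H := stabilizer G y) _ (fun g b hb => ?_) fun b hb => ?_
    · simp only [Finset.mem_compl, Finset.mem_map, Finset.mem_univ, true_and, not_exists] at hb ⊢
      intro i e
      exact hout b hb _ ⟨g, rfl⟩ i e
    · simp only [Finset.mem_compl, Finset.mem_map, Finset.mem_univ, true_and, not_exists] at hb
      rw [hsize b hb, hts]
  obtain ⟨r, hr⟩ := hsdvd
  have hspos : 0 < s := hts ▸ ht1
  have h2s : 2 * s ≤ Fintype.card α - j := by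
    have hdisj : Disjoint O O' := by
      rw [Finset.disjoint_left]
      intro b hb hb'
      simp only [hO, hO', Finset.mem_filter, Finset.mem_univ, true_and] at hb hb'
      exact hcd (orbit_eq_iff.1 ((orbit_eq_iff.2 hb').symm.trans (orbit_eq_iff.2 hb)))
    have hle : (O ∪ O').card ≤ ((Finset.univ.map y)ᶜ).card := Finset.card_le_card fun b hb => by
      simp only [hO, hO', Finset.mem_union, Finset.mem_filter, Finset.mem_univ, true_and] at hb
      simp only [Finset.mem_compl, Finset.mem_map, Finset.mem_univ, true_and, not_exists]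
      rcases hb with hb | hb
      exacts [hout c hc b hb, hout d hd b hb]
    rw [Finset.card_union_of_disjoint hdisj, hO, hO', hcardF c hc, hcardF d hd, hcomp, hts] at hle
    omega
  have hr2 : 2 ≤ r := by
    rw [hr, mul_comm 2 s] at h2s
    exact Nat.le_of_mul_le_mul_left h2s hspos
  have hn' : Fintype.card α = r * s + j := by rw [mul_comm, ← hr]; omega
  have hG : Nat.card G = (Fintype.card α).descFactorial j * s := by
    rw [card_of_transitive ht y]
  refine ⟨r, s, hr2, hn', hG, hs', fun z => (he1' z).trans hone, ?_, ?_⟩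
  · have h := card_formula h1 x₁
    rw [← he1, hone, one_mul, hG, Nat.descFactorial_succ, hr] at h
    refine Nat.eq_of_mul_eq_mul_left
      (Nat.mul_pos (Nat.descFactorial_pos.2 (show j ≤ Fintype.card α by omega)) hspos) ?_
    rw [h]; ring
  · have he2one : e2 = 1 := by
      have hle : stabilizer G x₂ ≤ stabilizer G (Fin.castSuccEmb.trans x₂) := fun g hg =>
        mem_stabilizer_tuple.2 fun i => mem_stabilizer_tuple.1 hg i.castSucc
      have := Subgroup.card_le_of_le hle
      rw [he1', hone] at this
      omega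
    have h := card_formula h2 x₂
    rw [← he2, he2one, one_mul, hG, Nat.descFactorial_succ, Nat.descFactorial_succ, hr,
      show Fintype.card α - (j + 1) = r * s - 1 by omega] at h
    refine Nat.eq_of_mul_eq_mul_left
      (Nat.mul_pos (Nat.descFactorial_pos.2 (show j ≤ Fintype.card α by omega)) hspos) ?_
    rw [h]; ring

end Cfsg.Agent.PermB.LW
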