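import Cfsg.Agent.PermB.OrbitalChar

/-!
Degrees and multiplicities of the constituents of a permutation character, and the subdegrees.
-/

set_option autoImplicit false
set_option linter.unusedSectionVars false

namespace Cfsg.Agent.PermB

open MulAction Module
open scoped ComplexConjugate

universe u v

variable {G : Type u} [Group G] [Fintype G] {Ω : Type v} [Fintype Ω] [MulAction G Ω]

variable (Ω) in
/-- The multiplicity of an irreducible character in the permutation character. -/
noncomputable def permMult (χ : Cfsg.IrrCharacter G) : ℕ := finrank ℂ (mSp Ω (irrRep χ))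

theorem classInner_permChar (χ : Cfsg.IrrCharacter G) :
    Cfsg.classInner (permChar G Ω) (χ : G → ℂ) = (permMult Ω χ : ℂ) := mult_mSp χ

theorem classInner_permChar_eq_zero_iff (χ : Cfsg.IrrCharacter G) :
    Cfsg.classInner (permChar G Ω) (χ : G → ℂ) = 0 ↔ permMult Ω χ = 0 := by
  rw [classInner_permChar, Nat.cast_eq_zero]

theorem permMult_le_one_iff (χ : Cfsg.IrrCharacter G) :
    (Cfsg.classInner (permChar G Ω) (χ : G → ℂ) = 0 ∨
      Cfsg.classInner (permChar G Ω) (χ : G → ℂ) = 1) ↔ permMult Ω χ ≤ 1 := by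
  rw [classInner_permChar, Nat.cast_eq_zero, Nat.cast_eq_one]
  omega

theorem irr_degree (χ : Cfsg.IrrCharacter G) : (χ : G → ℂ) 1 = (irrDim χ : ℂ) := by
  rw [← irrRep_char χ, Representation.char_one, Module.finrank_fin_fun]

theorem irrDim_pos (χ : Cfsg.IrrCharacter G) : 0 < irrDim χ := by
  have h := CharCore.irr_apply_one_ne_zero χ
  rw [irr_degree] at h
  exact Nat.pos_of_ne_zero fun h0 => h (by rw [h0, Nat.cast_zero])

theorem card_eq_sum_mult :
    Fintype.card Ω = ∑ χ : Cfsg.IrrCharacter G, permMult Ω χ * irrDim χ := by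
  have h := congrFun (CharCore.IsCharacter.eq_sum_classInner (isCharacter_permChar G Ω)) 1
  simp only [Finset.sum_apply, Pi.smul_apply, smul_eq_mul, classInner_permChar, irr_degree] at h
  rw [← permChar_eq, Representation.char_one, Module.finrank_fintype_fun_eq_card] at h
  exact_mod_cast h

theorem card_orbitals_eq_sum_sq :
    Nat.card (orbitRel.Quotient G (Ω × Ω)) = ∑ χ : Cfsg.IrrCharacter G, permMult Ω χ ^ 2 := by
  rw [← Perm.finrank_invariants_linHom (K := ℂ), ← (cAlgEquiv (G := G) (Ω := Ω)).finrank_eq]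
  apply Nat.cast_injective (R := ℂ)
  rw [finrank_cAlg, Nat.cast_sum]
  conv_lhs => rw [CharCore.IsCharacter.eq_sum_classInner (isCharacter_permChar G Ω),
    CharCore.classInner_sum_sum]
  simp [classInner_permChar, pow_two]

/-- A natural number that is `f` times an algebraic integer is divisible by `f`. -/
theorem dvd_of_eq_mul_isIntegral {k f : ℕ} {α : ℂ} (hα : IsIntegral ℤ α)
    (h : (k : ℂ) = (f : ℂ) * α) : f ∣ k := by
  rcases Nat.eq_zero_or_pos f with rfl | hf
  · rw [Nat.cast_zero, zero_mul, Nat.cast_eq_zero] at h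
    rw [h]
  · have hq : IsIntegral ℤ ((k : ℚ) / f) := by
      rw [← isIntegral_algebraMap_iff (R := ℤ) (A := ℚ) (B := ℂ) (algebraMap ℚ ℂ).injective]
      rwa [map_div₀, map_natCast, map_natCast, h,
        mul_div_cancel_left₀ _ (Nat.cast_ne_zero.2 hf.ne')]
    obtain ⟨z, hz⟩ := IsIntegrallyClosed.isIntegral_iff.1 hq
    have h1 : (k : ℚ) = f * z := by
      rw [show ((z : ℚ)) = k / f from (eq_intCast (algebraMap ℤ ℚ) z).symm.trans hz]
      field_simp
    have h2 : (k : ℤ) = f * z := by exact_mod_cast h1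
    exact Int.natCast_dvd_natCast.1 ⟨z, h2⟩

/-- The trivial character. -/
noncomputable def oneChar : Cfsg.IrrCharacter G :=
  ⟨fun _ => 1, CharCore.isIrrCharacter_one⟩

theorem ne_oneChar_iff (χ : Cfsg.IrrCharacter G) :
    χ ≠ oneChar ↔ (χ : G → ℂ) ≠ fun _ => 1 := by
  rw [Ne, Subtype.ext_iff]
  rfl

section Transitive

variable [IsPretransitive G Ω]

theorem permMult_oneChar (a : Ω) : permMult Ω (oneChar : Cfsg.IrrCharacter G) = 1 := by
  have h := classInner_permChar_one (G := G) a
  rw [show (fun _ : G => (1 : ℂ)) = ((oneChar : Cfsg.IrrCharacter G) : G → ℂ) from rfl,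
    classInner_permChar, Nat.cast_eq_one] at h
  exact h

theorem irrDim_oneChar : irrDim (oneChar : Cfsg.IrrCharacter G) = 1 := by
  have h := irr_degree (oneChar : Cfsg.IrrCharacter G)
  rw [show ((oneChar : Cfsg.IrrCharacter G) : G → ℂ) 1 = (1 : ℂ) from rfl] at h
  exact_mod_cast h.symm

theorem card_eq_one_add (a : Ω) [DecidableEq (Cfsg.IrrCharacter G)] :
    Fintype.card Ω =
      1 + ∑ χ ∈ Finset.univ.erase (oneChar : Cfsg.IrrCharacter G), permMult Ω χ * irrDim χ := by
  rw [card_eq_sum_mult (G := G), ← Finset.add_sum_erase _ _ (Finset.mem_univ oneChar),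
    permMult_oneChar a, irrDim_oneChar]

theorem rank_eq_one_add (a : Ω) [DecidableEq (Cfsg.IrrCharacter G)] :
    Nat.card (orbitRel.Quotient (stabilizer G a) Ω) =
      1 + ∑ χ ∈ Finset.univ.erase (oneChar : Cfsg.IrrCharacter G), permMult Ω χ ^ 2 := by
  rw [← Perm.card_orbitRel_prod_eq, card_orbitals_eq_sum_sq,
    ← Finset.add_sum_erase _ _ (Finset.mem_univ oneChar), permMult_oneChar a, one_pow]

/-- If `f` divides the degree of every non-principal constituent, it divides every subdegree. -/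
theorem dvd_subdegree (f : ℕ)
    (hf : ∀ χ : Cfsg.IrrCharacter G, χ ≠ oneChar → permMult Ω χ ≠ 0 → f ∣ irrDim χ)
    {a b : Ω} (hab : b ≠ a) : f ∣ Nat.card (orbit (stabilizer G a) b) := by
  classical
  have h0 := trace_orbOp (G := G) hab
  rw [trace_eq_sum, ← Finset.add_sum_erase _ _ (Finset.mem_univ oneChar),
    irr_degree, irrDim_oneChar, Nat.cast_one, mul_one] at h0
  have h1 : Cfsg.classInner (trFun G Ω (orbOp G a b : Module.End ℂ (Ω → ℂ)))
      ((oneChar : Cfsg.IrrCharacter G) : G → ℂ) = _ := classInner_trFun_one a b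
  rw [h1, add_eq_zero_iff_eq_neg] at h0
  have hterm : ∀ χ ∈ Finset.univ.erase (oneChar : Cfsg.IrrCharacter G), ∃ α : ℂ, IsIntegral ℤ α ∧
      Cfsg.classInner (trFun G Ω (orbOp G a b : Module.End ℂ (Ω → ℂ))) (χ : G → ℂ) *
        (χ : G → ℂ) 1 = f * α := by
    intro χ hχ
    by_cases he : permMult Ω χ = 0
    · refine ⟨0, isIntegral_zero, ?_⟩
      rw [classInner_trFun_eq_zero ((classInner_permChar_eq_zero_iff χ).2 he), zero_mul, mul_zero]
    · obtain ⟨m, hm⟩ := hf χ (Finset.ne_of_mem_erase hχ) he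
      refine ⟨Cfsg.classInner (trFun G Ω (orbOp G a b : Module.End ℂ (Ω → ℂ))) (χ : G → ℂ) * m,
        IsIntegral.mul ?_ (by exact_mod_cast (isIntegral_algebraMap (R := ℤ) (x := (m : ℤ)))), ?_⟩
      · rw [← irrRep_char χ]
        exact isIntegral_orbOp _ a b
      · rw [irr_degree, hm]
        push_cast
        ring
  choose! α hα1 hα2 using hterm
  rw [Finset.sum_congr rfl hα2, ← Finset.mul_sum, ← mul_neg] at h0
  exact dvd_of_eq_mul_isIntegral (IsIntegral.sum _ hα1).neg h0

/-- Subdegrees of size at least `f` bound the rank. -/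
theorem mul_rank_le (a : Ω) (f : ℕ)
    (hf : ∀ b : Ω, b ≠ a → f ≤ Nat.card (orbit (stabilizer G a) b)) :
    1 + f * (Nat.card (orbitRel.Quotient (stabilizer G a) Ω) - 1) ≤ Fintype.card Ω ∧
      (Fintype.card Ω ≤ 1 + f * (Nat.card (orbitRel.Quotient (stabilizer G a) Ω) - 1) →
        ∀ b : Ω, b ≠ a → Nat.card (orbit (stabilizer G a) b) = f) := by
  classical
  set Q := orbitRel.Quotient (stabilizer G a) Ω
  have hn : Fintype.card Ω = ∑ q : Q, Nat.card (orbitRel.Quotient.orbit q) := by
    rw [← Nat.card_eq_fintype_card,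
      Nat.card_congr (selfEquivSigmaOrbits' (stabilizer G a) Ω), Nat.card_sigma]
  let q₀ : Q := Quotient.mk _ a
  have h0 : Nat.card (orbitRel.Quotient.orbit q₀) = 1 := by
    rw [show orbitRel.Quotient.orbit q₀ = orbit (stabilizer G a) a from orbitRel.Quotient.orbit_mk a]
    rw [Nat.card_coe_set_eq, Set.ncard_eq_one]
    refine ⟨a, Set.eq_singleton_iff_unique_mem.2 ⟨mem_orbit_self a, ?_⟩⟩
    rintro _ ⟨g, rfl⟩
    exact g.2
  have hq : ∀ q : Q, q ≠ q₀ → ∃ b : Ω, b ≠ a ∧
      Nat.card (orbitRel.Quotient.orbit q) = Nat.card (orbit (stabilizer G a) b) := by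
    intro q
    induction q using Quotient.inductionOn with
    | h b => exact fun hb => ⟨b, fun e => hb (by rw [e]), by
        rw [show orbitRel.Quotient.orbit (Quotient.mk (orbitRel (stabilizer G a) Ω) b) =
          orbit (stabilizer G a) b from orbitRel.Quotient.orbit_mk b]⟩
  rw [← Finset.add_sum_erase _ _ (Finset.mem_univ q₀), h0] at hn
  have hcard : (Finset.univ.erase q₀).card = Nat.card Q - 1 := by
    rw [Finset.card_erase_of_mem (Finset.mem_univ q₀), Finset.card_univ, Nat.card_eq_fintype_card]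
  have hle : ∀ q ∈ Finset.univ.erase q₀, f ≤ Nat.card (orbitRel.Quotient.orbit q) := by
    intro q hq'
    obtain ⟨b, hb, e⟩ := hq q (Finset.ne_of_mem_erase hq')
    exact e ▸ hf b hb
  have h1 := Finset.card_nsmul_le_sum (Finset.univ.erase q₀) _ f hle
  rw [hcard, smul_eq_mul, mul_comm] at h1
  refine ⟨by omega, fun hge b hb => ?_⟩
  have hsum : ∑ q ∈ Finset.univ.erase q₀, Nat.card (orbitRel.Quotient.orbit q) =
      ∑ _q ∈ Finset.univ.erase q₀, f := by
    rw [Finset.sum_const, hcard, smul_eq_mul, mul_comm]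
    omega
  have h2 := (Finset.sum_eq_sum_iff_of_le hle).1 hsum.symm (Quotient.mk _ b)
    (Finset.mem_erase.2 ⟨fun e => by
      obtain ⟨g, hg⟩ := Quotient.exact e
      exact hb (hg.symm.trans g.2), Finset.mem_univ _⟩)
  rw [h2, show orbitRel.Quotient.orbit (Quotient.mk (orbitRel (stabilizer G a) Ω) b) =
    orbit (stabilizer G a) b from orbitRel.Quotient.orbit_mk b]

end Transitive

end Cfsg.Agent.PermB
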