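import Cfsg.Agent.PermB.MultFree

/-!
Multiplicity-free permutation characters: commutativity and transposition.
-/

set_option autoImplicit false
set_option linter.unusedSectionVars false

namespace Cfsg.Agent.PermB

open MulAction Module
open scoped ComplexConjugate

universe u v

theorem exists_scalar_of_finrank_le_one {M : Type*} [AddCommGroup M] [Module ℂ M]
    [FiniteDimensional ℂ M] (hM : finrank ℂ M ≤ 1) (S : Module.End ℂ M) :
    ∃ c : ℂ, S = c • (LinearMap.id : Module.End ℂ M) := by
  obtain ⟨v, hv⟩ := finrank_le_one_iff.1 hM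
  obtain ⟨c, hc⟩ := hv (S v)
  refine ⟨c, LinearMap.ext fun w => ?_⟩
  obtain ⟨d, rfl⟩ := hv w
  rw [map_smul, ← hc, LinearMap.smul_apply, LinearMap.id_apply, smul_comm]

theorem end_comm_of_finrank_le_one {M : Type*} [AddCommGroup M] [Module ℂ M]
    [FiniteDimensional ℂ M] (hM : finrank ℂ M ≤ 1) (S T : Module.End ℂ M) : S * T = T * S := by
  obtain ⟨c, rfl⟩ := exists_scalar_of_finrank_le_one hM S
  refine LinearMap.ext fun w => ?_
  simp

theorem end_eq_of_trace_eq {M : Type*} [AddCommGroup M] [Module ℂ M]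
    [FiniteDimensional ℂ M] (hM : finrank ℂ M ≤ 1) {S T : Module.End ℂ M}
    (h : LinearMap.trace ℂ M S = LinearMap.trace ℂ M T) : S = T := by
  rcases Nat.le_one_iff_eq_zero_or_eq_one.1 hM with h0 | h1
  · have := Module.finrank_zero_iff.1 h0
    exact Subsingleton.elim S T
  · obtain ⟨c, rfl⟩ := exists_scalar_of_finrank_le_one hM S
    obtain ⟨d, rfl⟩ := exists_scalar_of_finrank_le_one hM T
    rw [map_smul, map_smul, LinearMap.trace_id, h1, Nat.cast_one, smul_eq_mul, smul_eq_mul,
      mul_one, mul_one] at h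
    rw [h]

theorem finrank_le_one_of_comm {M : Type*} [AddCommGroup M] [Module ℂ M] [FiniteDimensional ℂ M]
    (h : ∀ S T : Module.End ℂ M, S * T = T * S) : finrank ℂ M ≤ 1 := by
  rcases subsingleton_or_nontrivial M with hs | hn
  · exact (Module.finrank_zero_iff.2 hs).le.trans zero_le_one
  · obtain ⟨v, hv⟩ := exists_ne (0 : M)
    obtain ⟨f, hf⟩ : ∃ f : M →ₗ[ℂ] ℂ, f v = 1 := by
      obtain ⟨g, hg⟩ := LinearMap.exists_extend
        ((LinearEquiv.toSpanNonzeroSingleton ℂ M v hv).symm : (ℂ ∙ v) →ₗ[ℂ] ℂ)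
      refine ⟨g, ?_⟩
      have := LinearMap.congr_fun hg ⟨v, Submodule.mem_span_singleton_self v⟩
      simpa [LinearEquiv.coord_self] using this
    refine finrank_le_one v fun w => ⟨f w, ?_⟩
    have := LinearMap.congr_fun (h (f.smulRight w) (f.smulRight v)) v
    simp only [Module.End.mul_apply, LinearMap.smulRight_apply, hf, one_smul] at this
    exact this.symm

variable {G : Type u} [Group G] [Fintype G] {Ω : Type v} [Fintype Ω] [MulAction G Ω]

/-- The algebra is commutative iff all multiplicities are at most one. -/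
theorem comm_iff_mult_le_one :
    (∀ A B : cAlg G Ω, A * B = B * A) ↔ ∀ χ : Cfsg.IrrCharacter G, permMult Ω χ ≤ 1 := by
  classical
  constructor
  · intro h χ
    refine finrank_le_one_of_comm fun S T => ?_
    obtain ⟨A, hA⟩ := (mAct_bijective (G := G) (Ω := Ω)).2 (Pi.single χ S)
    obtain ⟨B, hB⟩ := (mAct_bijective (G := G) (Ω := Ω)).2 (Pi.single χ T)
    have hA' := congrFun hA χ
    have hB' := congrFun hB χ
    simp only [Pi.single_eq_same] at hA' hB'
    rw [← hA', ← hB', ← map_mul, ← map_mul, h]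
  · intro h A B
    exact cAlg_ext fun χ => by
      rw [map_mul, map_mul, end_comm_of_finrank_le_one (h χ)]

theorem mul_entry [DecidableEq Ω] (A B : Module.End ℂ (Ω → ℂ)) (u w : Ω) :
    (A * B) (Pi.single u 1) w = ∑ z, A (Pi.single z 1) w * B (Pi.single u 1) z := by
  rw [Module.End.mul_apply]
  conv_lhs => rw [Perm.eq_kerMap A]
  rfl

theorem trFun_transp [DecidableEq Ω] (A : Module.End ℂ (Ω → ℂ)) (g : G) :
    trFun G Ω (transp A) g = trFun G Ω A g⁻¹ := by
  rw [trace_mul_perm, trace_mul_perm]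
  refine Fintype.sum_equiv (MulAction.toPerm g) _ _ fun x => ?_
  rw [transp, Perm.kerMap_single, MulAction.toPerm_apply, inv_smul_smul]

theorem classInner_trFun_transp [DecidableEq Ω] (A : Module.End ℂ (Ω → ℂ))
    (χ : Cfsg.IrrCharacter G) :
    Cfsg.classInner (trFun G Ω (transp A)) (χ : G → ℂ) =
      Cfsg.classInner (trFun G Ω A) (fun g => conj ((χ : G → ℂ) g)) := by
  simp only [Cfsg.classInner, trFun_transp, Complex.conj_conj]
  congr 1
  refine Fintype.sum_equiv (Equiv.inv G) _ _ fun g => ?_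
  simp [CharCore.irr_apply_inv]

/-- All elements of the centraliser algebra are symmetric iff all orbitals are self-paired. -/
theorem symmetric_of_selfPaired [DecidableEq Ω]
    (h : ∀ a b : Ω, ∃ g : G, g • a = b ∧ g • b = a) {A : Module.End ℂ (Ω → ℂ)}
    (hA : A ∈ cAlg G Ω) : transp A = A := by
  apply LinearMap.pi_ext'
  intro x
  apply LinearMap.ext_ring
  funext y
  obtain ⟨g, hgx, hgy⟩ := h x y
  have := cAlg_entry hA g x y
  rw [hgx, hgy] at this
  simpa [transp, Perm.kerMap_single] using this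

theorem selfPaired_of_symmetric [DecidableEq Ω] (a b : Ω)
    (h : transp (orbOp G a b : Module.End ℂ (Ω → ℂ)) = (orbOp G a b : Module.End ℂ (Ω → ℂ))) :
    ∃ g : G, g • a = b ∧ g • b = a := by
  classical
  have h1 := congrFun (LinearMap.congr_fun h (Pi.single a 1)) b
  rw [transp, Perm.kerMap_single, orbOp_entry, orbOp_entry] at h1
  unfold orbKer at h1
  rw [if_pos (mem_orbit_self (a, b))] at h1
  by_cases h2 : (b, a) ∈ orbit G (a, b)
  · obtain ⟨g, hg⟩ := h2
    exact ⟨g, congrArg Prod.fst hg, congrArg Prod.snd hg⟩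
  · rw [if_neg h2] at h1
    exact absurd h1 zero_ne_one

theorem selfPaired_iff [IsPretransitive G Ω] :
    (∀ a b : Ω, ∃ g : G, g • a = b ∧ g • b = a) ↔ ∀ χ : Cfsg.IrrCharacter G,
      permMult Ω χ ≠ 0 → permMult Ω χ = 1 ∧ ∀ g : G, conj ((χ : G → ℂ) g) = (χ : G → ℂ) g := by
  classical
  constructor
  · intro h
    have hsym : ∀ A : cAlg G Ω, transp (A : Module.End ℂ (Ω → ℂ)) = A := fun A =>
      symmetric_of_selfPaired h A.2
    have hle : ∀ χ : Cfsg.IrrCharacter G, permMult Ω χ ≤ 1 := by
      refine comm_iff_mult_le_one.1 fun A B => Subtype.ext ?_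
      apply LinearMap.pi_ext'
      intro x
      apply LinearMap.ext_ring
      funext y
      have hs := fun (C : cAlg G Ω) (u w : Ω) =>
        (congrFun (LinearMap.congr_fun (hsym C) (Pi.single u 1)) w).symm
      simp only [transp, Perm.kerMap_single] at hs
      calc ((A * B : cAlg G Ω) : Module.End ℂ (Ω → ℂ)) (Pi.single x 1) y
          = ((A * B : cAlg G Ω) : Module.End ℂ (Ω → ℂ)) (Pi.single y 1) x := hs _ _ _
        _ = ((B * A : cAlg G Ω) : Module.End ℂ (Ω → ℂ)) (Pi.single x 1) y := by
          rw [Subalgebra.coe_mul, Subalgebra.coe_mul, mul_entry, mul_entry]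
          exact Finset.sum_congr rfl fun z _ => by rw [hs A z x, hs B y z, mul_comm]
    intro χ hχ
    have h1 : permMult Ω χ = 1 := le_antisymm (hle χ) (Nat.pos_of_ne_zero hχ)
    refine ⟨h1, fun g => ?_⟩
    let χ' : Cfsg.IrrCharacter G :=
      ⟨fun g => conj ((χ : G → ℂ) g), CharCore.isIrrCharacter_star χ.2⟩
    suffices χ' = χ from congrFun (congrArg Subtype.val this) g
    by_contra hne
    obtain ⟨A, hA⟩ := (mAct_bijective (G := G) (Ω := Ω)).2 (Pi.single χ LinearMap.id)
    have hA1 : Cfsg.classInner (trFun G Ω (A : Module.End ℂ (Ω → ℂ))) (χ : G → ℂ) = 1 := by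
      rw [← irrRep_char χ, ← trace_mAct, show mAct (irrRep χ) A = _ from congrFun hA χ,
        Pi.single_eq_same, LinearMap.trace_id]
      exact_mod_cast h1
    have hA2 : Cfsg.classInner (trFun G Ω (A : Module.End ℂ (Ω → ℂ))) (χ' : G → ℂ) = 0 := by
      rw [← irrRep_char χ', ← trace_mAct, show mAct (irrRep χ') A = _ from congrFun hA χ',
        Pi.single_eq_of_ne hne, map_zero]
    have h3 := classInner_trFun_transp (A : Module.End ℂ (Ω → ℂ)) χ
    rw [hsym A, hA1] at h3
    exact one_ne_zero (h3.trans hA2)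
  · intro h a b
    refine selfPaired_of_symmetric a b ?_
    have : (⟨transp (orbOp G a b).1, transp_mem (orbOp G a b).2⟩ : cAlg G Ω) = orbOp G a b := by
      refine cAlg_ext fun χ => ?_
      by_cases he : permMult Ω χ = 0
      · have := Module.finrank_zero_iff.1 he
        exact Subsingleton.elim (α := Module.End ℂ (mSp Ω (irrRep χ))) _ _
      · obtain ⟨h1, hr⟩ := h χ he
        refine end_eq_of_trace_eq h1.le ?_
        rw [trace_mAct, trace_mAct, irrRep_char]
        show Cfsg.classInner (trFun G Ω (transp (orbOp G a b).1)) (χ : G → ℂ) = _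
        rw [classInner_trFun_transp, funext hr]
    exact congrArg Subtype.val this

end Cfsg.Agent.PermB
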