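import Cfsg.Agent.PermB.CentralizerAlgebra
import Cfsg.Agent.Lib.Perm.Basic

/-!
Orbital matrices and the permutation character.
-/

set_option autoImplicit false
set_option linter.unusedSectionVars false

namespace Cfsg.Agent.PermB

open MulAction Module
open scoped ComplexConjugate

universe u v

variable {G : Type u} [Group G] [Fintype G] {Ω : Type v} [Fintype Ω] [MulAction G Ω]

open Classical in
/-- The kernel of the orbital of `(a, b)`. -/
noncomputable def orbKer (G : Type u) [Group G] [MulAction G Ω] (a b : Ω) (y x : Ω) : ℂ :=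
  if (x, y) ∈ orbit G (a, b) then 1 else 0

theorem orbKer_smul (a b : Ω) (g : G) (y x : Ω) :
    orbKer G a b (g • y) (g • x) = orbKer G a b y x := by
  classical
  unfold orbKer
  have : (g • x, g • y) ∈ orbit G (a, b) ↔ (x, y) ∈ orbit G (a, b) :=
    smul_mem_orbit_smul_iff g
  simp only [this]
where
  smul_mem_orbit_smul_iff {a b x y : Ω} (g : G) :
      (g • x, g • y) ∈ orbit G (a, b) ↔ (x, y) ∈ orbit G (a, b) := by
    constructor
    · rintro ⟨h, hh⟩
      refine ⟨g⁻¹ * h, ?_⟩
      show (g⁻¹ * h) • (a, b) = (x, y)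
      rw [mul_smul, show h • (a, b) = (g • x, g • y) from hh, Prod.smul_mk, inv_smul_smul,
        inv_smul_smul]
    · rintro ⟨h, hh⟩
      refine ⟨g * h, ?_⟩
      show (g * h) • (a, b) = (g • x, g • y)
      rw [mul_smul, show h • (a, b) = (x, y) from hh, Prod.smul_mk]

/-- The orbital matrix of `(a, b)` in the centraliser algebra. -/
noncomputable def orbOp (G : Type u) [Group G] [Fintype G] [MulAction G Ω] (a b : Ω) :
    cAlg G Ω :=
  ⟨Perm.kerMap (orbKer G a b), kerMap_mem_cAlg (orbKer_smul a b)⟩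

theorem orbOp_entry [DecidableEq Ω] (a b x y : Ω) :
    (orbOp G a b : Module.End ℂ (Ω → ℂ)) (Pi.single x 1) y = orbKer G a b y x :=
  Perm.kerMap_single _ x y

theorem orbKer_self {a b : Ω} (hab : b ≠ a) (x : Ω) : orbKer G a b x x = 0 := by
  classical
  unfold orbKer
  rw [if_neg]
  rintro ⟨h, hh⟩
  have h1 : h • a = x := congrArg Prod.fst hh
  have h2 : h • b = x := congrArg Prod.snd hh
  exact hab (MulAction.injective h (h2.trans h1.symm))

theorem trace_orbOp {a b : Ω} (hab : b ≠ a) :
    LinearMap.trace ℂ _ (orbOp G a b : Module.End ℂ (Ω → ℂ)) = 0 := by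
  classical
  rw [trace_fun]
  exact Finset.sum_eq_zero fun x _ => by rw [orbOp_entry, orbKer_self hab]

theorem isIntegral_orbOp {n : ℕ} (ρ : Representation ℂ G (Fin n → ℂ)) (a b : Ω) :
    IsIntegral ℤ (Cfsg.classInner (trFun G Ω (orbOp G a b : Module.End ℂ (Ω → ℂ)))
      ρ.character) := by
  refine isIntegral_classInner_trFun ρ _ fun {_} x y => ?_
  rw [orbOp_entry]
  classical
  unfold orbKer
  split_ifs
  · exact ⟨1, Int.cast_one.symm⟩
  · exact ⟨0, Int.cast_zero.symm⟩

theorem trace_mul_perm [DecidableEq Ω] (A : Module.End ℂ (Ω → ℂ)) (g : G) :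
    trFun G Ω A g = ∑ x, A (Pi.single (g • x) 1) x := by
  rw [trFun, trace_fun]
  exact Finset.sum_congr rfl fun x _ => by
    rw [Module.End.mul_apply, Perm.permRep_single]

section Transitive

variable [IsPretransitive G Ω]

theorem classInner_permChar_one (a : Ω) :
    Cfsg.classInner (permChar G Ω) (fun _ : G => (1 : ℂ)) = 1 := by
  classical
  have : Nonempty Ω := ⟨a⟩
  have : Subsingleton (orbitRel.Quotient G Ω) :=
    ⟨fun p q => Quotient.inductionOn₂ p q fun x y => Quotient.sound (exists_smul_eq G y x)⟩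
  have hb := sum_card_fixedBy_eq_card_orbits_mul_card_group G Ω
  have h1 : Fintype.card (Quotient (orbitRel G Ω)) = 1 :=
    Fintype.card_eq_one_iff.2 ⟨Quotient.mk _ a, fun q => Subsingleton.elim q _⟩
  rw [h1, one_mul] at hb
  simp only [Cfsg.classInner, map_one, mul_one, permChar, Nat.card_eq_fintype_card, ← Nat.cast_sum,
    hb]
  exact inv_mul_cancel₀ (Nat.cast_ne_zero.2 Fintype.card_ne_zero)

/-- The valency is the eigenvalue on the constants. -/
theorem classInner_trFun_one (a b : Ω) :
    Cfsg.classInner (trFun G Ω (orbOp G a b : Module.End ℂ (Ω → ℂ))) (fun _ : G => (1 : ℂ)) =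
      (Nat.card (orbit (stabilizer G a) b) : ℂ) := by
  classical
  simp only [Cfsg.classInner, map_one, mul_one, trace_mul_perm, orbOp_entry]
  rw [Finset.sum_comm]
  have hmem : ∀ g : G, (a, g • a) ∈ orbit G (a, b) ↔ g • a ∈ orbit (stabilizer G a) b := by
    intro g
    constructor
    · rintro ⟨h, hh⟩
      exact ⟨⟨h, congrArg Prod.fst hh⟩, congrArg Prod.snd hh⟩
    · rintro ⟨⟨h, ha⟩, hh⟩
      exact ⟨h, Prod.ext ha hh⟩
  have hone : ∀ x : Ω, ∑ g : G, orbKer G a b x (g • x) =
      ((Finset.univ.filter fun g : G => g • a ∈ orbit (stabilizer G a) b).card : ℂ) := by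
    intro x
    obtain ⟨h, rfl⟩ := exists_smul_eq G a x
    rw [Finset.card_filter, Nat.cast_sum]
    refine Fintype.sum_equiv ((Equiv.inv G).trans (MulAut.conj h⁻¹).toEquiv) _ _ fun g => ?_
    have e : (((Equiv.inv G).trans (MulAut.conj h⁻¹).toEquiv) g) • a = h⁻¹ • (g⁻¹ • (h • a)) := by
      simp [mul_smul]
    simp only [e, orbKer]
    have h2 : (g • h • a, h • a) ∈ orbit G (a, b) ↔
        (a, h⁻¹ • (g⁻¹ • (h • a))) ∈ orbit G (a, b) := by
      rw [← orbKer_smul.smul_mem_orbit_smul_iff (G := G) (g * h) (x := a)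
        (y := h⁻¹ • g⁻¹ • h • a)]
      simp [mul_smul]
    by_cases h3 : (g • h • a, h • a) ∈ orbit G (a, b)
    · rw [if_pos h3, if_pos]
      · exact Nat.cast_one.symm
      · rw [← mul_smul, ← mul_smul, ← hmem, mul_smul, mul_smul]
        exact h2.1 h3
    · rw [if_neg h3, if_neg]
      · exact Nat.cast_zero.symm
      · rw [← mul_smul, ← mul_smul, ← hmem, mul_smul, mul_smul]
        exact mt h2.2 h3
  rw [Finset.sum_congr rfl fun x _ => hone x, Finset.sum_const, Finset.card_univ, nsmul_eq_mul]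
  have hfib : (Finset.univ.filter fun g : G => g • a ∈ orbit (stabilizer G a) b).card =
      (orbit (stabilizer G a) b).toFinset.card * Nat.card (stabilizer G a) := by
    rw [Finset.card_eq_sum_card_fiberwise (f := fun g : G => g • a)
      (t := (orbit (stabilizer G a) b).toFinset) (fun g hg => by
        simpa using (Finset.mem_filter.1 hg).2), Finset.sum_const_nat fun y hy => ?_]
    rw [Set.mem_toFinset] at hy
    obtain ⟨g₀, hg₀⟩ := exists_smul_eq G a y
    rw [Nat.card_eq_fintype_card, ← Finset.card_univ]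
    refine Finset.card_bij' (fun g _ => if h : g₀⁻¹ * g ∈ stabilizer G a then ⟨_, h⟩ else 1)
      (fun s _ => g₀ * (s : G)) (fun g _ => Finset.mem_univ _) ?_ ?_ ?_
    · intro s _
      simp only [Finset.mem_filter, Finset.mem_univ, true_and, mul_smul,
        mem_stabilizer_iff.1 s.2, hg₀]
      exact ⟨hy, trivial⟩
    · intro g hg
      simp only [Finset.mem_filter, Finset.mem_univ, true_and] at hg
      have : g₀⁻¹ * g ∈ stabilizer G a := by
        rw [mem_stabilizer_iff, mul_smul, hg.2, ← hg₀, inv_smul_smul]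
      simp [this]
    · intro s _
      simp
  rw [hfib, ← Set.ncard_eq_toFinset_card', ← Nat.card_coe_set_eq,
    Perm.card_eq_mul_card_stabilizer (G := G) a, Nat.card_eq_fintype_card (α := Ω)]
  have hc : (Nat.card (stabilizer G a) : ℂ) ≠ 0 := Nat.cast_ne_zero.2 Nat.card_pos.ne'
  have hn : (Fintype.card Ω : ℂ) ≠ 0 := by
    have : Nonempty Ω := ⟨a⟩
    exact Nat.cast_ne_zero.2 Fintype.card_ne_zero
  push_cast
  field_simp

end Transitive

end Cfsg.Agent.PermB
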