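import Cfsg.Agent.PermB.TwoPRankOne
import Mathlib.GroupTheory.Sylow
import Mathlib.GroupTheory.PGroup

/-!
Wielandt's theorem on primitive groups of degree `2p`.
-/

set_option autoImplicit false

namespace Cfsg.Agent.PermB.TwoP

open Finset Matrix

section conclusion

variable {α : Type*} [Fintype α] [DecidableEq α] {p : ℕ} [Fact p.Prime] {S : Setup α p}

theorem Esub_card_pos : 0 < (Esub S).card := Finset.card_pos.mpr ⟨1, Esub_one⟩

theorem exists_row (hprim : MulAction.IsPreprimitive S.G α) (h : RankOne S) {r : Orb S}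
    (hr : r ∈ R S) :
    ∃ z0 : ZMod p, z0 ≠ 0 ∧ (dN S r z0 = 1 ∨ dN S r z0 = 2) ∧
      ((Esub S).card : ℤ) * dN S r z0 = kk S r + th S r ∧
      ((Esub S).card : ℤ) * (dN S r z0 : ℤ) ^ 2 = 2 * ((kk S r : ℤ) - th S r * th S r) := by
  have hex : ∃ z, dN S r z ≠ 0 := by
    by_contra hc
    have hall : ∀ z, dN S r z = 0 := fun z => not_not.mp fun e => hc ⟨z, e⟩
    have h1 := sum_dN_row (S := S) r
    simp only [hall, Nat.cast_zero, Finset.sum_const_zero] at h1
    have h2 := gram h hr hr
    simp only [hall, Nat.cast_zero, mul_zero, Finset.sum_const_zero, if_true] at h2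
    have h3 : (kk S r : ℤ) = th S r * th S r := by
      have : (kk S r : ℝ) = (th S r : ℝ) * th S r := by linarith
      exact_mod_cast this
    have h4 : th S r = -(kk S r : ℤ) := by linarith
    rw [h4] at h3
    apply kk_ne_one hprim hr
    have := kk_pos r
    nlinarith
  obtain ⟨z0, hz⟩ := hex
  have hz0 : z0 ≠ 0 := fun e => hz (e ▸ dN_zero hr)
  obtain ⟨_, h1, h2⟩ := exists_class h hr hz0 hz
  refine ⟨z0, hz0, ?_, ?_, ?_⟩
  · have := Finset.single_le_sum (f := fun s => dN S s z0) (fun s _ => Nat.zero_le _) hr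
    rw [sum_R_dN hz0] at this
    omega
  · rw [← h1, sum_dN_row]
  · have h3 := gram h hr hr
    rw [h2, if_pos rfl] at h3
    exact_mod_cast h3

theorem diag_identity (h : RankOne S) {z0 : ZMod p} (hz0 : z0 ≠ 0) :
    ∑ r ∈ R S, ((Esub S).card : ℝ) * (dN S r z0 : ℝ) ^ 2 / kk S r = 2 := by
  have hp := projection h hz0 z0
  have hmem : z0 ∈ coset (S := S) z0 := by
    simp only [coset, Finset.mem_image]
    exact ⟨1, Esub_one, one_mul _⟩
  rw [if_pos hmem] at hp
  rw [← hp]
  refine Finset.sum_congr rfl (fun r _ => ?_)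
  rw [Finset.sum_congr rfl (fun w hw => by rw [dN_coset r hw]), Finset.sum_const, card_coset hz0,
    nsmul_eq_mul]
  ring

theorem two_row (h : RankOne S) {r : Orb S} (hr : r ∈ R S) {z0 : ZMod p} (hz0 : z0 ≠ 0)
    (hn : dN S r z0 = 2) (h1 : ((Esub S).card : ℤ) * dN S r z0 = kk S r + th S r) :
    th S r = 0 := by
  have hz : ∀ s ∈ R S, s ≠ r → dN S s z0 = 0 := by
    intro s hs hsr
    have h3 := sum_R_dN (S := S) hz0
    rw [← Finset.add_sum_erase _ _ hr, hn] at h3
    have h4 := Finset.single_le_sum (f := fun s => dN S s z0) (fun s _ => Nat.zero_le _)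
      (Finset.mem_erase.mpr ⟨hsr, hs⟩)
    omega
  have hd := diag_identity h hz0
  rw [Finset.sum_eq_single r (fun s hs hsr => by simp [hz s hs hsr]) (fun e => absurd hr e),
    hn] at hd
  have hk : (kk S r : ℝ) ≠ 0 := Nat.cast_ne_zero.mpr (kk_pos r).ne'
  field_simp at hd
  have hkf : (kk S r : ℤ) = 2 * ((Esub S).card : ℤ) := by
    have : (kk S r : ℝ) = 2 * ((Esub S).card : ℝ) := by push_cast at hd; linarith
    exact_mod_cast this
  rw [hn] at h1
  push_cast at h1
  linarith

theorem one_row (h : RankOne S) {r : Orb S} (hr : r ∈ R S) {z0 : ZMod p} (hz0 : z0 ≠ 0)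
    (hn : dN S r z0 = 1) :
    (2 * th S r ^ 2 + 2 * th S r = (Esub S).card) ∧
      (kk S r : ℤ) = (Esub S).card - th S r ∧ th S r ≠ 0 := by
  obtain ⟨_, h1, h2⟩ := exists_class h hr hz0 (by omega)
  rw [sum_dN_row, hn] at h1
  have h3 := gram h hr hr
  rw [h2, hn, if_pos rfl] at h3
  have h3' : ((Esub S).card : ℤ) * 1 = 2 * ((kk S r : ℤ) - th S r * th S r) := by
    have : ((Esub S).card : ℝ) * 1 = 2 * ((kk S r : ℝ) - th S r * th S r) := by
      simpa using h3
    exact_mod_cast this
  push_cast at h1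
  refine ⟨by linarith [sq (th S r)], by linarith, fun e => ?_⟩
  rw [e] at h1 h3'
  have := Esub_card_pos (S := S)
  omega

theorem rank_one_conclusion (hprim : MulAction.IsPreprimitive S.G α) (h : RankOne S) :
    Fintype.card (Orb S) = 3 ∧ ∃ a : ℕ, 0 < a ∧ p = 2 * a ^ 2 + 2 * a + 1 ∧
      ∀ r ∈ R S, kk S r = a * (2 * a + 1) ∨ kk S r = (a + 1) * (2 * a + 1) := by
  classical
  set f := (Esub S).card with hf
  have hfpos : 0 < f := Esub_card_pos
  -- some orbital has a non-zero eigenvalue, hence a row of ones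
  obtain ⟨r, hr, hrne⟩ : ∃ r ∈ R S, th S r ≠ 0 := by
    by_contra hc
    have h1 := sum_R_sq h
    rw [Finset.sum_eq_zero (fun r hr => ?_)] at h1
    · norm_num at h1
    · have : th S r = 0 := not_not.mp fun e => hc ⟨r, hr, e⟩
      simp [this]
  obtain ⟨z0, hz0, hn, h1, _⟩ := exists_row hprim h hr
  have hn1 : dN S r z0 = 1 := by
    rcases hn with e | e
    · exact e
    · exact absurd (two_row h hr hz0 e h1) hrne
  obtain ⟨s, hs, hsr, hsn⟩ : ∃ s ∈ R S, s ≠ r ∧ dN S s z0 ≠ 0 := by
    by_contra hc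
    have h2 := sum_R_dN (S := S) hz0
    rw [← Finset.add_sum_erase _ _ hr, hn1, Finset.sum_eq_zero (fun s hs => ?_)] at h2
    · omega
    · exact not_not.mp fun e =>
        hc ⟨s, Finset.mem_of_mem_erase hs, Finset.ne_of_mem_erase hs, e⟩
  have hrest : ∀ t ∈ R S, t ≠ r → t ≠ s → dN S t z0 = 0 ∧ dN S s z0 = 1 := by
    intro t ht htr hts
    have h2 := sum_R_dN (S := S) hz0
    rw [← Finset.add_sum_erase _ _ hr, hn1,
      ← Finset.add_sum_erase _ _ (Finset.mem_erase.mpr ⟨hsr, hs⟩)] at h2
    have h4 := Finset.single_le_sum (f := fun s => dN S s z0) (fun s _ => Nat.zero_le _)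
      (Finset.mem_erase.mpr ⟨hts, Finset.mem_erase.mpr ⟨htr, ht⟩⟩)
    omega
  have hs1 : dN S s z0 = 1 := by
    have h2 := sum_R_dN (S := S) hz0
    rw [← Finset.add_sum_erase _ _ hr, hn1,
      ← Finset.add_sum_erase _ _ (Finset.mem_erase.mpr ⟨hsr, hs⟩)] at h2
    omega
  obtain ⟨hqr, hkr, _⟩ := one_row h hr hz0 hn1
  obtain ⟨hqs, hks, _⟩ := one_row h hs hz0 hs1
  have hd := diag_identity h hz0
  rw [← Finset.add_sum_erase _ _ hr,
    Finset.sum_eq_single s (fun t ht hts => by
      simp [(hrest t (Finset.mem_of_mem_erase ht) (Finset.ne_of_mem_erase ht) hts).1])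
      (fun e => absurd (Finset.mem_erase.mpr ⟨hsr, hs⟩) e), hn1, hs1] at hd
  have hkr0 : (kk S r : ℝ) ≠ 0 := Nat.cast_ne_zero.mpr (kk_pos r).ne'
  have hks0 : (kk S s : ℝ) ≠ 0 := Nat.cast_ne_zero.mpr (kk_pos s).ne'
  have hsum : th S r + th S s = -1 := by
    have hroots : (th S r - th S s) * (th S r + th S s + 1) = 0 := by
      have : 2 * th S r ^ 2 + 2 * th S r = 2 * th S s ^ 2 + 2 * th S s := hqr.trans hqs.symm
      nlinarith
    rcases mul_eq_zero.mp hroots with e | e
    · exfalso
      have hk : (kk S s : ℤ) = kk S r := by rw [hkr, hks]; linarith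
      have hk' : (kk S s : ℝ) = kk S r := by exact_mod_cast hk
      rw [hk'] at hd
      field_simp at hd
      have : (kk S r : ℝ) = (f : ℝ) := by
        rw [hf]; push_cast at hd ⊢; linarith
      have : (kk S r : ℤ) = (f : ℤ) := by exact_mod_cast this
      rw [hkr] at this
      exact hrne (by linarith)
    · linarith
  have hval : (th S r : ℝ) ^ 2 / kk S r + (th S s : ℝ) ^ 2 / kk S s = 1 := by
    have e1 : (th S r : ℝ) ^ 2 = kk S r - (f : ℝ) / 2 := by
      have a : (2 : ℝ) * (th S r : ℝ) ^ 2 + 2 * th S r = f := by exact_mod_cast hqr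
      have b : (kk S r : ℝ) = f - th S r := by exact_mod_cast hkr
      linarith
    have e2 : (th S s : ℝ) ^ 2 = kk S s - (f : ℝ) / 2 := by
      have a : (2 : ℝ) * (th S s : ℝ) ^ 2 + 2 * th S s = f := by exact_mod_cast hqs
      have b : (kk S s : ℝ) = f - th S s := by exact_mod_cast hks
      linarith
    rw [e1, e2]
    rw [← hf] at hd
    push_cast at hd
    field_simp at hd ⊢
    nlinarith
  have hzero : ∀ t ∈ R S, t ≠ r → t ≠ s → th S t = 0 := by
    intro t ht htr hts
    have h2 := sum_R_sq h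
    rw [← Finset.add_sum_erase _ _ hr,
      ← Finset.add_sum_erase _ _ (Finset.mem_erase.mpr ⟨hsr, hs⟩)] at h2
    have h4 := Finset.single_le_sum
      (f := fun s => (th S s : ℝ) ^ 2 / kk S s)
      (fun s _ => div_nonneg (sq_nonneg _) (Nat.cast_nonneg _))
      (Finset.mem_erase.mpr ⟨hts, Finset.mem_erase.mpr ⟨htr, ht⟩⟩)
    have h5 : (th S t : ℝ) ^ 2 / kk S t ≤ 0 := by linarith
    have hk : (0 : ℝ) < kk S t := Nat.cast_pos.mpr (kk_pos t)
    rw [div_le_iff₀ hk, zero_mul] at h5
    exact_mod_cast pow_eq_zero_iff (two_ne_zero) |>.mp (le_antisymm h5 (sq_nonneg _))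
  have honly : ∀ t ∈ R S, t = r ∨ t = s := by
    intro t ht
    by_contra hc
    have htr : t ≠ r := fun e => hc (Or.inl e)
    have hts : t ≠ s := fun e => hc (Or.inr e)
    have hth := hzero t ht htr hts
    obtain ⟨z1, hz1, hn', -, -⟩ := exists_row hprim h ht
    have ht2 : dN S t z1 = 2 := by
      rcases hn' with e | e
      · exact absurd hth (one_row h ht hz1 e).2.2
      · exact e
    have hab : ∀ z, A S t (S.pt (0, 0)) (S.pt (0, z)) = A S t (S.pt (1, 0)) (S.pt (1, z)) := by
      intro z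
      by_cases hz : z ∈ coset (S := S) z1
      · have h2 : dN S t z = 2 := (dN_coset t hz).trans ht2
        simp only [dN, x0, x1] at h2
        simp only [A, Matrix.of_apply]
        by_cases u : qo S (S.pt (0, 0)) (S.pt (0, z)) = t <;>
          by_cases v : qo S (S.pt (1, 0)) (S.pt (1, z)) = t <;> simp [u, v] at h2 ⊢
      · have h2 := (exists_class h ht hz1 (by omega)).1 z hz
        simp only [dN, x0, x1] at h2
        simp only [A, Matrix.of_apply]
        by_cases u : qo S (S.pt (0, 0)) (S.pt (0, z)) = t <;>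
          by_cases v : qo S (S.pt (1, 0)) (S.pt (1, z)) = t <;> simp [u, v] at h2 ⊢
    have hhalf : ∀ k : ZMod p, k ≠ 0 → F S (Pm S) k 0 0 = F S (Pm S) k 1 1 := by
      intro k hk
      have e := split_F h (Inv_A (S := S) t) hk
      rw [theta_A, hth] at e
      have e00 := congrFun (congrFun e 0) 0
      have e11 := congrFun (congrFun e 1) 1
      simp at e00 e11
      have heq : F S (A S t) k 0 0 = F S (A S t) k 1 1 := by simp [F, hab]
      have hxi : xi S (A S t) k ≠ 0 := by
        intro hxi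
        rw [xi, theta_A, hth] at hxi
        simp only [dhat, D_A, Int.cast_zero, Complex.ofReal_zero, sub_zero] at hxi
        rw [hat_scale _ hk] at hxi
        have := rat_const_of_hat_one (fun z => (dN S t (z / k) : ℚ)) (by simpa using hxi) (z1 * k)
        simp only [zero_div, dN_zero ht, Nat.cast_zero] at this
        rw [mul_div_assoc, div_self hk, mul_one, ht2] at this
        norm_num at this
      rw [heq, e11] at e00
      have := mul_left_cancel₀ hxi e00
      linear_combination this
    have hall : ∀ z, A S r (S.pt (0, 0)) (S.pt (0, z)) = A S r (S.pt (1, 0)) (S.pt (1, z)) := by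
      intro z
      have hc := const_of_hat_eq_zero (fun z => (A S r (S.pt (0, 0)) (S.pt (0, z)) : ℂ)
          - (A S r (S.pt (1, 0)) (S.pt (1, z)) : ℂ)) (fun k hk => by
        have e := split_F h (Inv_A (S := S) r) hk
        have e00 := congrFun (congrFun e 0) 0
        have e11 := congrFun (congrFun e 1) 1
        simp only [F, Matrix.of_apply, Matrix.add_apply, Matrix.smul_apply, Matrix.sub_apply,
          Matrix.one_apply_eq, smul_eq_mul] at e00 e11
        have hh := hhalf k hk
        simp only [F, Matrix.of_apply] at hh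
        simp only [hat, sub_mul, Finset.sum_sub_distrib]
        simp only [hat] at e00 e11 hh
        rw [e00, e11, hh, sub_self]) z
      have h0 : qo S (S.pt (0, 0)) (S.pt (0, 0)) = diag S := qo_eq_diag_iff.mpr rfl
      have h0' : qo S (S.pt (1, 0)) (S.pt (1, 0)) = diag S := qo_eq_diag_iff.mpr rfl
      have hne : diag S ≠ r := fun e => Finset.ne_of_mem_erase hr e.symm
      simp only [A, Matrix.of_apply, h0, h0', hne, if_false, Complex.ofReal_zero, sub_self] at hc
      rw [sub_eq_zero] at hc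
      apply Complex.ofReal_injective
      simp only [A, Matrix.of_apply]
      exact hc
    have h2 := hall z0
    simp only [A, Matrix.of_apply] at h2
    simp only [dN, x0, x1] at hn1
    by_cases u : qo S (S.pt (0, 0)) (S.pt (0, z0)) = r <;>
      by_cases v : qo S (S.pt (1, 0)) (S.pt (1, z0)) = r <;> simp [u, v] at h2 hn1
  have hR : R S = {r, s} := by
    ext t
    simp only [Finset.mem_insert, Finset.mem_singleton]
    refine ⟨honly t, ?_⟩
    rintro (rfl | rfl)
    · exact hr
    · exact hs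
  have hp : p.Prime := Fact.out
  have hfp : (f : ℤ) = (p : ℤ) - 1 := by
    have h2 := sum_R_kk (S := S)
    rw [hR, Finset.sum_pair (Ne.symm hsr)] at h2
    have h2' : (kk S r : ℤ) + kk S s = 2 * p - 1 := by
      have := hp.one_lt; omega
    rw [hkr, hks] at h2'
    linarith
  refine ⟨?_, ?_⟩
  · have hc : (R S).card = 2 := by rw [hR, Finset.card_pair (Ne.symm hsr)]
    rw [R, Finset.card_erase_of_mem (mem_univ _), Finset.card_univ] at hc
    omega
  obtain ⟨a, ha⟩ : ∃ a : ℕ, ((a : ℤ) = th S r ∧ -(a : ℤ) - 1 = th S s) ∨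
      ((a : ℤ) = th S s ∧ -(a : ℤ) - 1 = th S r) := by
    rcases le_or_gt 0 (th S r) with hle | hlt
    · exact ⟨(th S r).toNat, Or.inl (by constructor <;> omega)⟩
    · exact ⟨(th S s).toNat, Or.inr (by constructor <;> omega)⟩
  have hpa : p = 2 * a ^ 2 + 2 * a + 1 := by
    have : (p : ℤ) = 2 * (a : ℤ) ^ 2 + 2 * a + 1 := by
      rcases ha with ⟨e1, e2⟩ | ⟨e1, e2⟩
      · rw [e1]; linarith
      · rw [e1]; linarith
    exact_mod_cast this
  refine ⟨a, ?_, hpa, ?_⟩
  · rcases Nat.eq_zero_or_pos a with rfl | ha'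
    · exact absurd hpa (by simpa using hp.ne_one)
    · exact ha'
  intro t ht
  have hfa : (f : ℤ) = 2 * (a : ℤ) ^ 2 + 2 * a := by
    rw [hfp, hpa]; push_cast; ring
  have hk2 : ∀ u, (kk S u : ℤ) = f - th S u → ((a : ℤ) = th S u → kk S u = a * (2 * a + 1)) ∧
      (-(a : ℤ) - 1 = th S u → kk S u = (a + 1) * (2 * a + 1)) := by
    intro u hu
    constructor <;> intro e <;> rw [← e, hfa] at hu
    · have : (kk S u : ℤ) = ((a * (2 * a + 1) : ℕ) : ℤ) := by rw [hu]; push_cast; ring
      exact_mod_cast this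
    · have : (kk S u : ℤ) = (((a + 1) * (2 * a + 1) : ℕ) : ℤ) := by rw [hu]; push_cast; ring
      exact_mod_cast this
  rcases honly t ht with rfl | rfl <;> rcases ha with ⟨e1, e2⟩ | ⟨e1, e2⟩
  · exact Or.inl ((hk2 t hkr).1 e1)
  · exact Or.inr ((hk2 t hkr).2 e2)
  · exact Or.inr ((hk2 t hks).2 e2)
  · exact Or.inl ((hk2 t hks).1 e1)

end conclusion

/-- A transitive group of degree `2p` contains an element of order `p` without fixed points. -/
theorem exists_setup {α : Type*} [Fintype α] [DecidableEq α] {p : ℕ} [Fact p.Prime]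
    (hα : Fintype.card α = 2 * p) (G : Subgroup (Equiv.Perm α)) [MulAction.IsPretransitive G α] :
    ∃ S : Setup α p, S.G = G := by
  classical
  have hp : p.Prime := Fact.out
  haveI : Nonempty α := Fintype.card_pos_iff.mp (by rw [hα]; have := hp.pos; omega)
  obtain ⟨P⟩ : Nonempty (Sylow p G) := inferInstance
  have hP : IsPGroup p P := P.isPGroup'
  -- invariant sets have size divisible by `p`
  have hdiv : ∀ Δ : Finset α, (∀ g ∈ (P : Subgroup G), ∀ x ∈ Δ, g • x ∈ Δ) → p ∣ Δ.card := by
    intro Δ hΔ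
    let _ : MulAction P Δ :=
      { smul := fun g x => ⟨(g : G) • (x : α), hΔ g g.2 x x.2⟩
        one_smul := fun x => Subtype.ext (one_smul G (x : α))
        mul_smul := fun g h x => Subtype.ext (mul_smul (g : G) (h : G) (x : α)) }
    have h1 := hP.card_modEq_card_fixedPoints Δ
    have h2 : IsEmpty (MulAction.fixedPoints P Δ) := by
      refine ⟨fun ⟨x, hx⟩ => ?_⟩
      have hle : (P : Subgroup G) ≤ MulAction.stabilizer G (x : α) :=
        fun g hg => congrArg Subtype.val (hx ⟨g, hg⟩)
      apply P.not_dvd_index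
      refine dvd_trans ?_ (Subgroup.index_dvd_of_le hle)
      rw [MulAction.index_stabilizer_of_transitive, Nat.card_eq_fintype_card, hα]
      exact dvd_mul_left _ _
    have e1 : Nat.card (MulAction.fixedPoints P Δ) = 0 := @Nat.card_of_isEmpty _ h2
    rw [e1, Nat.card_eq_fintype_card, Fintype.card_coe] at h1
    exact Nat.modEq_zero_iff_dvd.mp h1
  have hnofix : ∀ x : α, ∃ g ∈ (P : Subgroup G), g • x ≠ x := by
    intro x
    by_contra hc
    have h1 := hdiv {x} (fun g hg y hy => by
      rw [Finset.mem_singleton] at hy ⊢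
      subst hy
      exact not_not.mp fun e => hc ⟨g, hg, e⟩)
    rw [Finset.card_singleton] at h1
    exact hp.one_lt.ne' (Nat.dvd_one.mp h1)
  -- periods
  have hper : ∀ u ∈ (P : Subgroup G), ∀ x : α, ∃ i : ℕ, Function.minimalPeriod (u • ·) x = p ^ i := by
    intro u hu x
    obtain ⟨m, hm⟩ := hP ⟨u, hu⟩
    have hm' : u ^ p ^ m = 1 := congrArg Subtype.val hm
    have h1 : Function.minimalPeriod (u • ·) x ∣ p ^ m := by
      apply Function.IsPeriodicPt.minimalPeriod_dvd
      show ((u • ·)^[p ^ m]) x = x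
      rw [smul_iterate_apply, hm', one_smul]
    obtain ⟨i, -, hi⟩ := (Nat.dvd_prime_pow hp).mp h1
    exact ⟨i, hi⟩
  -- an element all of whose periods are `p`
  obtain ⟨σ, hσ⟩ : ∃ σ : G, ∀ x : α, Function.minimalPeriod (σ • ·) x = p := by
    haveI : Nontrivial P := by
      obtain ⟨g, hg, hgx⟩ := hnofix (Classical.arbitrary α)
      exact ⟨⟨g, hg⟩, 1, fun e => hgx (by
        have : g = 1 := congrArg Subtype.val e
        rw [this, one_smul])⟩
    have hcnt : Nontrivial (Subgroup.center P) := hP.center_nontrivial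
    obtain ⟨c, hc⟩ := exists_prime_orderOf_dvd_card' (G := Subgroup.center P) p (by
      obtain ⟨n, hn, hn'⟩ :=
        (hP.to_subgroup (Subgroup.center P)).nontrivial_iff_card.mp hcnt
      rw [hn']; exact dvd_pow_self p (by omega))
    set z : G := ((c : P) : G) with hz
    have hzp : z ^ p = 1 := by
      have h1 : c ^ p = 1 := orderOf_dvd_iff_pow_eq_one.mp hc.dvd
      rw [hz, ← SubmonoidClass.coe_pow, ← SubmonoidClass.coe_pow, h1]
      rfl
    have hzmem : z ∈ (P : Subgroup G) := (c : P).2
    have hzcomm : ∀ g ∈ (P : Subgroup G), g * z = z * g := fun g hg =>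
      congrArg Subtype.val (Subgroup.mem_center_iff.mp c.2 ⟨g, hg⟩)
    have hzper : ∀ x : α, z • x ≠ x → Function.minimalPeriod (z • ·) x = p := by
      intro x hx
      have h1 : Function.minimalPeriod (z • ·) x ∣ p := by
        apply Function.IsPeriodicPt.minimalPeriod_dvd
        show ((z • ·)^[p]) x = x
        rw [smul_iterate_apply, hzp, one_smul]
      rcases (Nat.dvd_prime hp).mp h1 with e | e
      · exact absurd (Function.minimalPeriod_eq_one_iff_isFixedPt.mp e) hx
      · exact e
    by_cases hfree : ∀ x : α, z • x ≠ x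
    · exact ⟨z, fun x => hzper x (hfree x)⟩
    push Not at hfree
    obtain ⟨a, ha⟩ := hfree
    set Δ := univ.filter (fun x : α => z • x = x) with hΔ
    set Γ := univ.filter (fun x : α => z • x ≠ x) with hΓ
    have hinvΔ : ∀ g ∈ (P : Subgroup G), ∀ x ∈ Δ, g • x ∈ Δ := by
      intro g hg x hx
      simp only [hΔ, Finset.mem_filter, Finset.mem_univ, true_and] at hx ⊢
      rw [← mul_smul, ← hzcomm g hg, mul_smul, hx]
    have hinvΓ : ∀ g ∈ (P : Subgroup G), ∀ x ∈ Γ, g • x ∈ Γ := by
      intro g hg x hx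
      simp only [hΓ, Finset.mem_filter, Finset.mem_univ, true_and] at hx ⊢
      rw [← mul_smul, ← hzcomm g hg, mul_smul]
      exact fun e => hx (MulAction.injective g e)
    have hsum : Δ.card + Γ.card = 2 * p := by
      rw [hΔ, hΓ, Finset.card_filter_add_card_filter_not, Finset.card_univ, hα]
    have hΔne : 0 < Δ.card := Finset.card_pos.mpr ⟨a, by simp [hΔ, ha]⟩
    have hΓne : 0 < Γ.card := by
      refine Finset.card_pos.mpr ?_
      obtain ⟨x, hx⟩ : ∃ x : α, z • x ≠ x := by
        by_contra hcon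
        have : z = 1 := Subtype.ext (Equiv.ext fun x => not_not.mp fun e => hcon ⟨x, e⟩)
        have h2 : c = 1 := Subtype.ext (Subtype.ext this)
        rw [h2, orderOf_one] at hc
        exact hp.one_lt.ne hc
      exact ⟨x, by simp [hΓ, hx]⟩
    obtain ⟨i, hi⟩ := hdiv Δ hinvΔ
    obtain ⟨j, hj⟩ := hdiv Γ hinvΓ
    have hij : i + j = 2 := by
      have : p * (i + j) = p * 2 := by rw [mul_add, ← hi, ← hj, hsum]; ring
      exact Nat.eq_of_mul_eq_mul_left hp.pos this
    have hi1 : i = 1 := by
      rcases Nat.eq_zero_or_pos i with rfl | h1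
      · rw [mul_zero] at hi; omega
      rcases Nat.eq_zero_or_pos j with rfl | h2
      · rw [mul_zero] at hj; omega
      omega
    have hj1 : j = 1 := by omega
    rw [hi1, mul_one] at hi
    rw [hj1, mul_one] at hj
    have hsmall : ∀ (E : Finset α), (∀ g ∈ (P : Subgroup G), ∀ x ∈ E, g • x ∈ E) → E.card = p →
        ∀ u ∈ (P : Subgroup G), ∀ x ∈ E, u • x ≠ x →
          Function.minimalPeriod (u • ·) x = p ∧ ∀ y ∈ E, ∃ n : ℕ, u ^ n • x = y := by
      intro E hE hEc u hu x hx hne
      obtain ⟨k, hk⟩ := hper u hu x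
      set O := (Finset.range (Function.minimalPeriod (u • ·) x)).image (fun n => u ^ n • x) with hO
      have hOE : O ⊆ E := by
        intro y hy
        obtain ⟨n, -, rfl⟩ := Finset.mem_image.mp hy
        exact hE _ (pow_mem hu n) x hx
      have hOc : O.card = Function.minimalPeriod (u • ·) x := by
        rw [hO, Finset.card_image_of_injOn, Finset.card_range]
        intro m hm n hn he
        rw [Finset.coe_range, Set.mem_Iio] at hm hn
        refine Function.iterate_injOn_Iio_minimalPeriod hm hn ?_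
        simpa [smul_iterate] using he
      have hle := Finset.card_le_card hOE
      rw [hOc, hEc, hk] at hle
      have hkp : Function.minimalPeriod (u • ·) x = p := by
        rw [hk]
        rcases Nat.eq_zero_or_pos k with rfl | hk0
        · rw [pow_zero] at hk
          exact absurd (Function.minimalPeriod_eq_one_iff_isFixedPt.mp hk) hne
        · refine le_antisymm hle ?_
          calc p = p ^ 1 := (pow_one p).symm
            _ ≤ p ^ k := Nat.pow_le_pow_right hp.pos hk0
      refine ⟨hkp, fun y hy => ?_⟩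
      have : y ∈ O := by
        rw [Finset.eq_of_subset_of_card_le hOE (by rw [hOc, hEc, hkp])]
        exact hy
      obtain ⟨n, -, hn⟩ := Finset.mem_image.mp this
      exact ⟨n, hn⟩
    obtain ⟨w, hw, hwa⟩ := hnofix a
    have haΔ : a ∈ Δ := by simp [hΔ, ha]
    have hwΔ : ∀ x ∈ Δ, w • x ≠ x := by
      intro x hx hfx
      obtain ⟨n, hn⟩ := (hsmall Δ hinvΔ hi w hw a haΔ hwa).2 x hx
      apply hwa
      apply MulAction.injective (w ^ n)
      show w ^ n • w • a = w ^ n • a
      rw [← mul_smul, ← pow_succ, pow_succ', mul_smul, hn, hfx]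
    have hmemΔΓ : ∀ x, x ∈ Δ ∨ x ∈ Γ := fun x => by
      by_cases hx : z • x = x <;> simp [hΔ, hΓ, hx]
    by_cases hwΓ : ∀ x ∈ Γ, w • x ≠ x
    · refine ⟨w, fun x => ?_⟩
      rcases hmemΔΓ x with hx | hx
      · exact (hsmall Δ hinvΔ hi w hw x hx (hwΔ x hx)).1
      · exact (hsmall Γ hinvΓ hj w hw x hx (hwΓ x hx)).1
    push Not at hwΓ
    obtain ⟨b, hbΓ, hb⟩ := hwΓ
    have hwfix : ∀ x ∈ Γ, w • x = x := by
      intro x hx
      by_contra hne
      obtain ⟨n, hn⟩ := (hsmall Γ hinvΓ hj w hw x hx hne).2 b hbΓ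
      apply hne
      apply MulAction.injective (w ^ n)
      show w ^ n • w • x = w ^ n • x
      rw [← mul_smul, ← pow_succ, pow_succ', mul_smul, hn, hb]
    refine ⟨w * z, fun x => ?_⟩
    have hmem : w * z ∈ (P : Subgroup G) := mul_mem hw hzmem
    rcases hmemΔΓ x with hx | hx
    · refine (hsmall Δ hinvΔ hi _ hmem x hx ?_).1
      rw [mul_smul, (Finset.mem_filter.mp hx).2]
      exact hwΔ x hx
    · refine (hsmall Γ hinvΓ hj _ hmem x hx ?_).1
      rw [mul_smul, hwfix _ (hinvΓ z hzmem x hx)]
      exact (Finset.mem_filter.mp hx).2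
  -- build the two cycles
  have hσp : ∀ x : α, σ ^ p • x = x := by
    intro x
    rw [← smul_iterate_apply]
    have := Function.isPeriodicPt_minimalPeriod (σ • ·) x
    rw [hσ x] at this
    exact this
  have hinj : ∀ x : α, ∀ m n : ℕ, m < p → n < p → σ ^ m • x = σ ^ n • x → m = n := by
    intro x m n hm hn he
    refine Function.iterate_injOn_Iio_minimalPeriod (f := (σ • ·)) (x := x) ?_ ?_ ?_
    · rw [Set.mem_Iio, hσ x]; exact hm
    · rw [Set.mem_Iio, hσ x]; exact hn
    · simpa [smul_iterate] using he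
  set a : α := Classical.arbitrary α
  obtain ⟨b, hb⟩ : ∃ b : α, ∀ n : ℕ, σ ^ n • a ≠ b := by
    by_contra hcon
    push Not at hcon
    have h1 : (univ : Finset α) ⊆ (Finset.range p).image (fun n => σ ^ n • a) := by
      intro y _
      obtain ⟨n, rfl⟩ := hcon y
      refine Finset.mem_image.mpr ⟨n % p, Finset.mem_range.mpr (Nat.mod_lt _ hp.pos), ?_⟩
      have h2 : ∀ q : ℕ, σ ^ (p * q) • a = a := by
        intro q
        induction q with
        | zero => simp
        | succ q ih => rw [Nat.mul_succ, pow_add, mul_smul, hσp, ih]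
      conv_rhs => rw [← Nat.mod_add_div n p, pow_add, mul_smul, h2]
    have h3 := (Finset.card_le_card h1).trans Finset.card_image_le
    rw [Finset.card_univ, hα, Finset.card_range] at h3
    have := hp.pos
    omega
  set base : Fin 2 → α := fun i => if i = 0 then a else b with hbase
  set φ : Fin 2 × ZMod p → α := fun w => σ ^ w.2.val • base w.1 with hφ
  have hbij : Function.Bijective φ := by
    rw [Fintype.bijective_iff_injective_and_card]
    refine ⟨?_, by simp [hα]⟩
    have hcross : ∀ m n : ℕ, n < p → σ ^ m • a ≠ σ ^ n • b := by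
      intro m n hn he
      apply hb (p - n + m)
      rw [pow_add, mul_smul, he, ← mul_smul, ← pow_add, Nat.sub_add_cancel hn.le, hσp]
    rintro ⟨i, x⟩ ⟨j, y⟩ he
    simp only [hφ] at he
    fin_cases i <;> fin_cases j <;> simp [hbase] at he
    · exact Prod.ext rfl (ZMod.val_injective p (hinj a _ _ (ZMod.val_lt x) (ZMod.val_lt y) he))
    · exact absurd he (hcross _ _ (ZMod.val_lt y))
    · exact absurd he.symm (hcross _ _ (ZMod.val_lt x))
    · exact Prod.ext rfl (ZMod.val_injective p (hinj b _ _ (ZMod.val_lt x) (ZMod.val_lt y) he))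
  refine ⟨⟨G, inferInstance, Equiv.ofBijective φ hbij, ⟨σ, σ.2, fun i x => ?_⟩⟩, rfl⟩
  show σ • (σ ^ x.val • base i) = σ ^ (x + 1).val • base i
  rw [← mul_smul, ← pow_succ']
  rcases lt_or_ge (x.val + 1) p with hlt | hge
  · have : (x + 1).val = x.val + 1 := by
      rw [ZMod.val_add, ZMod.val_one p, Nat.mod_eq_of_lt hlt]
    rw [this]
  · have hx := ZMod.val_lt x
    have he : x.val + 1 = p := by omega
    have h0 : (x + 1).val = 0 := by
      rw [ZMod.val_add, ZMod.val_one p, he, Nat.mod_self]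
    rw [h0, he, hσp, pow_zero, one_smul]

/-- Wielandt's theorem. -/
theorem wielandt {α : Type*} [Fintype α] [DecidableEq α] {p : ℕ} (hp : p.Prime)
    (hα : Fintype.card α = 2 * p) (G : Subgroup (Equiv.Perm α))
    (hG : MulAction.IsPreprimitive G α) (a₀ : α) :
    MulAction.IsMultiplyPretransitive G α 2 ∨
      (Nat.card (MulAction.orbitRel.Quotient (MulAction.stabilizer G a₀) α) = 3 ∧
        ∃ a : ℕ, 0 < a ∧ p = 2 * a ^ 2 + 2 * a + 1 ∧
          ∀ b : α, b ≠ a₀ → Nat.card (MulAction.orbit (MulAction.stabilizer G a₀) b)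
              = a * (2 * a + 1) ∨
            Nat.card (MulAction.orbit (MulAction.stabilizer G a₀) b) = (a + 1) * (2 * a + 1)) := by
  classical
  haveI : Fact p.Prime := ⟨hp⟩
  obtain ⟨S, rfl⟩ := exists_setup hα G
  obtain ⟨n, hn, htr, hmu⟩ := rank_const (S := S)
  rcases hn with ⟨-, h0⟩ | rfl | ⟨-, h2⟩
  · exact (rank_zero_false hG h0).elim
  · right
    have hone : RankOne S := ⟨by rw [hmu]; push_cast; ring, fun k hk => by
      rw [htr k hk]; norm_num⟩
    obtain ⟨hcard, a, ha, hpa, hk⟩ := rank_one_conclusion hG hone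
    have horb : ∀ b y, qo S a₀ y = qo S a₀ b ↔ y ∈ MulAction.orbit (MulAction.stabilizer S.G a₀) b := by
      intro b y
      rw [qo_eq_iff]
      constructor
      · rintro ⟨g, hg, h1, h2⟩
        exact ⟨⟨⟨g, hg⟩, h1⟩, h2⟩
      · rintro ⟨g, rfl⟩
        exact ⟨_, g.1.2, g.2, rfl⟩
    refine ⟨?_, a, ha, hpa, fun b hb => ?_⟩
    · rw [← hcard, ← Nat.card_eq_fintype_card]
      refine Nat.card_congr (Equiv.ofBijective (Quotient.lift (fun y => qo S a₀ y) ?_) ⟨?_, ?_⟩)
      · intro y y' hy
        exact (horb y' y).mpr (MulAction.orbitRel_apply.mp hy)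
      · intro u v
        induction u using Quotient.inductionOn with
        | h y =>
          induction v using Quotient.inductionOn with
          | h y' =>
            intro he
            exact Quotient.sound (MulAction.orbitRel_apply.mpr ((horb y' y).mp he))
      · intro r
        induction r using Quotient.inductionOn' with
        | h w =>
          obtain ⟨x, y⟩ := w
          obtain ⟨g, hg⟩ := S.trans.exists_smul_eq a₀ x
          refine ⟨Quotient.mk _ (g⁻¹ • y), ?_⟩
          show qo S a₀ (g⁻¹ • y) = qo S x y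
          refine (qo_eq_iff.mpr ⟨g, g.2, hg, ?_⟩).symm
          exact smul_inv_smul g y
    · have hr : qo S a₀ b ∈ R S := by
        refine Finset.mem_erase.mpr ⟨fun e => hb (qo_eq_diag_iff.mp e).symm, Finset.mem_univ _⟩
      have e : Nat.card (MulAction.orbit (MulAction.stabilizer S.G a₀) b) = kk S (qo S a₀ b) := by
        have h1 := card_row (qo S a₀ b) a₀
        rw [← Nat.cast_inj (R := ℝ), ← h1, Nat.cast_inj, Nat.card_eq_fintype_card,
          Fintype.card_subtype]
        congr 1
        ext y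
        simp [horb]
      rw [e]
      exact hk _ hr
  · exact Or.inl (rank_two_two_transitive hG h2)

end Cfsg.Agent.PermB.TwoP
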