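import Cfsg.Agent.PermB.TwoPFourier
import Mathlib.LinearAlgebra.Matrix.Trace
import Mathlib.Data.Matrix.Basic
import Mathlib.GroupTheory.GroupAction.Quotient
import Mathlib.GroupTheory.GroupAction.Transitive
import Mathlib.LinearAlgebra.Matrix.Notation

/-!
The centraliser algebra of a permutation group of degree `2p` containing a fixed-point-free
element of order `p`, seen through the Fourier transform along that element.
-/

set_option autoImplicit false

namespace Cfsg.Agent.PermB.TwoP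

open Finset ComplexConjugate Matrix

/-- Degree `2p` data: an element of `G` shifting two cycles of length `p`. -/
structure Setup (α : Type*) (p : ℕ) where
  G : Subgroup (Equiv.Perm α)
  trans : MulAction.IsPretransitive G α
  pt : Fin 2 × ZMod p ≃ α
  shift : ∃ σ ∈ G, ∀ i x, σ (pt (i, x)) = pt (i, x + 1)

variable {α : Type*} [Fintype α] {p : ℕ} [Fact p.Prime] (S : Setup α p)

/-- The invariant real matrices. -/
def Inv (M : Matrix α α ℝ) : Prop := ∀ g ∈ S.G, ∀ x y, M (g x) (g y) = M x y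

variable {S}

theorem Inv.sub {M N : Matrix α α ℝ} (hM : Inv S M) (hN : Inv S N) : Inv S (M - N) :=
  fun g hg x y => by simp [hM g hg, hN g hg]

theorem Inv.smul {M : Matrix α α ℝ} (hM : Inv S M) (c : ℝ) : Inv S (c • M) :=
  fun g hg x y => by simp [hM g hg]

theorem Inv.transpose {M : Matrix α α ℝ} (hM : Inv S M) : Inv S Mᵀ :=
  fun g hg x y => hM g hg y x

theorem Inv.mul {M N : Matrix α α ℝ} (hM : Inv S M) (hN : Inv S N) : Inv S (M * N) := by
  intro g hg x y
  simp only [Matrix.mul_apply]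
  refine (Fintype.sum_equiv g _ _ (fun w => ?_)).symm
  rw [hM g hg, hN g hg]

theorem Inv.one [DecidableEq α] : Inv S (1 : Matrix α α ℝ) :=
  fun g _ x y => by simp [Matrix.one_apply]

theorem Inv.translate {M : Matrix α α ℝ} (hM : Inv S M) (i j : Fin 2) (x y : ZMod p) :
    M (S.pt (i, x)) (S.pt (j, y)) = M (S.pt (i, 0)) (S.pt (j, y - x)) := by
  obtain ⟨σ, hσ, hs⟩ := S.shift
  have : ∀ n : ℕ, ∀ z, M (S.pt (i, (n : ZMod p))) (S.pt (j, z + n))
      = M (S.pt (i, 0)) (S.pt (j, z)) := by
    intro n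
    induction n with
    | zero => simp
    | succ n ih =>
      intro z
      rw [← ih z, ← hM σ hσ (S.pt (i, (n : ZMod p))), hs, hs]
      push_cast
      rw [add_assoc]
  have h := this x.val (y - x)
  rwa [ZMod.natCast_zmod_val, sub_add_cancel] at h

variable (S)

/-- The common row sum. -/
noncomputable def kappa (M : Matrix α α ℝ) : ℝ := ∑ y, M (S.pt (0, 0)) y

/-- The eigenvalue on the vector that is `1` on one cycle and `-1` on the other. -/
noncomputable def theta (M : Matrix α α ℝ) : ℝ :=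
  ∑ z, M (S.pt (0, 0)) (S.pt (0, z)) - ∑ z, M (S.pt (0, 0)) (S.pt (1, z))

/-- The Fourier transform of a matrix along the cycles. -/
noncomputable def F (M : Matrix α α ℝ) (k : ZMod p) : Matrix (Fin 2) (Fin 2) ℂ :=
  Matrix.of fun i j => hat (fun z => (M (S.pt (i, 0)) (S.pt (j, z)) : ℂ)) k

/-- The sum of the two diagonal block rows. -/
noncomputable def D (M : Matrix α α ℝ) (z : ZMod p) : ℝ :=
  M (S.pt (0, 0)) (S.pt (0, z)) + M (S.pt (1, 0)) (S.pt (1, z))

/-- The transform of `D`. -/
noncomputable def dhat (M : Matrix α α ℝ) (k : ZMod p) : ℂ := hat (fun z => (D S M z : ℂ)) k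

/-- The inner product of two real matrices. -/
noncomputable def Bil (M N : Matrix α α ℝ) : ℝ := ∑ x, ∑ y, M x y * N x y

variable {S}

theorem trace_F (M : Matrix α α ℝ) (k : ZMod p) : (F S M k).trace = dhat S M k := by
  simp only [Matrix.trace, Matrix.diag, F, Matrix.of_apply, Fin.sum_univ_two, dhat, hat, D]
  rw [← Finset.sum_add_distrib]
  refine Finset.sum_congr rfl (fun z _ => ?_)
  push_cast
  ring

theorem sum_pts {β : Type*} [AddCommMonoid β] (f : α → β) :
    ∑ y, f y = ∑ z, f (S.pt (0, z)) + ∑ z, f (S.pt (1, z)) := by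
  rw [← Fintype.sum_equiv S.pt (fun w => f (S.pt w)) f (fun _ => rfl), Fintype.sum_prod_type,
    Fin.sum_univ_two]

theorem F_mul {M N : Matrix α α ℝ} (hN : Inv S N) (k : ZMod p) :
    F S (M * N) k = F S M k * F S N k := by
  ext i j
  simp only [F, Matrix.of_apply, Matrix.mul_apply, hat]
  have e : ∀ z, ((∑ w, M (S.pt (i, 0)) w * N w (S.pt (j, z)) : ℝ) : ℂ)
      = ∑ l : Fin 2, ∑ w : ZMod p,
          (M (S.pt (i, 0)) (S.pt (l, w)) : ℂ) * (N (S.pt (l, 0)) (S.pt (j, z - w)) : ℂ) := by
    intro z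
    rw [← Fintype.sum_equiv S.pt (fun w => M (S.pt (i, 0)) (S.pt w) * N (S.pt w) (S.pt (j, z)))
      (fun w => M (S.pt (i, 0)) w * N w (S.pt (j, z))) (fun _ => rfl), Fintype.sum_prod_type]
    push_cast
    exact Finset.sum_congr rfl fun l _ => Finset.sum_congr rfl fun w _ => by
      rw [hN.translate l j w z]
  simp only [e, Finset.sum_mul]
  rw [Finset.sum_comm]
  refine Finset.sum_congr rfl (fun l _ => ?_)
  rw [Finset.sum_comm]
  refine Finset.sum_congr rfl (fun w _ => ?_)
  rw [Finset.mul_sum]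
  refine Fintype.sum_equiv (Equiv.subRight w) _ _ (fun z => ?_)
  simp only [Equiv.subRight_apply]
  rw [show k * z = k * w + k * (z - w) by ring, psi_add]
  ring

theorem F_transpose {M : Matrix α α ℝ} (hM : Inv S M) (k : ZMod p) :
    F S Mᵀ k = (F S M k)ᴴ := by
  ext i j
  simp only [F, Matrix.of_apply, Matrix.conjTranspose_apply, hat, Matrix.transpose_apply,
    RCLike.star_def, map_sum]
  refine Fintype.sum_equiv (Equiv.neg (ZMod p)) _ _ (fun z => ?_)
  rw [hM.translate j i z 0, zero_sub]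
  simp [conj_psi]

theorem row_sum {M : Matrix α α ℝ} (hM : Inv S M) (x : α) : ∑ y, M x y = kappa S M := by
  obtain ⟨g, hg⟩ := S.trans.exists_smul_eq (S.pt (0, 0)) x
  have hg' : (g : Equiv.Perm α) (S.pt (0, 0)) = x := hg
  rw [kappa, ← hg']
  refine (Fintype.sum_equiv (g : Equiv.Perm α) _ _ (fun y => ?_)).symm
  rw [hM g g.2]

theorem col_sum {M : Matrix α α ℝ} (hM : Inv S M) (y : α) : ∑ x, M x y = kappa S M := by
  have h1 : ∀ y, ∑ x, M x y = kappa S Mᵀ := fun y => row_sum hM.transpose y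
  rw [h1 y]
  have h2 : ∑ x, ∑ y, M x y = ∑ y, ∑ x, M x y := Finset.sum_comm
  simp only [row_sum hM, h1, Finset.sum_const, Finset.card_univ, nsmul_eq_mul] at h2
  have hne : (Fintype.card α : ℝ) ≠ 0 :=
    Nat.cast_ne_zero.mpr (Fintype.card_pos_iff.mpr ⟨S.pt (0, 0)⟩).ne'
  exact (mul_left_cancel₀ hne h2).symm

theorem F_zero_shape {M : Matrix α α ℝ} (hM : Inv S M) :
    F S M 0 = !![(((kappa S M + theta S M) / 2 : ℝ) : ℂ), (((kappa S M - theta S M) / 2 : ℝ) : ℂ);
      (((kappa S M - theta S M) / 2 : ℝ) : ℂ), (((kappa S M + theta S M) / 2 : ℝ) : ℂ)] := by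
  have hrow : ∀ i : Fin 2, ∑ z, M (S.pt (i, 0)) (S.pt (0, z))
      + ∑ z, M (S.pt (i, 0)) (S.pt (1, z)) = kappa S M := by
    intro i; rw [← sum_pts, row_sum hM]
  have hcol : ∑ z, M (S.pt (0, 0)) (S.pt (0, z))
      + ∑ z, M (S.pt (1, 0)) (S.pt (0, z)) = kappa S M := by
    rw [← col_sum hM (S.pt (0, 0)), sum_pts (S := S) (fun x => M x (S.pt (0, 0)))]
    congr 1 <;>
    · refine Fintype.sum_equiv (Equiv.neg (ZMod p)) _ _ (fun z => ?_)
      simp only [Equiv.neg_apply]
      rw [hM.translate _ _ (-z) 0, zero_sub, neg_neg]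
  have hth : theta S M
      = ∑ z, M (S.pt (0, 0)) (S.pt (0, z)) - ∑ z, M (S.pt (0, 0)) (S.pt (1, z)) := rfl
  have h0 := hrow 0
  have h1 := hrow 1
  have a00 : ∑ z, M (S.pt (0, 0)) (S.pt (0, z)) = (kappa S M + theta S M) / 2 := by linarith
  have a01 : ∑ z, M (S.pt (0, 0)) (S.pt (1, z)) = (kappa S M - theta S M) / 2 := by linarith
  have a10 : ∑ z, M (S.pt (1, 0)) (S.pt (0, z)) = (kappa S M - theta S M) / 2 := by linarith
  have a11 : ∑ z, M (S.pt (1, 0)) (S.pt (1, z)) = (kappa S M + theta S M) / 2 := by linarith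
  rw [← a00, ← a01]
  nth_rewrite 2 [a01]
  rw [← a10]
  nth_rewrite 2 [a00]
  rw [← a11]
  ext i j
  simp only [F, Matrix.of_apply, hat_zero]
  fin_cases i <;> fin_cases j <;> simp

theorem kappa_one [DecidableEq α] : kappa S (1 : Matrix α α ℝ) = 1 := by
  simp [kappa, Matrix.one_apply]

theorem theta_one [DecidableEq α] : theta S (1 : Matrix α α ℝ) = 1 := by
  simp [theta, Matrix.one_apply]

theorem kappa_mul {M N : Matrix α α ℝ} (hN : Inv S N) :
    kappa S (M * N) = kappa S M * kappa S N := by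
  simp only [kappa, Matrix.mul_apply]
  rw [Finset.sum_comm, Finset.sum_mul]
  refine Finset.sum_congr rfl (fun w _ => ?_)
  rw [← Finset.mul_sum, row_sum hN w]
  rfl

theorem theta_mul {M N : Matrix α α ℝ} (hM : Inv S M) (hN : Inv S N) :
    theta S (M * N) = theta S M * theta S N := by
  have h := F_mul (M := M) hN 0
  rw [F_zero_shape (hM.mul hN), F_zero_shape hM, F_zero_shape hN] at h
  have h00 := congrFun (congrFun h 0) 0
  have h01 := congrFun (congrFun h 0) 1
  simp [Matrix.mul_apply, Fin.sum_univ_two] at h00 h01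
  norm_cast at h00 h01
  apply Complex.ofReal_injective
  push_cast at h00 h01 ⊢
  linear_combination h00 - h01

theorem kappa_transpose {M : Matrix α α ℝ} (hM : Inv S M) : kappa S Mᵀ = kappa S M :=
  col_sum hM (S.pt (0, 0))

theorem theta_transpose {M : Matrix α α ℝ} (hM : Inv S M) : theta S Mᵀ = theta S M := by
  have h := F_transpose hM 0
  rw [F_zero_shape hM.transpose, F_zero_shape hM] at h
  have h00 := congrFun (congrFun h 0) 0
  have h01 := congrFun (congrFun h 0) 1
  simp [Matrix.conjTranspose_apply] at h00 h01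
  apply Complex.ofReal_injective
  linear_combination (h00 - h01) / 2

theorem dhat_zero {M : Matrix α α ℝ} (hM : Inv S M) :
    dhat S M 0 = ((kappa S M + theta S M : ℝ) : ℂ) := by
  rw [← trace_F, F_zero_shape hM]
  simp [Matrix.trace, Fin.sum_univ_two]

theorem sum_dhat (M : Matrix α α ℝ) : ∑ k, dhat S M k = ((p * D S M 0 : ℝ) : ℂ) := by
  simp [dhat, sum_hat]

theorem Bil_eq {M N : Matrix α α ℝ} (hM : Inv S M) (hN : Inv S N) :
    Bil M N = p * D S (Mᵀ * N) 0 := by
  have e : Bil M N = ∑ y, (Mᵀ * N) y y := by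
    rw [Bil, Finset.sum_comm]; rfl
  rw [e, sum_pts (S := S) (fun y => (Mᵀ * N) y y), D]
  simp only [(hM.transpose.mul hN).translate, sub_self, Finset.sum_const, Finset.card_univ,
    ZMod.card, nsmul_eq_mul]
  ring

theorem Bil_mul_right (M N X : Matrix α α ℝ) : Bil N (M * X) = Bil (Mᵀ * N) X := by
  simp only [Bil, Matrix.mul_apply, Matrix.transpose_apply, Finset.mul_sum, Finset.sum_mul]
  calc ∑ x, ∑ y, ∑ w, N x y * (M x w * X w y)
      = ∑ x, ∑ w, ∑ y, N x y * (M x w * X w y) := by
        exact Finset.sum_congr rfl fun x _ => Finset.sum_comm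
    _ = ∑ w, ∑ x, ∑ y, N x y * (M x w * X w y) := Finset.sum_comm
    _ = ∑ w, ∑ y, ∑ x, N x y * (M x w * X w y) := by
        exact Finset.sum_congr rfl fun x _ => Finset.sum_comm
    _ = ∑ w, ∑ y, ∑ x, M x w * N x y * X w y := by
        simp only [mul_comm, mul_left_comm, mul_assoc]

theorem Bil_self_eq_zero {M : Matrix α α ℝ} (h : Bil M M = 0) : M = 0 := by
  ext x y
  have h1 := (Finset.sum_eq_zero_iff_of_nonneg
    (fun x _ => Finset.sum_nonneg (fun y _ => mul_self_nonneg (M x y)))).mp h x (mem_univ x)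
  have h2 := (Finset.sum_eq_zero_iff_of_nonneg
    (fun y _ => mul_self_nonneg (M x y))).mp h1 y (mem_univ y)
  simpa using h2

/-- A two by two idempotent has trace `0`, `1` or `2`, and is `0` or `1` in the extreme cases. -/
theorem idem_two_trace {P : Matrix (Fin 2) (Fin 2) ℂ} (h : P * P = P) :
    (P.trace = 0 ∧ P = 0) ∨ P.trace = 1 ∨ (P.trace = 2 ∧ P = 1) := by
  have e00 := congrFun (congrFun h 0) 0
  have e01 := congrFun (congrFun h 0) 1
  have e10 := congrFun (congrFun h 1) 0
  have e11 := congrFun (congrFun h 1) 1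
  simp [Matrix.mul_apply, Fin.sum_univ_two] at e00 e01 e10 e11
  by_cases ht : P.trace = 1
  · exact Or.inr (Or.inl ht)
  rw [Matrix.trace_fin_two] at ht
  have hne : P 0 0 + P 1 1 - 1 ≠ 0 := sub_ne_zero.mpr ht
  have h01 : P 0 1 = 0 := by
    have : P 0 1 * (P 0 0 + P 1 1 - 1) = 0 := by linear_combination e01
    simpa [hne] using this
  have h10 : P 1 0 = 0 := by
    have : P 1 0 * (P 0 0 + P 1 1 - 1) = 0 := by linear_combination e10
    simpa [hne] using this
  have h00 : P 0 0 = 0 ∨ P 0 0 = 1 := by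
    have : P 0 0 * (P 0 0 - 1) = 0 := by rw [h01] at e00; linear_combination e00
    simpa [sub_eq_zero] using this
  have h11 : P 1 1 = 0 ∨ P 1 1 = 1 := by
    have : P 1 1 * (P 1 1 - 1) = 0 := by rw [h01] at e11; linear_combination e11
    simpa [sub_eq_zero] using this
  rcases h00 with a | a <;> rcases h11 with b | b
  · refine Or.inl ⟨by rw [Matrix.trace_fin_two, a, b, add_zero], ?_⟩
    ext i j; fin_cases i <;> fin_cases j <;> simp [a, b, h01, h10]
  · simp [a, b] at ht
  · simp [a, b] at ht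
  · refine Or.inr (Or.inr ⟨by rw [Matrix.trace_fin_two, a, b]; norm_num, ?_⟩)
    ext i j; fin_cases i <;> fin_cases j <;> simp [a, b, h01, h10]

/-- Splitting a matrix along a rank one idempotent. -/
theorem rank_one_split {X P : Matrix (Fin 2) (Fin 2) ℂ} {t : ℂ} (hP : P * P = P)
    (htr : P.trace = 1) (h1 : X * P = t • P) (h2 : P * X = t • P) :
    X = t • P + (X.trace - t) • (1 - P) := by
  have hQX : (1 - P) * X * (1 - P) = X - t • P := by
    rw [sub_mul, one_mul, h2, mul_sub, mul_one, sub_mul, h1, smul_mul_assoc, hP]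
    abel
  have e00 := congrFun (congrFun hP 0) 0
  have e01 := congrFun (congrFun hP 0) 1
  have e10 := congrFun (congrFun hP 1) 0
  have e11 := congrFun (congrFun hP 1) 1
  have htrX := congrArg Matrix.trace h1
  have k00 := congrFun (congrFun hQX 0) 0
  have k01 := congrFun (congrFun hQX 0) 1
  have k10 := congrFun (congrFun hQX 1) 0
  have k11 := congrFun (congrFun hQX 1) 1
  simp [Matrix.mul_apply, Fin.sum_univ_two, Matrix.one_apply] at e00 e01 e10 e11 k00 k01 k10 k11
  simp [Matrix.trace_fin_two, Matrix.mul_apply, Fin.sum_univ_two] at htr htrX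
  ext i j
  fin_cases i <;> fin_cases j <;>
    simp [Matrix.trace_fin_two, Matrix.one_apply]
  · grind
  · grind
  · grind
  · grind

end Cfsg.Agent.PermB.TwoP
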