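import Mathlib.Analysis.SpecialFunctions.Complex.CircleAddChar
import Mathlib.RingTheory.Polynomial.Cyclotomic.Roots
import Mathlib.Algebra.BigOperators.Group.Finset.Basic
import Mathlib.Tactic.Ring
import Mathlib.Tactic.LinearCombination

/-!
A little Fourier analysis on `ZMod p`, and linear independence over the rationals of the
non-trivial `p`-th roots of unity, for Wielandt's theorem on groups of degree `2p`.
-/

set_option autoImplicit false

namespace Cfsg.Agent.PermB.TwoP

open Finset ComplexConjugate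

variable {p : ℕ} [Fact p.Prime]

/-- The standard additive character of `ZMod p`. -/
noncomputable abbrev psi (z : ZMod p) : ℂ := ZMod.stdAddChar z

/-- The Fourier transform on `ZMod p`. -/
noncomputable def hat (g : ZMod p → ℂ) (k : ZMod p) : ℂ := ∑ z, g z * psi (k * z)

theorem psi_zero : psi (0 : ZMod p) = 1 := AddChar.map_zero_eq_one _

theorem psi_add (a b : ZMod p) : psi (a + b) = psi a * psi b := AddChar.map_add_eq_mul _ a b

theorem conj_psi (z : ZMod p) : conj (psi z) = psi (-z) :=
  (AddChar.map_neg_eq_conj _ z).symm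

theorem psi_orth (z : ZMod p) :
    ∑ k : ZMod p, psi (k * z) = if z = 0 then (p : ℂ) else 0 := by
  have h := AddChar.sum_mulShift (ψ := ZMod.stdAddChar) z (ZMod.isPrimitive_stdAddChar p)
  rw [ZMod.card] at h
  simpa [apply_ite (fun n : ℕ => (n : ℂ))] using h

theorem hat_zero (g : ZMod p → ℂ) : hat g 0 = ∑ z, g z := by
  simp [hat, psi_zero]

theorem sum_hat (g : ZMod p → ℂ) : ∑ k, hat g k = p * g 0 := by
  unfold hat
  rw [Finset.sum_comm]
  simp only [← Finset.mul_sum, psi_orth, mul_ite, mul_zero]
  rw [Finset.sum_ite_eq' Finset.univ (0 : ZMod p)]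
  simp [mul_comm]

theorem hat_shift (g : ZMod p → ℂ) (w k : ZMod p) :
    hat (fun z => g (z + w)) k = hat g k * psi (-(k * w)) := by
  unfold hat
  rw [Finset.sum_mul]
  refine Fintype.sum_equiv (Equiv.addRight w) _ _ (fun z => ?_)
  rw [Equiv.coe_addRight, mul_assoc, ← psi_add, mul_add, add_neg_cancel_right]

/-- A function with vanishing transform away from zero is constant. -/
theorem const_of_hat_eq_zero (g : ZMod p → ℂ) (h : ∀ k, k ≠ 0 → hat g k = 0) (z : ZMod p) :
    g z = g 0 := by
  have hp : (p : ℂ) ≠ 0 := Nat.cast_ne_zero.mpr (Fact.out : p.Prime).ne_zero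
  have key : ∀ w, (p : ℂ) * g w = hat g 0 := by
    intro w
    have h1 := sum_hat (fun z => g (z + w))
    simp only [zero_add] at h1
    rw [← h1, Finset.sum_eq_single (0 : ZMod p)]
    · rw [hat_shift]; simp [psi_zero]
    · intro k _ hk
      rw [hat_shift, h k hk, zero_mul]
    · simp
  exact mul_left_cancel₀ hp ((key z).trans (key 0).symm)

theorem parseval (g h : ZMod p → ℂ) :
    ∑ k, conj (hat g k) * hat h k = p * ∑ z, conj (g z) * h z := by
  have : ∀ k, conj (hat g k) * hat h k
      = ∑ z, conj (g z) * hat (fun w => h (w + z)) k := by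
    intro k
    rw [hat, map_sum, Finset.sum_mul]
    refine Finset.sum_congr rfl (fun z _ => ?_)
    rw [hat_shift, map_mul, conj_psi]
    ring
  simp only [this]
  rw [Finset.sum_comm, Finset.mul_sum]
  refine Finset.sum_congr rfl (fun z _ => ?_)
  rw [← Finset.mul_sum, sum_hat]
  simp only [zero_add]
  ring

/-- Rational functions on `ZMod p` with one vanishing non-trivial Fourier coefficient are
constant. -/
theorem rat_const_of_hat_one (q : ZMod p → ℚ) (h : hat (fun z => (q z : ℂ)) 1 = 0) (z : ZMod p) :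
    q z = q 0 := by
  have hp : p.Prime := Fact.out
  set ζ : ℂ := psi (1 : ZMod p) with hζ
  have hpow : ∀ z : ZMod p, psi z = ζ ^ z.val := by
    intro z
    rw [hζ, psi, psi, ← AddChar.map_nsmul_eq_pow, nsmul_eq_mul, mul_one, ZMod.natCast_zmod_val]
  have hprim : IsPrimitiveRoot ζ p := by
    rw [IsPrimitiveRoot.iff_orderOf, orderOf_eq_prime_iff]
    refine ⟨?_, ?_⟩
    · rw [hζ, psi, ← AddChar.map_nsmul_eq_pow, nsmul_eq_mul, ZMod.natCast_self, zero_mul,
        AddChar.map_zero_eq_one]
    · intro e
      have := ZMod.injective_stdAddChar (N := p) (e.trans psi_zero.symm)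
      exact one_ne_zero this
  set Q : Polynomial ℚ := ∑ z : ZMod p, Polynomial.C (q z) * Polynomial.X ^ z.val with hQ
  have hcoeff : ∀ z : ZMod p, Q.coeff z.val = q z := by
    intro z
    rw [hQ, Polynomial.finset_sum_coeff, Finset.sum_eq_single z]
    · simp
    · intro w _ hw
      have : z.val ≠ w.val := fun e => hw (ZMod.val_injective p e.symm)
      simp [Polynomial.coeff_X_pow, this]
    · simp
  have heval : Polynomial.aeval ζ Q = 0 := by
    rw [hQ, map_sum, ← h, hat]
    refine Finset.sum_congr rfl (fun z _ => ?_)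
    simp [hpow z]
  have hdvd : Polynomial.cyclotomic p ℚ ∣ Q := by
    rw [Polynomial.cyclotomic_eq_minpoly_rat hprim hp.pos]
    exact minpoly.dvd ℚ ζ heval
  have hdeg : Q.natDegree ≤ p - 1 := by
    rw [hQ]
    refine Polynomial.natDegree_sum_le_of_forall_le _ _ (fun z _ => ?_)
    refine (Polynomial.natDegree_C_mul_X_pow_le _ _).trans ?_
    have := ZMod.val_lt z
    omega
  obtain ⟨R, hR⟩ := hdvd
  have hcyc : Polynomial.cyclotomic p ℚ = ∑ i ∈ Finset.range p, Polynomial.X ^ i :=
    Polynomial.cyclotomic_prime ℚ p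
  have hRC : ∃ c, R = Polynomial.C c := by
    refine ⟨R.coeff 0, Polynomial.eq_C_of_natDegree_eq_zero ?_⟩
    by_cases hR0 : R = 0
    · simp [hR0]
    have hne := Polynomial.cyclotomic_ne_zero p ℚ
    have hnd : (Polynomial.cyclotomic p ℚ).natDegree = p - 1 := by
      rw [Polynomial.natDegree_cyclotomic, Nat.totient_prime hp]
    rw [hR, Polynomial.natDegree_mul hne hR0, hnd] at hdeg
    omega
  obtain ⟨c, rfl⟩ := hRC
  have hall : ∀ z : ZMod p, q z = c := by
    intro z
    rw [← hcoeff z, hR, Polynomial.coeff_mul_C, hcyc, Polynomial.finset_sum_coeff]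
    simp [Polynomial.coeff_X_pow, ZMod.val_lt z]
  rw [hall, hall]

theorem hat_scale (g : ZMod p → ℂ) {k : ZMod p} (hk : k ≠ 0) :
    hat g k = hat (fun z => g (z / k)) 1 := by
  unfold hat
  refine Fintype.sum_equiv (Equiv.mulLeft₀ k hk) _ _ (fun z => ?_)
  simp [hk]

/-- If a rational function has equal transforms at `k` and `l`, it is invariant under scaling by
`k / l`, provided it vanishes at zero. -/
theorem rat_scale_inv (d : ZMod p → ℚ) (hd : d 0 = 0) {k l : ZMod p} (hk : k ≠ 0) (hl : l ≠ 0)
    (h : hat (fun z => (d z : ℂ)) k = hat (fun z => (d z : ℂ)) l) (z : ZMod p) :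
    d (z / k) = d (z / l) := by
  have h1 : hat (fun z => ((d (z / k) - d (z / l) : ℚ) : ℂ)) 1 = 0 := by
    have e : hat (fun z => ((d (z / k) - d (z / l) : ℚ) : ℂ)) 1
        = hat (fun z => (d (z / k) : ℂ)) 1 - hat (fun z => (d (z / l) : ℂ)) 1 := by
      unfold hat
      rw [← Finset.sum_sub_distrib]
      refine Finset.sum_congr rfl (fun z _ => ?_)
      push_cast
      ring
    rw [e, ← hat_scale (fun z => (d z : ℂ)) hk, ← hat_scale (fun z => (d z : ℂ)) hl, h, sub_self]
  have h2 := rat_const_of_hat_one (fun z => d (z / k) - d (z / l)) h1 z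
  simp only [zero_div, hd, sub_self] at h2
  linarith

end Cfsg.Agent.PermB.TwoP
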