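import Cfsg.Agent.PermB.TwoPSpectral
import Mathlib.Algebra.Algebra.Subalgebra.Basic
import Mathlib.GroupTheory.OrderOfElement

/-!
The rank one case: the centraliser algebra is commutative, its non-trivial eigenvalue functions
span the functions constant on the cosets of a multiplicative group, and this forces rank three.
-/

set_option autoImplicit false

namespace Cfsg.Agent.PermB.TwoP

open Finset ComplexConjugate Matrix

theorem mem_span_of_fibres {ι K : Type*} [Fintype ι] [Fintype K] [DecidableEq K]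
    (xi : ι → K → ℂ) (h1 : (1 : K → ℂ) ∈ Submodule.span ℂ (Set.range xi))
    (hm : ∀ i j, xi i * xi j ∈ Submodule.span ℂ (Set.range xi)) (f : K → ℂ)
    (hf : ∀ a b, (∀ i, xi i a = xi i b) → f a = f b) :
    f ∈ Submodule.span ℂ (Set.range xi) := by
  classical
  set V := Submodule.span ℂ (Set.range xi) with hV
  have hmul : ∀ x y, x ∈ V → y ∈ V → x * y ∈ V := by
    intro x y hx hy
    induction hx using Submodule.span_induction with
    | mem x hx =>
      obtain ⟨i, rfl⟩ := hx
      induction hy using Submodule.span_induction with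
      | mem y hy => obtain ⟨j, rfl⟩ := hy; exact hm i j
      | zero => simp
      | add a b _ _ ha hb => rw [mul_add]; exact V.add_mem ha hb
      | smul c a _ ha => rw [mul_smul_comm]; exact V.smul_mem c ha
    | zero => simp
    | add a b _ _ ha hb => rw [add_mul]; exact V.add_mem ha hb
    | smul c a _ ha => rw [smul_mul_assoc]; exact V.smul_mem c ha
  set T : Subalgebra ℂ (K → ℂ) := V.toSubalgebra h1 hmul with hT
  have hmemT : ∀ x, x ∈ V → x ∈ T := fun x hx => hx
  set cls : K → Finset K := fun a => univ.filter (fun b => ∀ i, xi i b = xi i a) with hcls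
  have hind : ∀ a, ∃ g ∈ T, ∀ b, g b = if b ∈ cls a then 1 else 0 := by
    intro a
    have hsep : ∀ c, c ∉ cls a → ∃ i, xi i c ≠ xi i a := by
      intro c hc
      simpa [hcls] using hc
    refine ⟨∏ c ∈ (univ \ cls a).attach,
      ((xi (hsep c.1 (Finset.mem_sdiff.mp c.2).2).choose a -
          xi (hsep c.1 (Finset.mem_sdiff.mp c.2).2).choose c.1)⁻¹ •
        (xi (hsep c.1 (Finset.mem_sdiff.mp c.2).2).choose -
          xi (hsep c.1 (Finset.mem_sdiff.mp c.2).2).choose c.1 • (1 : K → ℂ))), ?_, ?_⟩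
    · refine T.prod_mem (fun c _ => hmemT _ ?_)
      exact V.smul_mem _ (V.sub_mem (Submodule.subset_span ⟨_, rfl⟩) (V.smul_mem _ h1))
    · intro b
      rw [Finset.prod_apply]
      by_cases hb : b ∈ cls a
      · rw [if_pos hb]
        refine Finset.prod_eq_one (fun c _ => ?_)
        set i := (hsep c.1 (Finset.mem_sdiff.mp c.2).2).choose
        have hi : xi i c.1 ≠ xi i a := (hsep c.1 (Finset.mem_sdiff.mp c.2).2).choose_spec
        have hba : xi i b = xi i a := (Finset.mem_filter.mp hb).2 i
        simp only [Pi.smul_apply, Pi.sub_apply, Pi.one_apply, smul_eq_mul, mul_one, hba]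
        exact inv_mul_cancel₀ (sub_ne_zero.mpr (Ne.symm hi))
      · rw [if_neg hb]
        refine Finset.prod_eq_zero (Finset.mem_attach _ ⟨b, by simp [hb]⟩) ?_
        simp
  choose g hg hgv using hind
  have he : f = ∑ a, (f a / ((cls a).card : ℂ)) • g a := by
    funext b
    rw [Finset.sum_apply]
    simp only [Pi.smul_apply, smul_eq_mul, hgv, mul_ite, mul_one, mul_zero]
    rw [← Finset.sum_filter]
    have e1 : univ.filter (fun a => b ∈ cls a) = cls b := by
      ext a
      simp only [hcls, Finset.mem_filter, Finset.mem_univ, true_and]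
      exact ⟨fun h i => (h i).symm, fun h i => (h i).symm⟩
    rw [e1]
    have e2 : ∀ a ∈ cls b, f a / ((cls a).card : ℂ) = f b / ((cls b).card : ℂ) := by
      intro a ha
      have ha' := (Finset.mem_filter.mp ha).2
      have : cls a = cls b := by
        ext c
        simp only [hcls, Finset.mem_filter, Finset.mem_univ, true_and]
        exact forall_congr' (fun i => by rw [ha' i])
      rw [this, hf a b ha']
    rw [Finset.sum_congr rfl e2, Finset.sum_const, nsmul_eq_mul]
    have : ((cls b).card : ℂ) ≠ 0 :=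
      Nat.cast_ne_zero.mpr (Finset.card_pos.mpr ⟨b, by simp [hcls]⟩).ne'
    field_simp
  rw [he]
  exact V.sum_mem (fun a _ => V.smul_mem _ (hg a))

variable {α : Type*} [Fintype α] [DecidableEq α] {p : ℕ} [Fact p.Prime] (S : Setup α p)

/-- The non-diagonal orbitals. -/
noncomputable def R : Finset (Orb S) := univ.erase (diag S)

/-- The eigenvalue functions. -/
noncomputable def xi (M : Matrix α α ℝ) (k : ZMod p) : ℂ := dhat S M k - theta S M

/-- The hypothesis of the rank one case. -/
def RankOne : Prop := (mu S)⁻¹ = p ∧ ∀ k : ZMod p, k ≠ 0 → (F S (Pm S) k).trace = 1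

/-- The multiplicative stabiliser of all block rows. -/
noncomputable def Esub : Finset (ZMod p) :=
  univ.filter fun e => e ≠ 0 ∧ ∀ r z, dN S r (e * z) = dN S r z

variable {S}

theorem split_F (h : RankOne S) {M : Matrix α α ℝ} (hM : Inv S M) {k : ZMod p} (hk : k ≠ 0) :
    F S M k = (theta S M : ℂ) • F S (Pm S) k + xi S M k • (1 - F S (Pm S) k) := by
  rw [xi, ← trace_F]
  exact rank_one_split (F_Pm_idem k) (h.2 k hk) (F_mul_Pm hM k) (F_Pm_mul hM k)

theorem xi_mul (h : RankOne S) {M N : Matrix α α ℝ} (hM : Inv S M) (hN : Inv S N) {k : ZMod p}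
    (hk : k ≠ 0) : xi S (M * N) k = xi S M k * xi S N k := by
  have hP := F_Pm_idem (S := S) k
  have hQ : (1 - F S (Pm S) k) * (1 - F S (Pm S) k) = 1 - F S (Pm S) k := by
    rw [sub_mul, one_mul, mul_sub, mul_one, hP]; abel
  have hPQ : F S (Pm S) k * (1 - F S (Pm S) k) = 0 := by rw [mul_sub, mul_one, hP, sub_self]
  have hQP : (1 - F S (Pm S) k) * F S (Pm S) k = 0 := by rw [sub_mul, one_mul, hP, sub_self]
  have e : F S (M * N) k = ((theta S M : ℂ) * theta S N) • F S (Pm S) k
      + (xi S M k * xi S N k) • (1 - F S (Pm S) k) := by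
    rw [F_mul hN, split_F h hM hk, split_F h hN hk]
    simp only [add_mul, mul_add, smul_mul_smul_comm, hP, hQ, hPQ, hQP, smul_zero, add_zero,
      zero_add]
  rw [xi, ← trace_F, e, theta_mul hM hN]
  simp [Matrix.trace_add, Matrix.trace_smul, Matrix.trace_sub, h.2 k hk]
  norm_num

theorem xi_transpose {M : Matrix α α ℝ} (hM : Inv S M) (k : ZMod p) :
    xi S Mᵀ k = conj (xi S M k) := by
  rw [xi, xi, ← trace_F, ← trace_F, F_transpose hM, theta_transpose hM,
    Matrix.trace_conjTranspose]
  simp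

theorem dN_zero {r : Orb S} (hr : r ∈ R S) : dN S r 0 = 0 := by
  have hr' : r ≠ diag S := Finset.ne_of_mem_erase hr
  simp [dN, x0, x1, qo_eq_diag_iff.mpr rfl, Ne.symm hr']

theorem dN_diag (z : ZMod p) : dN S (diag S) z = if z = 0 then 2 else 0 := by
  have h0 : ∀ i : Fin 2, qo S (S.pt (i, 0)) (S.pt (i, z)) = diag S ↔ z = 0 := fun i => by
    rw [qo_eq_diag_iff]
    simp [eq_comm]
  simp only [dN, x0, x1, h0]
  by_cases hz : z = 0 <;> simp [hz]

theorem sum_dN (z : ZMod p) : ∑ r, dN S r z = 2 := by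
  simp [dN, Finset.sum_add_distrib]

theorem sum_R_dN {z : ZMod p} (hz : z ≠ 0) : ∑ r ∈ R S, dN S r z = 2 := by
  have h := sum_dN (S := S) z
  rw [← Finset.add_sum_erase univ _ (mem_univ (diag S)), dN_diag, if_neg hz, zero_add] at h
  exact h

theorem sum_dN_row (r : Orb S) : (∑ z, (dN S r z : ℤ)) = kk S r + th S r := by
  have h := dhat_zero (Inv_A (S := S) r)
  rw [dhat, hat_zero, kappa_A, theta_A] at h
  simp only [D_A] at h
  rw [← Complex.ofReal_sum] at h
  have h' : (∑ z, (dN S r z : ℝ)) = (kk S r : ℝ) + (th S r : ℝ) := by exact_mod_cast h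
  exact_mod_cast h'

/-- The Gram identity for the block rows. -/
theorem gram (h : RankOne S) {r s : Orb S} (hr : r ∈ R S) (hs : s ∈ R S) :
    ∑ z, (dN S r z : ℝ) * dN S s z
      = 2 * ((if r = s then (kk S r : ℝ) else 0) - th S r * th S s) := by
  set M := A S r with hMdef
  set N := A S s with hNdef
  have hM : Inv S M := Inv_A r
  have hN : Inv S N := Inv_A s
  have hB : ((Bil M N : ℝ) : ℂ) = ∑ k, dhat S (Mᵀ * N) k := by
    rw [sum_dhat, Bil_eq hM hN]
  have key : ∀ k ∈ (univ : Finset (ZMod p)).erase 0, conj (dhat S M k) * dhat S N k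
      = dhat S (Mᵀ * N) k + (theta S M : ℂ) * dhat S N k
        + (theta S N : ℂ) * conj (dhat S M k) - 2 * (theta S M : ℂ) * theta S N := by
    intro k hk
    have hk' : k ≠ 0 := Finset.ne_of_mem_erase hk
    have e := xi_mul h hM.transpose hN hk'
    rw [xi_transpose hM, xi, xi, xi, theta_mul hM.transpose hN, theta_transpose hM] at e
    simp only [map_sub, Complex.conj_ofReal] at e
    push_cast at e
    linear_combination (-1 : ℂ) * e
  have hpars := parseval (fun z => (D S M z : ℂ)) (fun z => (D S N z : ℂ))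
  rw [← Finset.add_sum_erase univ _ (mem_univ (0 : ZMod p))] at hpars hB
  change conj (dhat S M 0) * dhat S N 0
    + ∑ k ∈ univ.erase 0, conj (dhat S M k) * dhat S N k = _ at hpars
  rw [Finset.sum_congr rfl key] at hpars
  simp only [Finset.sum_add_distrib, Finset.sum_sub_distrib, ← Finset.mul_sum, Finset.sum_const,
    Finset.card_erase_of_mem (mem_univ (0 : ZMod p)), Finset.card_univ, ZMod.card, nsmul_eq_mul,
    ← map_sum] at hpars
  have hN1 := sum_dhat (S := S) N
  have hM1 := sum_dhat (S := S) M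
  rw [← Finset.add_sum_erase univ _ (mem_univ (0 : ZMod p))] at hN1 hM1
  have hN2 : ∑ k ∈ univ.erase 0, dhat S N k = ((p * D S N 0 : ℝ) : ℂ) - dhat S N 0 :=
    eq_sub_of_add_eq' hN1
  have hM2 : ∑ k ∈ univ.erase 0, dhat S M k = ((p * D S M 0 : ℝ) : ℂ) - dhat S M 0 :=
    eq_sub_of_add_eq' hM1
  have hB2 : ∑ k ∈ univ.erase 0, dhat S (Mᵀ * N) k
      = ((Bil M N : ℝ) : ℂ) - dhat S (Mᵀ * N) 0 := eq_sub_of_add_eq' hB.symm
  rw [hN2, hM2, hB2, dhat_zero hM, dhat_zero hN, dhat_zero (hM.transpose.mul hN),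
    theta_mul hM.transpose hN, theta_transpose hM, kappa_mul hN, kappa_transpose hM] at hpars
  simp only [map_sub, Complex.conj_ofReal, Nat.cast_sub (Fact.out : p.Prime).one_le,
    Nat.cast_one] at hpars
  rw [hMdef, hNdef] at hpars
  simp only [D_A, dN_zero hr, dN_zero hs, theta_A, kappa_A, Bil_A_A, Nat.cast_zero] at hpars
  have hreal : (p : ℝ) * ∑ z, (dN S r z : ℝ) * dN S s z =
      (if r = s then 2 * (p : ℝ) * kk S r else 0) - 2 * p * th S r * th S s := by
    apply Complex.ofReal_injective
    push_cast at hpars ⊢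
    try simp only [Complex.conj_natCast] at hpars
    linear_combination (-1 : ℂ) * hpars
  have hp0 : (p : ℝ) ≠ 0 := Nat.cast_ne_zero.mpr (Fact.out : p.Prime).ne_zero
  apply mul_left_cancel₀ hp0
  rw [hreal]
  split_ifs <;> ring

theorem sum_th : ∑ r, th S r = 0 := by
  simp only [th, Finset.sum_sub_distrib]
  rw [← Nat.cast_sum, ← Nat.cast_sum,
    ← Finset.card_eq_sum_card_fiberwise (fun z _ => Finset.mem_univ _),
    ← Finset.card_eq_sum_card_fiberwise (fun z _ => Finset.mem_univ _), sub_self]

theorem sum_R_kk : ∑ r ∈ R S, kk S r = 2 * p - 1 := by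
  have h : ∑ r, kk S r = 2 * p := by
    simp only [kk]
    rw [← Finset.card_eq_sum_card_fiberwise (fun z _ => Finset.mem_univ _), Finset.card_univ,
      card_alpha S]
  rw [← Finset.add_sum_erase univ _ (mem_univ (diag S)), kk_diag] at h
  simp only [R]
  omega

theorem sum_R_sq (h : RankOne S) : ∑ r ∈ R S, (th S r : ℝ) ^ 2 / kk S r = 1 := by
  have hp0 : (p : ℝ) ≠ 0 := Nat.cast_ne_zero.mpr (Fact.out : p.Prime).ne_zero
  have hmu : mu S = 1 / p := by rw [← inv_inv (mu S), h.1, one_div]
  have hE : E0 S = ∑ r, ((th S r : ℝ) / (2 * p * kk S r)) • A S r := by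
    ext x y
    rw [Matrix.sum_apply, Finset.sum_eq_single (qo S x y)]
    · simp [E0, eQ, A]
    · intro r _ hr; simp [A, Ne.symm hr]
    · simp
  rw [mu, hE, theta_sum] at hmu
  simp only [theta_A] at hmu
  rw [← Finset.add_sum_erase univ _ (mem_univ (diag S)), th_diag, kk_diag] at hmu
  have e : ∑ r ∈ univ.erase (diag S), (th S r : ℝ) / (2 * p * kk S r) * th S r
      = (1 / (2 * p)) * ∑ r ∈ univ.erase (diag S), (th S r : ℝ) ^ 2 / kk S r := by
    rw [Finset.mul_sum]
    refine Finset.sum_congr rfl (fun r _ => ?_)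
    ring
  rw [e] at hmu
  simp only [R]
  push_cast at hmu
  field_simp at hmu
  linarith

/-- The kernel vector of the Gram matrix is zero. -/
theorem kernel_zero (h : RankOne S) (z : ZMod p) :
    ∑ r ∈ R S, (th S r : ℝ) / kk S r * dN S r z = 0 := by
  have hsum : ∑ z, (∑ r ∈ R S, (th S r : ℝ) / kk S r * dN S r z) ^ 2 = 0 := by
    simp only [sq, Finset.sum_mul_sum]
    rw [Finset.sum_comm]
    have e : ∀ r ∈ R S, ∑ z, ∑ s ∈ R S, (th S r : ℝ) / kk S r * dN S r z *
        ((th S s : ℝ) / kk S s * dN S s z)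
        = 2 * ((th S r : ℝ) ^ 2 / kk S r) - 2 * ((th S r : ℝ) ^ 2 / kk S r) *
            ∑ s ∈ R S, (th S s : ℝ) ^ 2 / kk S s := by
      intro r hr
      rw [Finset.sum_comm]
      have : ∀ s ∈ R S, ∑ z, (th S r : ℝ) / kk S r * dN S r z *
          ((th S s : ℝ) / kk S s * dN S s z)
          = (if r = s then 2 * ((th S r : ℝ) ^ 2 / kk S r) else 0)
            - 2 * ((th S r : ℝ) ^ 2 / kk S r) * ((th S s : ℝ) ^ 2 / kk S s) := by
        intro s hs
        have hk : (kk S r : ℝ) ≠ 0 := Nat.cast_ne_zero.mpr (kk_pos r).ne'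
        rw [show ∑ z, (th S r : ℝ) / kk S r * dN S r z * ((th S s : ℝ) / kk S s * dN S s z)
          = (th S r : ℝ) / kk S r * ((th S s : ℝ) / kk S s) * ∑ z, (dN S r z : ℝ) * dN S s z from by
          rw [Finset.mul_sum]; exact Finset.sum_congr rfl (fun z _ => by ring), gram h hr hs]
        split_ifs with hrs
        · subst hrs; field_simp
        · ring
      rw [Finset.sum_congr rfl this, Finset.sum_sub_distrib, Finset.sum_ite_eq, if_pos hr,
        ← Finset.mul_sum]
    rw [Finset.sum_congr rfl e, sum_R_sq h]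
    simp
  exact pow_eq_zero_iff (two_ne_zero) |>.mp
    ((Finset.sum_eq_zero_iff_of_nonneg (fun z _ => sq_nonneg _)).mp hsum z (mem_univ z))

theorem Esub_one : (1 : ZMod p) ∈ Esub S := by simp [Esub]

theorem Esub_mul {a b : ZMod p} (ha : a ∈ Esub S) (hb : b ∈ Esub S) : a * b ∈ Esub S := by
  simp only [Esub, Finset.mem_filter, Finset.mem_univ, true_and] at *
  exact ⟨mul_ne_zero ha.1 hb.1, fun r z => by rw [mul_assoc, ha.2, hb.2]⟩

theorem Esub_inv {a : ZMod p} (ha : a ∈ Esub S) : a⁻¹ ∈ Esub S := by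
  simp only [Esub, Finset.mem_filter, Finset.mem_univ, true_and] at *
  refine ⟨inv_ne_zero ha.1, fun r z => ?_⟩
  rw [← ha.2 r (a⁻¹ * z), ← mul_assoc, mul_inv_cancel₀ ha.1, one_mul]

theorem Esub_ne {a : ZMod p} (ha : a ∈ Esub S) : a ≠ 0 := (Finset.mem_filter.mp ha).2.1

/-- The coset of `z`. -/
noncomputable def coset (z : ZMod p) : Finset (ZMod p) := (Esub S).image (· * z)

theorem mem_coset_mul {e z w : ZMod p} (he : e ∈ Esub S) :
    e * w ∈ coset (S := S) z ↔ w ∈ coset (S := S) z := by
  simp only [coset, Finset.mem_image]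
  constructor
  · rintro ⟨a, ha, h⟩
    refine ⟨e⁻¹ * a, Esub_mul (Esub_inv he) ha, ?_⟩
    rw [mul_assoc, h, ← mul_assoc, inv_mul_cancel₀ (Esub_ne he), one_mul]
  · rintro ⟨a, ha, rfl⟩
    exact ⟨e * a, Esub_mul he ha, mul_assoc _ _ _⟩

theorem card_coset {z : ZMod p} (hz : z ≠ 0) : (coset (S := S) z).card = (Esub S).card :=
  Finset.card_image_of_injective _ (mul_left_injective₀ hz)

theorem dN_coset (r : Orb S) {z w : ZMod p} (hw : w ∈ coset (S := S) z) :
    dN S r w = dN S r z := by
  simp only [coset, Finset.mem_image] at hw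
  obtain ⟨e, he, rfl⟩ := hw
  exact (Finset.mem_filter.mp he).2.2 r z

/-- The projection identity: on a coset the block rows average to the indicator. -/
theorem projection (h : RankOne S) {z0 : ZMod p} (hz0 : z0 ≠ 0) (z : ZMod p) :
    ∑ r ∈ R S, (dN S r z : ℝ) / kk S r * ∑ w ∈ coset (S := S) z0, (dN S r w : ℝ)
      = if z ∈ coset (S := S) z0 then 2 else 0 := by
  classical
  set C := coset (S := S) z0 with hC
  set g : ZMod p → ℂ := fun w => if w ∈ C then 1 else 0 with hg
  set K := {k : ZMod p // k ≠ 0}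
  set fam : Orb S → K → ℂ := fun r k => xi S (A S r) k.1 with hfam
  have hA1 : ∀ k : K, fam (diag S) k = 1 := by
    intro k
    simp only [hfam, xi, A_diag, theta_one, dhat]
    have : ∀ z, D S (1 : Matrix α α ℝ) z = dN S (diag S) z := fun z => by rw [← A_diag (S := S), D_A]
    simp only [this, dN_diag, hat]
    rw [Finset.sum_eq_single (0 : ZMod p) (fun w _ hw => by simp [hw]) (by simp)]
    simp [psi_zero]
    norm_num
  have h1 : (1 : K → ℂ) ∈ Submodule.span ℂ (Set.range fam) :=
    Submodule.subset_span ⟨diag S, funext hA1⟩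
  have hm : ∀ r s, fam r * fam s ∈ Submodule.span ℂ (Set.range fam) := by
    intro r s
    obtain ⟨c, hc⟩ := decomp ((Inv_A (S := S) r).mul (Inv_A s))
    have : fam r * fam s = ∑ t, (c t : ℂ) • fam t := by
      funext k
      simp only [Pi.mul_apply, hfam, ← xi_mul h (Inv_A r) (Inv_A s) k.2, Finset.sum_apply,
        Pi.smul_apply, smul_eq_mul]
      rw [hc, xi, theta_sum]
      simp only [xi, mul_sub, Finset.sum_sub_distrib, dhat, hat, D, Matrix.sum_apply,
        Matrix.smul_apply, smul_eq_mul, Finset.mul_sum]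
      push_cast
      congr 1
      rw [Finset.sum_comm]
      refine Finset.sum_congr rfl (fun z _ => ?_)
      rw [← Finset.sum_add_distrib, Finset.sum_mul]
      refine Finset.sum_congr rfl (fun t _ => ?_)
      ring
    rw [this]
    exact Submodule.sum_mem _ (fun t _ => Submodule.smul_mem _ _ (Submodule.subset_span ⟨t, rfl⟩))
  have hfib : ∀ a b : K, (∀ r, fam r a = fam r b) → hat g a.1 = hat g b.1 := by
    intro a b hab
    have he : a.1 / b.1 ∈ Esub S := by
      simp only [Esub, Finset.mem_filter, Finset.mem_univ, true_and]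
      refine ⟨div_ne_zero a.2 b.2, fun r z => ?_⟩
      rcases eq_or_ne r (diag S) with rfl | hr
      · simp [dN_diag, div_ne_zero a.2 b.2, a.2, b.2]
      · have hr' : r ∈ R S := Finset.mem_erase.mpr ⟨hr, mem_univ r⟩
        have e := hab r
        simp only [hfam, xi, dhat, D_A, sub_left_inj] at e
        have := rat_scale_inv (fun z => (dN S r z : ℚ)) (by simp [dN_zero hr']) a.2 b.2
          (by simpa using e) (z * a.1)
        rw [mul_div_assoc, div_self a.2, mul_one] at this
        have h2 : dN S r z = dN S r (z * a.1 / b.1) := by exact_mod_cast this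
        rw [h2, mul_div_assoc, mul_comm]
    unfold hat
    refine Fintype.sum_equiv (Equiv.mulLeft₀ _ (Esub_ne he)) _ _ (fun w => ?_)
    simp only [Equiv.mulLeft₀_apply, hg, hC, mem_coset_mul he]
    congr 2
    have := b.2
    field_simp
  have hspan := mem_span_of_fibres fam h1 hm (fun k => hat g k.1) hfib
  obtain ⟨c, hc⟩ := Submodule.mem_span_range_iff_exists_fun ℂ |>.mp hspan
  set b : Orb S → ℂ := fun r => c r - (2 * c (diag S) - ∑ t, c t * (th S t : ℂ)) / 2 with hb
  have hind : ∀ w, g w = ∑ r ∈ R S, b r * (dN S r w : ℂ) := by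
    set e : ZMod p → ℂ := fun w => g w - ∑ r ∈ R S, b r * (dN S r w : ℂ) with he
    have hhat : ∀ k, k ≠ 0 → hat e k = 0 := by
      intro k hk
      have hck := congrFun hc ⟨k, hk⟩
      simp only [Finset.sum_apply, Pi.smul_apply, smul_eq_mul, hfam, xi, dhat, D_A, theta_A] at hck
      have e1 : hat e k = hat g k - ∑ r ∈ R S, b r * hat (fun w => (dN S r w : ℂ)) k := by
        simp only [he, hat, sub_mul, Finset.sum_sub_distrib, Finset.sum_mul, Finset.mul_sum,
          mul_assoc]
        rw [Finset.sum_comm (s := R S)]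
      have e2 : ∑ r ∈ R S, hat (fun w => (dN S r w : ℂ)) k = -2 := by
        simp only [hat]
        rw [Finset.sum_comm]
        have : ∀ w, ∑ r ∈ R S, (dN S r w : ℂ) * psi (k * w)
            = 2 * psi (k * w) - if w = 0 then 2 else 0 := by
          intro w
          rw [← Finset.sum_mul]
          by_cases hw : w = 0
          · subst hw
            rw [Finset.sum_eq_zero (fun r hr => by rw [dN_zero hr, Nat.cast_zero]), zero_mul,
              if_pos rfl, mul_zero, psi_zero, mul_one, sub_self]
          · rw [← Nat.cast_sum, sum_R_dN hw, if_neg hw, sub_zero]; norm_num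
        simp only [this, Finset.sum_sub_distrib, ← Finset.mul_sum, Finset.sum_ite_eq',
          Finset.mem_univ, if_true]
        have h2 := psi_orth k
        rw [if_neg hk] at h2
        simp only [mul_comm k] at h2 ⊢
        rw [h2, mul_zero, zero_sub]
      have e3 : hat (fun w => (dN S (diag S) w : ℂ)) k = 2 := by
        simp [hat, dN_diag, psi_zero]
      simp only [mul_sub, Finset.sum_sub_distrib, Complex.ofReal_natCast,
        Complex.ofReal_intCast] at hck
      rw [← Finset.add_sum_erase univ _ (mem_univ (diag S)), e3] at hck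
      rw [e1, ← hck]
      simp only [hb, sub_mul, Finset.sum_sub_distrib, ← Finset.mul_sum]
      rw [e2]
      simp only [R]
      ring
    intro w
    have := const_of_hat_eq_zero e hhat w
    have h0 : e 0 = 0 := by
      have : (0 : ZMod p) ∉ C := by
        simp only [hC, coset, Finset.mem_image, not_exists, not_and]
        exact fun a ha => mul_ne_zero (Esub_ne ha) hz0
      simp only [he, hg, this, if_false, zero_sub, neg_eq_zero]
      exact Finset.sum_eq_zero (fun r hr => by rw [dN_zero hr, Nat.cast_zero, mul_zero])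
    rw [h0] at this
    exact sub_eq_zero.mp this
  have hre : ∀ w, (if w ∈ C then (1 : ℝ) else 0) = ∑ r ∈ R S, (b r).re * (dN S r w : ℝ) := by
    intro w
    have h2 := congrArg Complex.re (hind w)
    simp only [hg, apply_ite Complex.re, Complex.one_re, Complex.zero_re, Complex.re_sum] at h2
    rw [h2]
    exact Finset.sum_congr rfl (fun r _ => by simp)
  set L : ℝ := ∑ s ∈ R S, (b s).re * th S s
  have hdot : ∀ r ∈ R S, ∑ w ∈ C, (dN S r w : ℝ) = 2 * (b r).re * kk S r - 2 * L * th S r := by
    intro r hr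
    have : ∑ w ∈ C, (dN S r w : ℝ)
        = ∑ w, (dN S r w : ℝ) * if w ∈ C then (1 : ℝ) else 0 := by simp
    rw [this]
    simp only [hre, Finset.mul_sum]
    rw [Finset.sum_comm]
    have e : ∀ s ∈ R S, ∑ w, (dN S r w : ℝ) * ((b s).re * (dN S s w : ℝ))
        = (if r = s then 2 * (b r).re * kk S r else 0) - 2 * ((b s).re * th S s) * th S r := by
      intro s hs
      rw [show ∑ w, (dN S r w : ℝ) * ((b s).re * (dN S s w : ℝ))
        = (b s).re * ∑ w, (dN S r w : ℝ) * dN S s w from by
          rw [Finset.mul_sum]; exact Finset.sum_congr rfl (fun w _ => by ring), gram h hr hs]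
      split_ifs with hrs
      · subst hrs; ring
      · ring
    rw [Finset.sum_congr rfl e, Finset.sum_sub_distrib, Finset.sum_ite_eq, if_pos hr,
      ← Finset.sum_mul, ← Finset.mul_sum]
  have e : ∀ r ∈ R S, (dN S r z : ℝ) / kk S r * ∑ w ∈ C, (dN S r w : ℝ)
      = 2 * ((b r).re * dN S r z) - 2 * L * ((th S r : ℝ) / kk S r * dN S r z) := by
    intro r hr
    have hk : (kk S r : ℝ) ≠ 0 := Nat.cast_ne_zero.mpr (kk_pos r).ne'
    rw [hdot r hr]
    field_simp
  rw [Finset.sum_congr rfl e, Finset.sum_sub_distrib, ← Finset.mul_sum, ← Finset.mul_sum,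
    kernel_zero h, mul_zero, sub_zero, ← hre]
  split_ifs <;> norm_num

theorem kk_ne_one (hprim : MulAction.IsPreprimitive S.G α) {r : Orb S} (hr : r ∈ R S) :
    kk S r ≠ 1 := by
  classical
  intro hk
  obtain ⟨y, hy⟩ := exists_rep r
  have hne : y ≠ x0 S := by
    intro e
    rw [e] at hy
    exact Finset.ne_of_mem_erase hr hy.symm
  obtain ⟨a, ha⟩ := Finset.card_eq_one.mp hk
  have huniq : ∀ w, qo S (x0 S) w = r → w = y := by
    intro w hw
    have hw' : w ∈ univ.filter (fun v => qo S (x0 S) v = r) :=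
      Finset.mem_filter.mpr ⟨mem_univ w, hw⟩
    have hy' : y ∈ univ.filter (fun v => qo S (x0 S) v = r) :=
      Finset.mem_filter.mpr ⟨mem_univ y, hy⟩
    rw [ha, Finset.mem_singleton] at hw' hy'
    rw [hw', hy']
  haveI := S.trans
  haveI := hprim
  haveI : Nontrivial α := ⟨y, x0 S, hne⟩
  set K := MulAction.stabilizer S.G (x0 S) with hK
  have hle : K ≤ MulAction.stabilizer S.G y := by
    intro g hg
    rw [MulAction.mem_stabilizer_iff]
    apply huniq
    rw [← hy]
    have e : (g : Equiv.Perm α) (x0 S) = x0 S := hg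
    show qo S (x0 S) ((g : Equiv.Perm α) y) = qo S (x0 S) y
    conv_lhs => rw [← e]
    exact qo_smul g.2 _ _
  obtain ⟨g, hg⟩ := MulAction.exists_smul_eq S.G (x0 S) y
  have hidx : K.index = (MulAction.stabilizer S.G y).index := by
    rw [hK, MulAction.index_stabilizer_of_transitive, MulAction.index_stabilizer_of_transitive]
  have heq : MulAction.stabilizer S.G y = K := by
    refine le_antisymm ?_ hle
    have hmul := Subgroup.relIndex_mul_index hle
    rw [← hidx] at hmul
    have hne0 : K.index ≠ 0 := Subgroup.index_ne_zero_of_finite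
    exact Subgroup.relIndex_eq_one.mp (by nlinarith [Nat.pos_of_ne_zero hne0])
  have hmax : IsCoatom K := MulAction.IsPreprimitive.isCoatom_stabilizer_of_isPreprimitive (G := S.G) (x0 S)
  have hgN : g ∈ Subgroup.normalizer (K : Set S.G) := by
    rw [Subgroup.mem_normalizer_iff]
    intro n
    nth_rewrite 2 [← heq]
    rw [hK, MulAction.mem_stabilizer_iff, MulAction.mem_stabilizer_iff, mul_smul, mul_smul,
      show g⁻¹ • y = x0 S by rw [← hg, inv_smul_smul], ← hg, smul_left_cancel_iff]
  have hgK : g ∉ K := by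
    intro hm
    exact hne (hg.symm.trans hm)
  have htop : Subgroup.normalizer (K : Set S.G) = ⊤ := by
    refine hmax.2 _ (lt_of_le_of_ne Subgroup.le_normalizer ?_)
    intro e
    exact hgK (e ▸ hgN)
  have hnorm : K.Normal := Subgroup.normalizer_eq_top_iff.mp htop
  have hbot : K = ⊥ := by
    rw [Subgroup.eq_bot_iff_forall]
    intro n hn
    apply Subtype.ext
    apply Equiv.ext
    intro x
    obtain ⟨a, ha⟩ := MulAction.exists_smul_eq S.G (x0 S) x
    have h2 : a⁻¹ * n * a⁻¹⁻¹ ∈ K := hnorm.conj_mem n hn a⁻¹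
    rw [inv_inv, hK, MulAction.mem_stabilizer_iff, mul_smul, mul_smul, ha] at h2
    have h3 : n • x = x := by
      have h4 := congrArg (a • ·) h2
      simp only [smul_inv_smul, ha] at h4
      exact h4
    exact h3
  have hcard : K.index = Fintype.card α := by
    rw [hK, MulAction.index_stabilizer_of_transitive, Nat.card_eq_fintype_card]
  rw [hbot, Subgroup.index_bot, card_alpha S] at hcard
  obtain ⟨σ, hσ, hs⟩ := S.shift
  have hp : p.Prime := Fact.out
  have hpow : ∀ n : ℕ, ∀ i x, (σ ^ n) (S.pt (i, x)) = S.pt (i, x + n) := by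
    intro n
    induction n with
    | zero => simp
    | succ n ih =>
      intro i x
      rw [pow_succ', Equiv.Perm.mul_apply, ih, hs]
      push_cast
      rw [add_assoc]
  have hord : orderOf (⟨σ, hσ⟩ : S.G) = p := by
    refine orderOf_eq_prime (Subtype.ext (Equiv.ext fun x => ?_)) ?_
    · obtain ⟨⟨i, w⟩, rfl⟩ := S.pt.surjective x
      simp [hpow]
    · intro e
      have h2 := congrArg (fun f : S.G => (f : Equiv.Perm α) (S.pt (0, 0))) e
      simp [hs] at h2
  have hz : Subgroup.zpowers (⟨σ, hσ⟩ : S.G) = ⊤ := by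
    refine (hbot ▸ hmax).2 _ (bot_lt_iff_ne_bot.mpr ?_)
    intro e
    rw [Subgroup.zpowers_eq_bot] at e
    rw [e, orderOf_one] at hord
    exact hp.one_lt.ne hord
  have h5 := Nat.card_zpowers (⟨σ, hσ⟩ : S.G)
  rw [hz, Subgroup.card_top, hcard, hord] at h5
  have := hp.pos
  omega

theorem exists_class (h : RankOne S) {r : Orb S} {z0 : ZMod p} (hr : r ∈ R S) (hz0 : z0 ≠ 0)
    (hd : dN S r z0 ≠ 0) :
    (∀ z, z ∉ coset (S := S) z0 → dN S r z = 0) ∧
    (∑ z, (dN S r z : ℤ)) = (Esub S).card * dN S r z0 ∧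
    (∑ z, (dN S r z : ℝ) * dN S r z) = (Esub S).card * (dN S r z0 : ℝ) ^ 2 := by
  have hsupp : ∀ z, z ∉ coset (S := S) z0 → dN S r z = 0 := by
    intro z hz
    by_contra hne
    have hp := projection h hz0 z
    rw [if_neg hz] at hp
    have h0 := (Finset.sum_eq_zero_iff_of_nonneg (fun s _ =>
      mul_nonneg (div_nonneg (Nat.cast_nonneg _) (Nat.cast_nonneg _))
        (Finset.sum_nonneg fun w _ => Nat.cast_nonneg _))).mp hp r hr
    rcases mul_eq_zero.mp h0 with h1 | h1
    · rcases div_eq_zero_iff.mp h1 with h2 | h2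
      · exact hne (by exact_mod_cast h2)
      · exact (kk_pos r).ne' (by exact_mod_cast h2)
    · have := (Finset.sum_eq_zero_iff_of_nonneg (fun w _ => Nat.cast_nonneg _)).mp h1 z0
        (by simp only [coset, Finset.mem_image]; exact ⟨1, Esub_one, one_mul _⟩)
      exact hd (by exact_mod_cast this)
  refine ⟨hsupp, ?_, ?_⟩
  · rw [← Finset.sum_subset (Finset.subset_univ (coset (S := S) z0))
      (fun z _ hz => by simp [hsupp z hz]),
      Finset.sum_congr rfl (fun z hz => by rw [dN_coset r hz]), Finset.sum_const,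
      card_coset hz0, nsmul_eq_mul]
  · rw [← Finset.sum_subset (Finset.subset_univ (coset (S := S) z0))
      (fun z _ hz => by simp [hsupp z hz]),
      Finset.sum_congr rfl (fun z hz => by rw [dN_coset r hz, ← sq]), Finset.sum_const,
      card_coset hz0, nsmul_eq_mul]

end Cfsg.Agent.PermB.TwoP
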