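import Cfsg.Agent.PermB.TwoPAlgebra
import Mathlib.GroupTheory.GroupAction.Primitive
import Mathlib.GroupTheory.GroupAction.MultipleTransitivity

/-!
The rational idempotent of the centraliser algebra attached to the eigenvalue `theta`, and the
three possible ranks of its Fourier components.
-/

set_option autoImplicit false

namespace Cfsg.Agent.PermB.TwoP

open Finset ComplexConjugate Matrix

variable {α : Type*} [Fintype α] [DecidableEq α] {p : ℕ} [Fact p.Prime] (S : Setup α p)

/-- The orbitals. -/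
def Orb : Type _ := MulAction.orbitRel.Quotient S.G (α × α)

noncomputable instance instFintypeOrb : Fintype (Orb S) :=
  @Fintype.ofFinite _ (inferInstanceAs (Finite (MulAction.orbitRel.Quotient S.G (α × α))))

noncomputable instance instDecidableEqOrb : DecidableEq (Orb S) := Classical.decEq _

/-- The orbital of a pair. -/
def qo (x y : α) : Orb S := (Quotient.mk'' (x, y) : MulAction.orbitRel.Quotient S.G (α × α))

/-- Base point. -/
def x0 : α := S.pt (0, 0)

/-- Base point of the second cycle. -/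
def x1 : α := S.pt (1, 0)

/-- The diagonal orbital. -/
def diag : Orb S := qo S (x0 S) (x0 S)

/-- The matrix of an orbital. -/
noncomputable def A (r : Orb S) : Matrix α α ℝ := Matrix.of fun x y => if qo S x y = r then 1 else 0

/-- The length of an orbital. -/
noncomputable def kk (r : Orb S) : ℕ := (univ.filter fun y => qo S (x0 S) y = r).card

/-- The eigenvalue `theta` of an orbital. -/
noncomputable def th (r : Orb S) : ℤ :=
  ((univ.filter fun z => qo S (x0 S) (S.pt (0, z)) = r).card : ℤ)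
    - (univ.filter fun z => qo S (x0 S) (S.pt (1, z)) = r).card

/-- The diagonal block rows of an orbital. -/
noncomputable def dN (r : Orb S) (z : ZMod p) : ℕ :=
  (if qo S (x0 S) (S.pt (0, z)) = r then 1 else 0) + (if qo S (x1 S) (S.pt (1, z)) = r then 1 else 0)

/-- The rational entries of the representing matrix of `theta`. -/
noncomputable def eQ (x y : α) : ℚ := (th S (qo S x y) : ℚ) / (2 * p * kk S (qo S x y))

/-- The representing matrix of `theta`. -/
noncomputable def E0 : Matrix α α ℝ := Matrix.of fun x y => (eQ S x y : ℝ)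

/-- Its eigenvalue. -/
noncomputable def mu : ℝ := theta S (E0 S)

/-- The idempotent. -/
noncomputable def Pm : Matrix α α ℝ := (mu S)⁻¹ • E0 S

variable {S}

omit [Fintype α] [DecidableEq α] in
theorem qo_eq_iff {x y x' y' : α} :
    qo S x y = qo S x' y' ↔ ∃ g ∈ S.G, g x' = x ∧ g y' = y := by
  constructor
  · intro h
    obtain ⟨g, hg⟩ : (x, y) ∈ MulAction.orbit S.G (x', y') :=
      MulAction.orbitRel_apply.mp (Quotient.exact' h)
    exact ⟨g, g.2, congrArg Prod.fst hg, congrArg Prod.snd hg⟩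
  · rintro ⟨g, hg, h1, h2⟩
    apply Quotient.sound'
    rw [MulAction.orbitRel_apply]
    exact ⟨⟨g, hg⟩, Prod.ext h1 h2⟩

omit [Fintype α] [DecidableEq α] in
theorem qo_smul {g : Equiv.Perm α} (hg : g ∈ S.G) (x y : α) : qo S (g x) (g y) = qo S x y :=
  qo_eq_iff.mpr ⟨g, hg, rfl, rfl⟩

omit [Fintype α] [DecidableEq α] in
theorem exists_map_x0 (x : α) : ∃ g ∈ S.G, g (x0 S) = x := by
  obtain ⟨g, hg⟩ := S.trans.exists_smul_eq (x0 S) x
  exact ⟨g, g.2, hg⟩

omit [Fintype α] [DecidableEq α] in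
theorem qo_eq_diag_iff {x y : α} : qo S x y = diag S ↔ x = y := by
  constructor
  · intro h
    obtain ⟨g, _, h1, h2⟩ := qo_eq_iff.mp h
    exact h1.symm.trans h2
  · rintro rfl
    obtain ⟨g, hg, h1⟩ := exists_map_x0 (S := S) x
    exact qo_eq_iff.mpr ⟨g, hg, h1, h1⟩

omit [Fintype α] [DecidableEq α] in
theorem exists_rep (r : Orb S) : ∃ y, qo S (x0 S) y = r := by
  induction r using Quotient.inductionOn' with
  | h xy =>
    obtain ⟨x, y⟩ := xy
    obtain ⟨g, hg, h1⟩ := exists_map_x0 (S := S) x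
    exact ⟨g⁻¹ y, (qo_eq_iff.mpr ⟨g, hg, h1, by simp⟩).symm⟩

theorem card_alpha (S : Setup α p) : Fintype.card α = 2 * p := by
  rw [← Fintype.card_congr S.pt]; simp

theorem Inv_A (r : Orb S) : Inv S (A S r) := fun g hg x y => by simp [A, qo_smul hg]

theorem Inv_E0 : Inv S (E0 S) := fun g hg x y => by simp [E0, eQ, qo_smul hg]

theorem A_diag : A S (diag S) = 1 := by
  ext x y; simp [A, qo_eq_diag_iff, Matrix.one_apply]

theorem kappa_A (r : Orb S) : kappa S (A S r) = kk S r := by
  simp only [kappa, A, kk, x0, Matrix.of_apply, Finset.sum_boole]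
  congr 2

theorem theta_A (r : Orb S) : theta S (A S r) = th S r := by
  simp only [theta, A, th, x0, Matrix.of_apply, Finset.sum_boole]
  push_cast
  congr 3

theorem D_A (r : Orb S) (z : ZMod p) : D S (A S r) z = dN S r z := by
  simp only [D, A, dN, x0, x1, Matrix.of_apply]
  by_cases h0 : qo S (S.pt (0, 0)) (S.pt (0, z)) = r <;>
    by_cases h1 : qo S (S.pt (1, 0)) (S.pt (1, z)) = r <;> simp [h0, h1] <;> norm_num

theorem kk_pos (r : Orb S) : 0 < kk S r := by
  obtain ⟨y, hy⟩ := exists_rep r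
  exact Finset.card_pos.mpr ⟨y, Finset.mem_filter.mpr ⟨mem_univ y, hy⟩⟩

theorem kk_diag : kk S (diag S) = 1 := by
  have h := kappa_A (diag S)
  rw [A_diag, kappa_one] at h
  exact_mod_cast h.symm

theorem th_diag : th S (diag S) = 1 := by
  have h := theta_A (diag S)
  rw [A_diag, theta_one] at h
  exact_mod_cast h.symm

theorem decomp {M : Matrix α α ℝ} (hM : Inv S M) :
    ∃ c : Orb S → ℝ, M = ∑ r, c r • A S r := by
  refine ⟨fun r => M (x0 S) (exists_rep r).choose, ?_⟩
  ext x y
  rw [Matrix.sum_apply, Finset.sum_eq_single (qo S x y)]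
  · simp only [Matrix.smul_apply, A, Matrix.of_apply, if_true, smul_eq_mul, mul_one]
    obtain ⟨g, hg, h1, h2⟩ := qo_eq_iff.mp (exists_rep (qo S x y)).choose_spec
    rw [← hM g hg x y, h1, h2]
  · intro r _ hr
    simp [A, Ne.symm hr]
  · simp

theorem theta_sum {ι : Type*} (s : Finset ι) (c : ι → ℝ) (M : ι → Matrix α α ℝ) :
    theta S (∑ i ∈ s, c i • M i) = ∑ i ∈ s, c i * theta S (M i) := by
  simp only [theta, Matrix.sum_apply, Matrix.smul_apply, smul_eq_mul, mul_sub,
    Finset.mul_sum, Finset.sum_sub_distrib]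
  congr 1 <;> exact Finset.sum_comm

theorem theta_smul (c : ℝ) (M : Matrix α α ℝ) : theta S (c • M) = c * theta S M := by
  simp only [theta, Matrix.smul_apply, smul_eq_mul, mul_sub, Finset.mul_sum]

theorem kappa_smul (c : ℝ) (M : Matrix α α ℝ) : kappa S (c • M) = c * kappa S M := by
  simp only [kappa, Matrix.smul_apply, smul_eq_mul, Finset.mul_sum]

theorem Bil_sum_left {ι : Type*} (s : Finset ι) (c : ι → ℝ) (M : ι → Matrix α α ℝ)
    (N : Matrix α α ℝ) : Bil (∑ i ∈ s, c i • M i) N = ∑ i ∈ s, c i * Bil (M i) N := by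
  simp only [Bil, Matrix.sum_apply, Matrix.smul_apply, smul_eq_mul, Finset.sum_mul,
    Finset.mul_sum, mul_assoc]
  refine Eq.trans (Finset.sum_congr rfl fun x _ => ?_) Finset.sum_comm
  exact Finset.sum_comm

theorem card_row (r : Orb S) (x : α) : ((univ.filter fun y => qo S x y = r).card : ℝ) = kk S r := by
  rw [← kappa_A, ← row_sum (Inv_A r) x]
  simp [A, Finset.sum_boole]

theorem Bil_A_E0 (r : Orb S) : Bil (A S r) (E0 S) = th S r := by
  have e : ∀ x y, A S r x y * E0 S x y
      = if qo S x y = r then (th S r : ℝ) / (2 * p * kk S r) else 0 := by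
    intro x y
    by_cases h : qo S x y = r <;> simp [A, E0, eQ, h]
  simp only [Bil, e]
  simp only [← Finset.sum_filter, Finset.sum_const, nsmul_eq_mul, card_row]
  rw [Finset.card_univ, card_alpha S]
  have h1 : (kk S r : ℝ) ≠ 0 := Nat.cast_ne_zero.mpr (kk_pos r).ne'
  have h2 : (p : ℝ) ≠ 0 := Nat.cast_ne_zero.mpr (Fact.out : p.Prime).ne_zero
  push_cast
  field_simp

theorem Bil_A_A (r s : Orb S) :
    Bil (A S r) (A S s) = if r = s then 2 * (p : ℝ) * kk S r else 0 := by
  by_cases h : r = s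
  · subst h
    have e : ∀ x y, A S r x y * A S r x y = if qo S x y = r then (1 : ℝ) else 0 := by
      intro x y; by_cases h : qo S x y = r <;> simp [A, h]
    simp only [Bil, e, Finset.sum_boole, card_row, Finset.sum_const, nsmul_eq_mul, if_true]
    rw [Finset.card_univ, card_alpha S]
    push_cast; ring
  · rw [if_neg h, Bil]
    refine Finset.sum_eq_zero (fun x _ => Finset.sum_eq_zero (fun y _ => ?_))
    by_cases hx : qo S x y = r <;> simp [A, hx, h]

theorem Bil_E0 {M : Matrix α α ℝ} (hM : Inv S M) : Bil M (E0 S) = theta S M := by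
  obtain ⟨c, rfl⟩ := decomp hM
  simp [Bil_sum_left, theta_sum, Bil_A_E0, theta_A]

theorem mul_E0 {M : Matrix α α ℝ} (hM : Inv S M) : M * E0 S = theta S M • E0 S := by
  apply sub_eq_zero.mp
  apply Bil_self_eq_zero
  set N := M * E0 S - theta S M • E0 S with hN
  have hNi : Inv S N := (hM.mul Inv_E0).sub (Inv_E0.smul _)
  have e : Bil N N = Bil N (M * E0 S) - theta S M * Bil N (E0 S) := by
    nth_rewrite 2 [hN]
    simp only [Bil, Matrix.sub_apply, Matrix.smul_apply, smul_eq_mul, Finset.mul_sum,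
      ← Finset.sum_sub_distrib]
    exact Finset.sum_congr rfl (fun x _ => Finset.sum_congr rfl (fun y _ => by ring))
  rw [e, Bil_mul_right, Bil_E0 (hM.transpose.mul hNi), theta_mul hM.transpose hNi,
    theta_transpose hM, Bil_E0 hNi, sub_self]

theorem E0_symm : (E0 S)ᵀ = E0 S := by
  apply sub_eq_zero.mp
  apply Bil_self_eq_zero
  set N := (E0 S)ᵀ - E0 S with hN
  have hNi : Inv S N := Inv_E0.transpose.sub Inv_E0
  have e : Bil N N = Bil Nᵀ (E0 S) - Bil N (E0 S) := by
    nth_rewrite 2 [hN]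
    simp only [Bil, Matrix.sub_apply, Matrix.transpose_apply, mul_sub, Finset.sum_sub_distrib]
    rw [Finset.sum_comm]
  rw [e, Bil_E0 hNi.transpose, Bil_E0 hNi, theta_transpose hNi, sub_self]

theorem E0_mul {M : Matrix α α ℝ} (hM : Inv S M) : E0 S * M = theta S M • E0 S := by
  have h := congrArg Matrix.transpose (mul_E0 hM.transpose)
  rw [Matrix.transpose_mul, Matrix.transpose_transpose, Matrix.transpose_smul, E0_symm,
    theta_transpose hM] at h
  exact h

theorem mu_pos : 0 < mu S := by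
  have h1 : 0 ≤ mu S := by
    rw [mu, ← Bil_E0 Inv_E0]
    exact Finset.sum_nonneg (fun x _ => Finset.sum_nonneg (fun y _ => mul_self_nonneg _))
  refine lt_of_le_of_ne h1 (fun h => ?_)
  have h2 : Bil (E0 S) (E0 S) = 0 := by rw [Bil_E0 Inv_E0]; exact h.symm
  have h3 := Bil_E0 (Inv.one (S := S))
  rw [Bil_self_eq_zero h2, theta_one] at h3
  simp [Bil] at h3

theorem Inv_Pm : Inv S (Pm S) := Inv_E0.smul _

theorem theta_Pm : theta S (Pm S) = 1 := by
  rw [Pm, theta_smul, ← mu, inv_mul_cancel₀ mu_pos.ne']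

theorem kappa_Pm : kappa S (Pm S) = 0 := by
  have hJ : Inv S (Matrix.of fun _ _ : α => (1 : ℝ)) := fun g _ x y => rfl
  have h := congrFun (congrFun (E0_mul hJ) (x0 S)) (x0 S)
  have ht : theta S (Matrix.of fun _ _ : α => (1 : ℝ)) = 0 := by simp [theta]
  rw [ht] at h
  simp [Matrix.mul_apply] at h
  rw [Pm, kappa_smul]
  simp only [kappa]
  rw [show S.pt (0, 0) = x0 S from rfl, h, mul_zero]

theorem mul_Pm {M : Matrix α α ℝ} (hM : Inv S M) : M * Pm S = theta S M • Pm S := by
  rw [Pm, Matrix.mul_smul, mul_E0 hM, smul_comm]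

theorem Pm_mul {M : Matrix α α ℝ} (hM : Inv S M) : Pm S * M = theta S M • Pm S := by
  rw [Pm, Matrix.smul_mul, E0_mul hM, smul_comm]

theorem Pm_idem : Pm S * Pm S = Pm S := by rw [mul_Pm Inv_Pm, theta_Pm, one_smul]

theorem F_smul (c : ℝ) (M : Matrix α α ℝ) (k : ZMod p) : F S (c • M) k = (c : ℂ) • F S M k := by
  ext i j
  simp only [F, Matrix.of_apply, Matrix.smul_apply, smul_eq_mul, hat, Complex.ofReal_mul,
    Finset.mul_sum, mul_assoc]

theorem F_Pm_idem (k : ZMod p) : F S (Pm S) k * F S (Pm S) k = F S (Pm S) k := by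
  rw [← F_mul Inv_Pm, Pm_idem]

theorem F_mul_Pm {M : Matrix α α ℝ} (hM : Inv S M) (k : ZMod p) :
    F S M k * F S (Pm S) k = (theta S M : ℂ) • F S (Pm S) k := by
  rw [← F_mul Inv_Pm, mul_Pm hM, F_smul]

theorem F_Pm_mul {M : Matrix α α ℝ} (hM : Inv S M) (k : ZMod p) :
    F S (Pm S) k * F S M k = (theta S M : ℂ) • F S (Pm S) k := by
  rw [← F_mul hM, Pm_mul hM, F_smul]

/-- All non-trivial components of the idempotent have the same rank. -/
theorem rank_const :
    ∃ n : ℕ, ((n = 0 ∧ ∀ k : ZMod p, k ≠ 0 → F S (Pm S) k = 0) ∨ n = 1 ∨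
      (n = 2 ∧ ∀ k : ZMod p, k ≠ 0 → F S (Pm S) k = 1)) ∧
      (∀ k : ZMod p, k ≠ 0 → (F S (Pm S) k).trace = n) ∧
      (mu S)⁻¹ = 1 + ((p : ℝ) - 1) * n := by
  obtain ⟨n, hn2, hn⟩ : ∃ n : ℕ, n ≤ 2 ∧ (F S (Pm S) 1).trace = n := by
    rcases idem_two_trace (F_Pm_idem (S := S) 1) with ⟨h, _⟩ | h | ⟨h, _⟩
    · exact ⟨0, by norm_num, by simpa using h⟩
    · exact ⟨1, by norm_num, by simpa using h⟩
    · exact ⟨2, by norm_num, by simpa using h⟩
  set muQ : ℚ := ∑ z, eQ S (S.pt (0, 0)) (S.pt (0, z)) - ∑ z, eQ S (S.pt (0, 0)) (S.pt (1, z))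
    with hmuQ
  have hmu : mu S = (muQ : ℝ) := by simp [mu, theta, E0, hmuQ]
  set qQ : ZMod p → ℚ := fun z =>
    (eQ S (S.pt (0, 0)) (S.pt (0, z)) + eQ S (S.pt (1, 0)) (S.pt (1, z))) / muQ with hqQ
  have hD : ∀ z, D S (Pm S) z = (qQ z : ℝ) := by
    intro z
    simp [D, Pm, E0, hqQ, hmu]
    ring
  have hdh : ∀ k, dhat S (Pm S) k = hat (fun z => (qQ z : ℂ)) k := by
    intro k; simp [dhat, hD]
  set q' : ZMod p → ℚ := fun z => qQ z - if z = 0 then (n : ℚ) else 0 with hq'
  have hq'hat : ∀ k, hat (fun z => (q' z : ℂ)) k = dhat S (Pm S) k - n := by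
    intro k
    rw [hdh, hat, hat]
    have : (n : ℂ) = ∑ z : ZMod p, (if z = 0 then (n : ℂ) else 0) * psi (k * z) := by
      simp [psi_zero]
    rw [this, ← Finset.sum_sub_distrib]
    refine Finset.sum_congr rfl (fun z _ => ?_)
    by_cases hz : z = 0 <;> simp [hq', hz, psi_zero]
  have hc : ∀ z, q' z = q' 0 := rat_const_of_hat_one q' (by
    rw [hq'hat, ← trace_F, hn, sub_self])
  have htr : ∀ k : ZMod p, k ≠ 0 → (F S (Pm S) k).trace = n := by
    intro k hk
    rw [trace_F]
    have h := hq'hat k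
    have : hat (fun z => (q' z : ℂ)) k = 0 := by
      unfold hat
      simp only [hc]
      rw [← Finset.mul_sum]
      have h2 := psi_orth k
      rw [if_neg hk] at h2
      simp only [mul_comm k] at h2 ⊢
      rw [h2, mul_zero]
    rw [this] at h
    exact sub_eq_zero.mp h.symm
  refine ⟨n, ?_, htr, ?_⟩
  · interval_cases n
    · refine Or.inl ⟨rfl, fun k hk => ?_⟩
      rcases idem_two_trace (F_Pm_idem (S := S) k) with ⟨_, h⟩ | h | ⟨h, _⟩
      · exact h
      · rw [htr k hk] at h; norm_num at h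
      · rw [htr k hk] at h; norm_num at h
    · exact Or.inr (Or.inl rfl)
    · refine Or.inr (Or.inr ⟨rfl, fun k hk => ?_⟩)
      rcases idem_two_trace (F_Pm_idem (S := S) k) with ⟨h, _⟩ | h | ⟨_, h⟩
      · rw [htr k hk] at h; norm_num at h
      · rw [htr k hk] at h; norm_num at h
      · exact h
  · have h := sum_dhat (S := S) (Pm S)
    rw [← Finset.add_sum_erase univ _ (mem_univ (0 : ZMod p)), dhat_zero Inv_Pm, kappa_Pm,
      theta_Pm] at h
    have e : ∑ k ∈ (univ : Finset (ZMod p)).erase 0, dhat S (Pm S) k = ((p : ℂ) - 1) * n := by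
      rw [Finset.sum_congr rfl (fun k hk => by
        rw [← trace_F, htr k (Finset.ne_of_mem_erase hk)]), Finset.sum_const,
        Finset.card_erase_of_mem (mem_univ _), Finset.card_univ, ZMod.card, nsmul_eq_mul,
        Nat.cast_sub (Fact.out : p.Prime).one_le, Nat.cast_one]
    have hD0 : (p : ℝ) * D S (Pm S) 0 = (mu S)⁻¹ := by
      have hp0 : (p : ℝ) ≠ 0 := Nat.cast_ne_zero.mpr (Fact.out : p.Prime).ne_zero
      have d0 : qo S (S.pt (0, 0)) (S.pt (0, 0)) = diag S := qo_eq_diag_iff.mpr rfl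
      have d1 : qo S (S.pt (1, 0)) (S.pt (1, 0)) = diag S := qo_eq_diag_iff.mpr rfl
      simp [D, Pm, E0, eQ, d0, d1, th_diag, kk_diag]
      field_simp
      ring
    rw [e, hD0] at h
    apply Complex.ofReal_injective
    rw [← h]
    push_cast
    ring

theorem not_blocks (hprim : MulAction.IsPreprimitive S.G α) :
    ¬ ∀ g ∈ S.G, ∀ x y, ((S.pt.symm (g x)).1 = (S.pt.symm (g y)).1 ↔
      (S.pt.symm x).1 = (S.pt.symm y).1) := by
  intro h
  set B : Set α := {x | (S.pt.symm x).1 = 0} with hB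
  have hblock : MulAction.IsBlock S.G B := by
    rw [MulAction.isBlock_iff_smul_eq_of_nonempty]
    rintro ⟨g, hg⟩ ⟨z, ⟨w, hw, rfl⟩, hz⟩
    have hz' : (S.pt.symm (g w)).1 = 0 := hz
    have hw' : (S.pt.symm w).1 = 0 := hw
    ext x
    constructor
    · rintro ⟨y, hy, rfl⟩
      have hy' : (S.pt.symm y).1 = 0 := hy
      show (S.pt.symm (g y)).1 = 0
      rw [← hz', (h g hg y w), hy', hw']
    · intro hx
      have hx' : (S.pt.symm x).1 = 0 := hx
      refine ⟨g⁻¹ x, ?_, by simp⟩
      show (S.pt.symm (g⁻¹ x)).1 = 0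
      rw [← hw', ← h g hg, hz']
      simpa using hx'
  rcases hprim.isTrivialBlock_of_isBlock hblock with h1 | h1
  · have := h1 (show S.pt (0, 0) ∈ B by simp [hB]) (show S.pt (0, 1) ∈ B by simp [hB])
    simp at this
  · have : S.pt (1, 0) ∈ B := by rw [h1]; trivial
    simp [hB] at this

theorem rank_zero_false (hprim : MulAction.IsPreprimitive S.G α)
    (h : ∀ k : ZMod p, k ≠ 0 → F S (Pm S) k = 0) : False := by
  have hc : ∀ i j : Fin 2, ∀ z, Pm S (S.pt (i, 0)) (S.pt (j, z))
      = Pm S (S.pt (i, 0)) (S.pt (j, 0)) := by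
    intro i j z
    have := const_of_hat_eq_zero (fun z => (Pm S (S.pt (i, 0)) (S.pt (j, z)) : ℂ))
      (fun k hk => congrFun (congrFun (h k hk) i) j) z
    exact_mod_cast this
  have hval : ∀ i j : Fin 2, (p : ℝ) * Pm S (S.pt (i, 0)) (S.pt (j, 0))
      = if i = j then 1 / 2 else -1 / 2 := by
    intro i j
    have h0 := congrFun (congrFun (F_zero_shape (Inv_Pm (S := S))) i) j
    simp only [F, Matrix.of_apply, hat_zero, hc i j, Finset.sum_const, Finset.card_univ,
      ZMod.card, nsmul_eq_mul, kappa_Pm, theta_Pm] at h0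
    apply Complex.ofReal_injective
    rw [Complex.ofReal_mul, Complex.ofReal_natCast, h0]
    fin_cases i <;> fin_cases j <;> simp <;> norm_num
  have hpos : ∀ x y, (0 < Pm S x y ↔ (S.pt.symm x).1 = (S.pt.symm y).1) := by
    intro x y
    obtain ⟨⟨i, a⟩, rfl⟩ := S.pt.surjective x
    obtain ⟨⟨j, b⟩, rfl⟩ := S.pt.surjective y
    rw [(Inv_Pm (S := S)).translate, hc, S.pt.symm_apply_apply, S.pt.symm_apply_apply]
    have hp0 : (0 : ℝ) < p := Nat.cast_pos.mpr (Fact.out : p.Prime).pos
    have hv := hval i j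
    by_cases hij : i = j
    · rw [if_pos hij] at hv
      exact iff_of_true (by nlinarith) hij
    · rw [if_neg hij] at hv
      exact iff_of_false (by intro hh; nlinarith) hij
  apply not_blocks hprim
  intro g hg x y
  rw [← hpos, ← hpos, Inv_Pm g hg]

theorem rank_two_two_transitive (hprim : MulAction.IsPreprimitive S.G α)
    (h : ∀ k : ZMod p, k ≠ 0 → F S (Pm S) k = 1) :
    MulAction.IsMultiplyPretransitive S.G α 2 := by
  have hF : ∀ (r : Orb S) (k : ZMod p), k ≠ 0 → F S (A S r) k = (th S r : ℂ) • 1 := by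
    intro r k hk
    have := F_mul_Pm (Inv_A (S := S) r) k
    rw [h k hk, mul_one, theta_A] at this
    simpa using this
  have hcross : ∀ z, qo S (x0 S) (S.pt (1, z)) = qo S (x0 S) (S.pt (1, 0)) := by
    intro z
    set r := qo S (x0 S) (S.pt (1, 0)) with hr
    have := const_of_hat_eq_zero (fun z => (A S r (x0 S) (S.pt (1, z)) : ℂ)) (fun k hk => by
      have := congrFun (congrFun (hF r k hk) 0) 1
      simpa [F, x0] using this) z
    simp [A, ← hr] at this
    exact this
  have hsame : ∀ z, z ≠ 0 → qo S (x0 S) (S.pt (0, z)) = qo S (x0 S) (S.pt (0, 1)) := by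
    intro z hz
    set r := qo S (x0 S) (S.pt (0, 1)) with hr
    set g : ZMod p → ℂ := fun z => (A S r (x0 S) (S.pt (0, z)) : ℂ) -
      (if z = 0 then (th S r : ℂ) else 0) with hg
    have hgk : ∀ k, k ≠ 0 → hat g k = 0 := by
      intro k hk
      have e := congrFun (congrFun (hF r k hk) 0) 0
      simp [F, hat, x0] at e
      simp [hg, hat, sub_mul, Finset.sum_sub_distrib, psi_zero, x0, e]
    have h1 := const_of_hat_eq_zero g hgk z
    have h2 := const_of_hat_eq_zero g hgk 1
    rw [← h2] at h1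
    simp [hg, hz, A, ← hr] at h1
    exact h1
  by_cases hrr : qo S (x0 S) (S.pt (1, 0)) = qo S (x0 S) (S.pt (0, 1))
  · have hall : ∀ x y, x ≠ y → qo S x y = qo S (x0 S) (S.pt (0, 1)) := by
      intro x y hxy
      obtain ⟨g, hg, hgx⟩ := exists_map_x0 (S := S) x
      obtain ⟨w, rfl⟩ := g.surjective y
      rw [← hgx, qo_smul hg]
      obtain ⟨⟨i, z⟩, rfl⟩ := S.pt.surjective w
      fin_cases i
      · apply hsame
        rintro rfl
        exact hxy hgx.symm
      · exact (hcross z).trans hrr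
    rw [MulAction.is_two_pretransitive_iff]
    intro a b c d hab hcd
    obtain ⟨g, hg, h1, h2⟩ := qo_eq_iff.mp ((hall c d hcd).trans (hall a b hab).symm)
    exact ⟨⟨g, hg⟩, h1, h2⟩
  · exfalso
    set r := qo S (x0 S) (S.pt (1, 0)) with hr
    have hS01 : ∀ z, A S r (S.pt (0, 0)) (S.pt (1, z)) = 1 := by
      intro z
      have := hcross z
      simp [x0] at this
      simp [A, this]
    have hS00 : ∀ z, A S r (S.pt (0, 0)) (S.pt (0, z)) = 0 := by
      intro z
      simp only [A, Matrix.of_apply, ite_eq_right_iff, one_ne_zero, imp_false]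
      rcases eq_or_ne z 0 with rfl | hz
      · intro he
        have : qo S (x0 S) (x0 S) = r := he
        have h2 : qo S (x0 S) (S.pt (1, 0)) = diag S := this.symm
        rw [qo_eq_diag_iff, x0] at h2
        simp at h2
      · intro he
        have h2 : qo S (x0 S) (S.pt (0, z)) = r := he
        rw [hsame z hz] at h2
        exact hrr h2.symm
    have hth : theta S (A S r) = -(p : ℝ) := by simp [theta, hS00, hS01]
    have hka : kappa S (A S r) = (p : ℝ) := by
      rw [kappa, sum_pts (S := S)]; simp [hS00, hS01]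
    have key := F_zero_shape (Inv_A (S := S) r)
    have hsum10 : ∑ z, A S r (S.pt (1, 0)) (S.pt (0, z)) = (p : ℝ) := by
      have := congrFun (congrFun key 1) 0
      simp [F, hat_zero, hth, hka] at this
      rw [← Complex.ofReal_sum] at this
      exact_mod_cast this
    have hsum11 : ∑ z, A S r (S.pt (1, 0)) (S.pt (1, z)) = 0 := by
      have := congrFun (congrFun key 1) 1
      simp [F, hat_zero, hth, hka] at this
      rw [← Complex.ofReal_sum] at this
      exact_mod_cast this
    have hS11 : ∀ z, A S r (S.pt (1, 0)) (S.pt (1, z)) = 0 := fun z =>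
      (Finset.sum_eq_zero_iff_of_nonneg (fun z _ => by simp [A]; split_ifs <;> norm_num)).mp
        hsum11 z (mem_univ z)
    have hS10 : ∀ z, A S r (S.pt (1, 0)) (S.pt (0, z)) = 1 := by
      intro z
      have : ∑ z, (1 - A S r (S.pt (1, 0)) (S.pt (0, z))) = 0 := by
        rw [Finset.sum_sub_distrib, hsum10]; simp
      have h0 := (Finset.sum_eq_zero_iff_of_nonneg
        (fun z _ => by simp [A]; split_ifs <;> norm_num)).mp this z (mem_univ z)
      linarith
    have hA : ∀ x y, (A S r x y = 0 ↔ (S.pt.symm x).1 = (S.pt.symm y).1) := by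
      intro x y
      obtain ⟨⟨i, a⟩, rfl⟩ := S.pt.surjective x
      obtain ⟨⟨j, b⟩, rfl⟩ := S.pt.surjective y
      rw [(Inv_A (S := S) r).translate, S.pt.symm_apply_apply, S.pt.symm_apply_apply]
      fin_cases i <;> fin_cases j <;> simp [hS00, hS01, hS10, hS11]
    apply not_blocks hprim
    intro g hg x y
    rw [← hA, ← hA, Inv_A r g hg]

end Cfsg.Agent.PermB.TwoP
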