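import Cfsg.Agent.PermB.MultFreeComm

/-!
Rank three groups of degree `2m` with character degrees `1, m - 1, m`.
-/

set_option autoImplicit false
set_option linter.unusedSectionVars false

namespace Cfsg.Agent.PermB

open MulAction Module
open scoped ComplexConjugate

universe u v

theorem int_of_isIntegral_quadratic {u : ℂ} (hu : IsIntegral ℤ u) (A B C : ℤ) (hA : A ≠ 0)
    (hAB : ¬ A ∣ B) (h : (A : ℂ) * u ^ 2 + (B : ℂ) * u + (C : ℂ) = 0) : ∃ z : ℤ, u = z := by
  classical
  let Q : Polynomial ℤ := Polynomial.C A * Polynomial.X ^ 2 + Polynomial.C B * Polynomial.X +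
    Polynomial.C C
  have hQ : Polynomial.aeval u Q = 0 := by simpa [Q] using h
  obtain ⟨R, hR⟩ := minpoly.isIntegrallyClosed_dvd hu hQ
  have hdeg : Q.natDegree = 2 := Polynomial.natDegree_quadratic hA
  have hQ0 : Q ≠ 0 := fun e => by rw [e, Polynomial.natDegree_zero] at hdeg; omega
  have hP0 : minpoly ℤ u ≠ 0 := minpoly.ne_zero hu
  have hR0 : R ≠ 0 := fun e => hQ0 (by rw [hR, e, mul_zero])
  have hadd : (minpoly ℤ u).natDegree + R.natDegree = 2 := by
    rw [← Polynomial.natDegree_mul hP0 hR0, ← hR, hdeg]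
  have hpos := minpoly.natDegree_pos hu
  rcases (by omega : (minpoly ℤ u).natDegree = 1 ∨ (minpoly ℤ u).natDegree = 2) with h1 | h2
  · refine ⟨-(minpoly ℤ u).coeff 0, ?_⟩
    have he := minpoly.aeval ℤ u
    rw [(minpoly.monic hu).eq_X_add_C h1, map_add, Polynomial.aeval_X, Polynomial.aeval_C] at he
    push_cast
    exact eq_neg_of_add_eq_zero_left he
  · exfalso
    apply hAB
    obtain ⟨c, hc⟩ : ∃ c, R = Polynomial.C c :=
      ⟨R.coeff 0, Polynomial.eq_C_of_natDegree_eq_zero (by omega)⟩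
    have h2c := congrArg (fun p : Polynomial ℤ => p.coeff 2) hR
    have h1c := congrArg (fun p : Polynomial ℤ => p.coeff 1) hR
    have hlead : (minpoly ℤ u).coeff 2 = 1 := h2 ▸ (minpoly.monic hu).coeff_natDegree
    simp only [Q, hc, Polynomial.coeff_add, Polynomial.coeff_C_mul, Polynomial.coeff_mul_C,
      Polynomial.coeff_X_pow, Polynomial.coeff_X, Polynomial.coeff_C] at h2c h1c
    norm_num [hlead] at h2c h1c
    exact ⟨(minpoly ℤ u).coeff 1, by rw [h2c, mul_comm c, ← h1c]⟩

/-- The arithmetic of the eigenvalue condition. -/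
theorem wielandt_arith {m k v : ℤ} (hm : 2 ≤ m) (hk : 2 ≤ k) (hk' : k + 2 ≤ 2 * m - 1)
    (h : (m - 1) * (2 * m - 1) * v ^ 2 - 4 * (m - 1) * k * v + 2 * k * (k - 1) = 0) :
    (2 * k - 2 * m + 1) ^ 2 = 2 * m - 1 := by
  have hv1 : 1 ≤ v := by
    by_contra hv
    nlinarith [mul_nonneg (mul_nonneg (by omega : (0 : ℤ) ≤ m - 1) (by omega : (0 : ℤ) ≤ 2 * m - 1))
      (sq_nonneg v), mul_nonneg (mul_nonneg (by omega : (0 : ℤ) ≤ m - 1) (by omega : (0 : ℤ) ≤ k))
      (by omega : (0 : ℤ) ≤ -v)]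
  have hD : (2 * k - 1 - 2 * (m - 1) * v) ^ 2 = 1 + 2 * (m - 1) * v * (2 - v) := by linarith [h]
  rcases (by omega : v = 1 ∨ v = 2 ∨ 3 ≤ v) with rfl | rfl | hv
  · linarith [hD]
  · exfalso
    nlinarith [hD]
  · exfalso
    nlinarith [sq_nonneg (2 * k - 1 - 2 * (m - 1) * v),
      mul_nonneg (mul_nonneg (by omega : (0 : ℤ) ≤ m - 1) (by omega : (0 : ℤ) ≤ v))
        (by omega : (0 : ℤ) ≤ v - 3)]

variable {G : Type u} [Group G] [Fintype G] {Ω : Type v} [Fintype Ω] [MulAction G Ω]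

theorem orbKer_iff [DecidableEq Ω] (a b x y : Ω) :
    (orbOp G a b : Module.End ℂ (Ω → ℂ)) (Pi.single x 1) y = 1 ∧ (x, y) ∈ orbit G (a, b) ∨
      (orbOp G a b : Module.End ℂ (Ω → ℂ)) (Pi.single x 1) y = 0 ∧ (x, y) ∉ orbit G (a, b) := by
  classical
  rw [orbOp_entry]
  unfold orbKer
  split_ifs with h
  · exact Or.inl ⟨rfl, h⟩
  · exact Or.inr ⟨rfl, h⟩

section Transitive

variable [IsPretransitive G Ω]

theorem row_sum (a b x : Ω) :
    ∑ y, orbKer G a b y x = (Nat.card (orbit (stabilizer G a) b) : ℂ) := by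
  classical
  obtain ⟨h, rfl⟩ := exists_smul_eq G a x
  rw [show ∑ y, orbKer G a b y (h • a) = ∑ y, orbKer G a b y a from
    (Fintype.sum_equiv (MulAction.toPerm h) (fun y => orbKer G a b y a)
      (fun y => orbKer G a b y (h • a)) fun y => (orbKer_smul a b h y a).symm).symm]
  unfold orbKer
  rw [Finset.sum_boole]
  congr 1
  rw [Nat.card_eq_fintype_card, ← Fintype.card_subtype]
  refine Fintype.card_congr (Equiv.subtypeEquivRight fun y => ?_)
  constructor
  · rintro ⟨g, hg⟩
    exact ⟨⟨g, congrArg Prod.fst hg⟩, congrArg Prod.snd hg⟩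
  · rintro ⟨⟨g, ha⟩, hg⟩
    exact ⟨g, Prod.ext ha hg⟩

/-- The transpose of an orbital matrix is the orbital matrix of the paired suborbit. -/
theorem exists_paired (a b : Ω) : ∃ b' : Ω, (∃ h : G, h • b = a ∧ h • a = b') ∧
    Nat.card (orbit (stabilizer G a) b') = Nat.card (orbit (stabilizer G a) b) := by
  classical
  obtain ⟨h, hh⟩ := exists_smul_eq G b a
  refine ⟨h • a, ⟨h, hh, rfl⟩, ?_⟩
  have hT : (orbOp G a (h • a) : Module.End ℂ (Ω → ℂ)) =
      transp (orbOp G a b : Module.End ℂ (Ω → ℂ)) := by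
    apply LinearMap.pi_ext'
    intro x
    apply LinearMap.ext_ring
    funext y
    show (orbOp G a (h • a) : Module.End ℂ (Ω → ℂ)) (Pi.single x 1) y = transp _ (Pi.single x 1) y
    rw [transp, Perm.kerMap_single]
    have hiff : (x, y) ∈ orbit G (a, h • a) ↔ (y, x) ∈ orbit G (a, b) := by
      constructor
      · rintro ⟨g, hg⟩
        refine ⟨g * h, Prod.ext ?_ ?_⟩
        · simpa [mul_smul] using congrArg Prod.snd hg
        · simpa [mul_smul, hh] using congrArg Prod.fst hg
      · rintro ⟨g, hg⟩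
        refine ⟨g * h⁻¹, Prod.ext ?_ ?_⟩
        · have : h⁻¹ • a = b := by rw [← hh, inv_smul_smul]
          simpa [mul_smul, this] using congrArg Prod.snd hg
        · simpa [mul_smul] using congrArg Prod.fst hg
    rcases orbKer_iff (G := G) a (h • a) x y with ⟨h1, h2⟩ | ⟨h1, h2⟩ <;>
      rcases orbKer_iff (G := G) a b y x with ⟨h3, h4⟩ | ⟨h3, h4⟩ <;> rw [h1, h3]
    · exact absurd (hiff.1 h2) h4
    · exact absurd (hiff.2 h4) h2
  have e := classInner_trFun_one (G := G) a (h • a)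
  have h1c : (fun _ : G => (1 : ℂ)) = ((oneChar : Cfsg.IrrCharacter G) : G → ℂ) := rfl
  rw [hT, h1c, classInner_trFun_transp] at e
  simp only [oneChar, map_one] at e
  rw [classInner_trFun_one] at e
  exact_mod_cast e.symm

theorem smul_orbit_eq_one_false (hprim : IsPreprimitive G Ω) {a b : Ω} (hb : b ≠ a)
    (h1 : Nat.card (orbit (stabilizer G a) b) = 1) (c : Ω) :
    orbit (stabilizer G a) c = {c} := by
  have : Nontrivial Ω := ⟨⟨b, a, hb⟩⟩
  have hsing : ∀ g ∈ stabilizer G a, g • b = b := by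
    intro g hg
    have hs := (Nat.card_eq_one_iff_unique.1 h1).1
    have := Subsingleton.elim (⟨g • b, ⟨⟨g, hg⟩, rfl⟩⟩ : orbit (stabilizer G a) b)
      ⟨b, mem_orbit_self b⟩
    exact congrArg Subtype.val this
  obtain ⟨h, hh⟩ := exists_smul_eq G a b
  have hco := MulAction.IsPreprimitive.isCoatom_stabilizer_of_isPreprimitive (G := G) a
  have hN : Subgroup.normalizer (stabilizer G a : Set G) = ⊤ := by
    refine hco.2 _ (lt_of_le_of_ne Subgroup.le_normalizer fun e => hb ?_)
    have hcard : Nat.card (stabilizer G b) = Nat.card (stabilizer G a) := by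
      rw [← hh, stabilizer_smul_eq_stabilizer_map_conj, Subgroup.card_map_of_injective]
      exact (MulAut.conj h).injective
    have hle : stabilizer G a ≤ stabilizer G b := hsing
    have heq := Subgroup.eq_of_le_of_card_ge hle hcard.le
    have hmem : h ∈ Subgroup.normalizer (stabilizer G a : Set G) := by
      rw [Subgroup.mem_normalizer_iff]
      intro x
      conv_rhs => rw [heq, ← hh]
      simp [mem_stabilizer_iff, mul_smul]
    rw [← e] at hmem
    exact hh.symm.trans hmem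
  have hnorm := Subgroup.normalizer_eq_top_iff.1 hN
  refine Set.eq_singleton_iff_unique_mem.2 ⟨mem_orbit_self c, ?_⟩
  rintro _ ⟨⟨g, hg⟩, rfl⟩
  obtain ⟨x, rfl⟩ := exists_smul_eq G a c
  have hx := mem_stabilizer_iff.1 (hnorm.conj_mem g hg x⁻¹)
  rw [inv_inv, mul_smul, mul_smul, inv_smul_eq_iff] at hx
  exact hx

/-- In rank three the nontrivial subdegrees add up to `n - 1`. -/
theorem rank_three_split {a : Ω}
    (hrank : Nat.card (orbitRel.Quotient (stabilizer G a) Ω) = 3) {b : Ω} (hb : b ≠ a) :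
    ∃ c : Ω, c ≠ a ∧ c ∉ orbit (stabilizer G a) b ∧
      (∀ x, x ≠ a → x ∈ orbit (stabilizer G a) b ∨ x ∈ orbit (stabilizer G a) c) ∧
      Fintype.card Ω = 1 + Nat.card (orbit (stabilizer G a) b) +
        Nat.card (orbit (stabilizer G a) c) := by
  classical
  rw [Nat.card_eq_fintype_card] at hrank
  let qa : orbitRel.Quotient (stabilizer G a) Ω := Quotient.mk _ a
  let qb : orbitRel.Quotient (stabilizer G a) Ω := Quotient.mk _ b
  have hab : qb ≠ qa := fun e => by
    obtain ⟨g, hg⟩ := Quotient.exact e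
    exact hb (hg.symm.trans g.2)
  obtain ⟨qc, hqc⟩ : ∃ qc, qc ∉ ({qa, qb} : Finset (orbitRel.Quotient (stabilizer G a) Ω)) := by
    by_contra h
    push Not at h
    have := Finset.card_le_card (fun q _ => h q : Finset.univ ⊆ {qa, qb})
    rw [Finset.card_univ, hrank, Finset.card_pair hab.symm] at this
    omega
  simp only [Finset.mem_insert, Finset.mem_singleton, not_or] at hqc
  induction qc using Quotient.inductionOn with
  | h c =>
    have huniv : ({qa, qb, Quotient.mk (orbitRel (stabilizer G a) Ω) c} :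
        Finset (orbitRel.Quotient (stabilizer G a) Ω)) = Finset.univ := by
      refine Finset.eq_univ_of_card _ ?_
      rw [Finset.card_eq_three.2 ⟨_, _, _, hab.symm, Ne.symm hqc.1, Ne.symm hqc.2, rfl⟩, hrank]
    refine ⟨c, fun e => hqc.1 (by rw [e]), fun hc => hqc.2 (Quotient.sound hc), fun x hx => ?_, ?_⟩
    · have := Finset.mem_univ (Quotient.mk (orbitRel (stabilizer G a) Ω) x)
      rw [← huniv] at this
      simp only [Finset.mem_insert, Finset.mem_singleton] at this
      rcases this with h | h | h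
      · obtain ⟨g, hg⟩ := Quotient.exact h
        exact absurd (hg.symm.trans g.2) hx
      · exact Or.inl (Quotient.exact h)
      · exact Or.inr (Quotient.exact h)
    · rw [← Nat.card_eq_fintype_card (α := Ω),
        Nat.card_congr (selfEquivSigmaOrbits' (stabilizer G a) Ω), Nat.card_sigma, ← huniv,
        Finset.sum_insert (by simp [Ne.symm hab, Ne.symm hqc.1]),
        Finset.sum_pair (Ne.symm hqc.2)]
      have ha : Nat.card (orbitRel.Quotient.orbit qa) = 1 := by
        rw [show orbitRel.Quotient.orbit qa = orbit (stabilizer G a) a from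
          orbitRel.Quotient.orbit_mk a, Nat.card_coe_set_eq, Set.ncard_eq_one]
        refine ⟨a, Set.eq_singleton_iff_unique_mem.2 ⟨mem_orbit_self a, ?_⟩⟩
        rintro _ ⟨g, rfl⟩
        exact g.2
      rw [ha, add_assoc]
      congr 2 <;> exact congrArg (fun s : Set Ω => Nat.card s) (orbitRel.Quotient.orbit_mk _)

end Transitive

theorem classInner_sq (A : cAlg G Ω) {χ : Cfsg.IrrCharacter G} (hχ : permMult Ω χ ≤ 1) :
    Cfsg.classInner (trFun G Ω ((A * A : cAlg G Ω) : Module.End ℂ (Ω → ℂ))) (χ : G → ℂ) =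
      Cfsg.classInner (trFun G Ω (A : Module.End ℂ (Ω → ℂ))) (χ : G → ℂ) ^ 2 := by
  rw [← irrRep_char χ, ← trace_mAct, ← trace_mAct, map_mul]
  rcases Nat.le_one_iff_eq_zero_or_eq_one.1 hχ with h0 | h1
  · have := Module.finrank_zero_iff.1 h0
    rw [Subsingleton.elim (mAct (irrRep χ) A) 0, mul_zero, map_zero]
    simp
  · obtain ⟨c, hc⟩ := exists_scalar_of_finrank_le_one hχ (mAct (irrRep χ) A)
    rw [hc]
    have : (c • LinearMap.id) * (c • LinearMap.id) =
        (c * c) • (LinearMap.id : Module.End ℂ (mSp Ω (irrRep χ))) := by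
      refine LinearMap.ext fun w => ?_
      simp [smul_smul]
    rw [this, map_smul, map_smul, LinearMap.trace_id, show finrank ℂ (mSp Ω (irrRep χ)) = 1 from h1]
    simp [pow_two]

/-- The two subdegrees of a group of Wielandt type. -/
theorem wielandt_type (hprim : IsPreprimitive G Ω) {m : ℕ} (hm : Fintype.card Ω = 2 * m) (a₀ : Ω)
    (hrank : Nat.card (orbitRel.Quotient (stabilizer G a₀) Ω) = 3) (χ₁ χ₂ : Cfsg.IrrCharacter G)
    (hπ : permChar G Ω = fun g => 1 + (χ₁ : G → ℂ) g + (χ₂ : G → ℂ) g)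
    (hd₁ : (χ₁ : G → ℂ) 1 = (m : ℂ) - 1) (hd₂ : (χ₂ : G → ℂ) 1 = m) {b : Ω} (hb : b ≠ a₀) :
    2 ≤ m ∧ ((2 * (Nat.card (orbit (stabilizer G a₀) b) : ℤ) - 2 * m + 1) ^ 2 = 2 * m - 1) := by
  classical
  have : IsPretransitive G Ω := hprim.toIsPretransitive
  -- degrees
  have hd1' : (irrDim χ₁ : ℂ) = (m : ℂ) - 1 := by rw [← irr_degree]; exact hd₁
  have hd2' : (irrDim χ₂ : ℂ) = (m : ℂ) := by rw [← irr_degree]; exact hd₂
  have hm1 : irrDim χ₁ + 1 = m := by
    have : ((irrDim χ₁ + 1 : ℕ) : ℂ) = (m : ℂ) := by push_cast; rw [hd1']; ring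
    exact_mod_cast this
  have hm2 : 2 ≤ m := by have := irrDim_pos χ₁; omega
  refine ⟨hm2, ?_⟩
  have h12 : χ₁ ≠ χ₂ := fun e => by
    rw [e, hd2'] at hd1'
    exact one_ne_zero (by linear_combination hd1' : (1 : ℂ) = 0)
  -- multiplicities
  have hdec : permChar G Ω = ((oneChar : Cfsg.IrrCharacter G) : G → ℂ) + (χ₁ : G → ℂ) + χ₂ := by
    rw [hπ]; rfl
  have hmult : ∀ χ : Cfsg.IrrCharacter G, (permMult Ω χ : ℂ) =
      (if oneChar = χ then 1 else 0) + (if χ₁ = χ then 1 else 0) + (if χ₂ = χ then 1 else 0) := by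
    intro χ
    rw [← classInner_permChar, hdec, CharCore.classInner_add_left, CharCore.classInner_add_left,
      CharCore.classInner_irr, CharCore.classInner_irr, CharCore.classInner_irr]
  have hone := hmult oneChar
  rw [permMult_oneChar a₀, if_pos rfl] at hone
  have hn1 : χ₁ ≠ oneChar := fun e => by
    rw [if_pos e] at hone; split_ifs at hone <;> norm_num at hone
  have hn2 : χ₂ ≠ oneChar := fun e => by
    rw [if_pos e] at hone; split_ifs at hone <;> norm_num at hone
  have hle : ∀ χ : Cfsg.IrrCharacter G, permMult Ω χ ≤ 1 := by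
    intro χ
    have h := hmult χ
    by_cases h0 : oneChar = χ
    · subst h0; rw [permMult_oneChar a₀]
    by_cases h1 : χ₁ = χ
    · subst h1
      rw [if_neg h0, if_pos rfl, if_neg h12.symm] at h
      have : (permMult Ω χ₁ : ℂ) = ((1 : ℕ) : ℂ) := by rw [h]; simp
      rw [Nat.cast_injective this]
    by_cases h2 : χ₂ = χ
    · subst h2
      rw [if_neg h0, if_neg h1, if_pos rfl] at h
      have : (permMult Ω χ₂ : ℂ) = ((1 : ℕ) : ℂ) := by rw [h]; simp
      rw [Nat.cast_injective this]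
    · rw [if_neg h0, if_neg h1, if_neg h2] at h
      have : (permMult Ω χ : ℂ) = ((0 : ℕ) : ℂ) := by rw [h]; simp
      rw [Nat.cast_injective this]
      exact zero_le_one
  -- sums over the irreducible characters
  have hsum : ∀ A : cAlg G Ω, LinearMap.trace ℂ _ (A : Module.End ℂ (Ω → ℂ)) =
      Cfsg.classInner (trFun G Ω (A : Module.End ℂ (Ω → ℂ))) (fun _ : G => (1 : ℂ)) +
        Cfsg.classInner (trFun G Ω (A : Module.End ℂ (Ω → ℂ))) (χ₁ : G → ℂ) * ((m : ℂ) - 1) +
        Cfsg.classInner (trFun G Ω (A : Module.End ℂ (Ω → ℂ))) (χ₂ : G → ℂ) * (m : ℂ) := by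
    intro A
    rw [trace_eq_sum, ← Finset.sum_subset (Finset.subset_univ ({oneChar, χ₁, χ₂} : Finset _))
      (fun χ _ hχ => ?_), Finset.sum_insert (by simp [hn1.symm, hn2.symm]), Finset.sum_pair h12,
      hd₁, hd₂, add_assoc]
    · congr 1
      show _ * (1 : ℂ) = _
      rw [mul_one]
      rfl
    · simp only [Finset.mem_insert, Finset.mem_singleton, not_or] at hχ
      have h := hmult χ
      rw [if_neg (Ne.symm hχ.1), if_neg (Ne.symm hχ.2.1), if_neg (Ne.symm hχ.2.2)] at h
      rw [classInner_trFun_eq_zero (by rw [classInner_permChar, h]; simp), zero_mul]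
  -- subdegrees
  obtain ⟨c, hca, hcb, hcover, hn⟩ := rank_three_split hrank hb
  set k := Nat.card (orbit (stabilizer G a₀) b) with hk
  have hge2 : ∀ x : Ω, x ≠ a₀ → 2 ≤ Nat.card (orbit (stabilizer G a₀) x) := by
    intro x hx
    by_contra hlt
    have hpos : 0 < Nat.card (orbit (stabilizer G a₀) x) :=
      Nat.card_pos_iff.2 ⟨⟨⟨x, mem_orbit_self x⟩⟩, inferInstance⟩
    have h1 : ∀ y, Nat.card (orbit (stabilizer G a₀) y) = 1 := fun y => by
      rw [smul_orbit_eq_one_false hprim hx (by omega) y, Nat.card_coe_set_eq, Set.ncard_singleton]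
    rw [hk, h1, h1, hm] at hn
    omega
  have hk2 := hge2 b hb
  have hl2 := hge2 c hca
  -- self-paired
  obtain ⟨b', ⟨g, hgb, hga⟩, hb'⟩ := exists_paired (G := G) a₀ b
  have hb'a : b' ≠ a₀ := fun e => hb (by
    have := (hga.trans e).trans hgb.symm
    exact (MulAction.injective g this).symm)
  have hsym : ∀ x y : Ω, (x, y) ∈ orbit G (a₀, b) → (y, x) ∈ orbit G (a₀, b) := by
    have hbb : b' ∈ orbit (stabilizer G a₀) b := by
      rcases hcover b' hb'a with h | h
      · exact h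
      · rw [(orbit_eq_iff.2 h), ← hk] at hb'
        omega
    obtain ⟨⟨s, hs⟩, hsb⟩ := hbb
    rintro x y ⟨t, ht⟩
    refine ⟨t * g⁻¹ * s, Prod.ext ?_ ?_⟩
    · have h3 : g⁻¹ • a₀ = b := by rw [← hgb, inv_smul_smul]
      simpa [mul_smul, mem_stabilizer_iff.1 hs, h3] using congrArg Prod.snd ht
    · have h3 : g⁻¹ • b' = a₀ := by rw [← hga, inv_smul_smul]
      have hsb' : s • b = b' := hsb
      simpa [mul_smul, hsb', h3] using congrArg Prod.fst ht
  -- the two equations
  have e1 := hsum (orbOp G a₀ b)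
  rw [trace_orbOp hb, classInner_trFun_one, ← hk] at e1
  have e2 := hsum (orbOp G a₀ b * orbOp G a₀ b)
  rw [classInner_sq _ (hle χ₁), classInner_sq _ (hle χ₂)] at e2
  have e2a : Cfsg.classInner
      (trFun G Ω ((orbOp G a₀ b * orbOp G a₀ b : cAlg G Ω) : Module.End ℂ (Ω → ℂ)))
      (fun _ : G => (1 : ℂ)) = (k : ℂ) ^ 2 := by
    have h := classInner_sq (orbOp G a₀ b) (hle oneChar)
    rw [show ((oneChar : Cfsg.IrrCharacter G) : G → ℂ) = fun _ => 1 from rfl,
      classInner_trFun_one] at h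
    exact h
  have e2b : LinearMap.trace ℂ _
      ((orbOp G a₀ b * orbOp G a₀ b : cAlg G Ω) : Module.End ℂ (Ω → ℂ)) =
      (2 * m : ℂ) * (k : ℂ) := by
    rw [Subalgebra.coe_mul, trace_fun]
    simp only [mul_entry]
    calc ∑ x, ∑ z, (orbOp G a₀ b : Module.End ℂ (Ω → ℂ)) (Pi.single z 1) x *
          (orbOp G a₀ b : Module.End ℂ (Ω → ℂ)) (Pi.single x 1) z
        = ∑ x, ∑ z, orbKer G a₀ b z x := by
          refine Finset.sum_congr rfl fun x _ => Finset.sum_congr rfl fun z _ => ?_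
          rw [← orbOp_entry a₀ b x z]
          rcases orbKer_iff (G := G) a₀ b x z with ⟨h1, h2⟩ | ⟨h1, h2⟩ <;>
            rcases orbKer_iff (G := G) a₀ b z x with ⟨h3, h4⟩ | ⟨h3, h4⟩ <;> rw [h1, h3]
          · simp
          · exact absurd (hsym _ _ h2) h4
          · exact absurd (hsym _ _ h4) h2
          · simp
      _ = (2 * m : ℂ) * (k : ℂ) := by
          simp only [row_sum, ← hk]
          rw [Finset.sum_const, Finset.card_univ, hm, nsmul_eq_mul]
          push_cast
          ring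
  rw [e2a, e2b] at e2
  set r := Cfsg.classInner (trFun G Ω (orbOp G a₀ b : Module.End ℂ (Ω → ℂ))) (χ₁ : G → ℂ) with hr
  set s := Cfsg.classInner (trFun G Ω (orbOp G a₀ b : Module.End ℂ (Ω → ℂ))) (χ₂ : G → ℂ) with hs
  have hu : IsIntegral ℤ (r + s) := by
    refine IsIntegral.add ?_ ?_
    · rw [hr, ← irrRep_char χ₁]; exact isIntegral_orbOp _ a₀ b
    · rw [hs, ← irrRep_char χ₂]; exact isIntegral_orbOp _ a₀ b
  have hR : r = k + m * (r + s) := by linear_combination e1
  have hmne : (m : ℂ) ≠ 0 := Nat.cast_ne_zero.2 (by omega)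
  have hq : (((m : ℤ) - 1) * (2 * m - 1) : ℤ) * (r + s) ^ 2 + ((4 * ((m : ℤ) - 1) * k : ℤ) : ℂ) *
      (r + s) + ((2 * k * ((k : ℤ) - 1) : ℤ) : ℂ) = 0 := by
    apply mul_left_cancel₀ hmne
    rw [mul_zero]
    push_cast
    generalize hu' : r + s = u at hR
    have hS : s = u - r := by rw [← hu']; ring
    rw [hS, hR] at e2
    linear_combination -e2
  have hkm : (k : ℤ) + 2 ≤ 2 * m - 1 := by omega
  obtain ⟨z, hz⟩ := int_of_isIntegral_quadratic hu (((m : ℤ) - 1) * (2 * m - 1))
    (4 * ((m : ℤ) - 1) * k) (2 * k * ((k : ℤ) - 1)) (mul_ne_zero (by omega) (by omega))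
    (fun hd => by
      have h4 : (2 * (m : ℤ) - 1) ∣ 4 * k := by
        rw [mul_comm 4 ((m : ℤ) - 1), mul_assoc] at hd
        exact (mul_dvd_mul_iff_left (by omega)).1 hd
      have h5 : IsCoprime (2 * (m : ℤ) - 1) 4 :=
        Int.isCoprime_iff_gcd_eq_one.2 (by
          have : (2 * (m : ℤ) - 1) = ((2 * m - 1 : ℕ) : ℤ) := by omega
          rw [this, show (4 : ℤ) = ((4 : ℕ) : ℤ) from rfl, Int.gcd_natCast_natCast]
          exact (Nat.Coprime.pow_right 2
            ((Nat.coprime_two_right).2 (⟨m - 1, by omega⟩ : Odd (2 * m - 1))) :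
              Nat.Coprime (2 * m - 1) (2 ^ 2)))
      have h7 : (2 * (m : ℤ) - 1) ∣ (k : ℤ) := h5.dvd_of_dvd_mul_left h4
      have h6 := Int.le_of_dvd (by omega) h7
      omega)
    hq
  rw [hz] at hq
  have hq' : ((m : ℤ) - 1) * (2 * m - 1) * z ^ 2 + 4 * ((m : ℤ) - 1) * k * z +
      2 * k * ((k : ℤ) - 1) = 0 := by exact_mod_cast hq
  exact wielandt_arith (m := m) (k := k) (v := -z) (by omega) (by omega) hkm
    (by linear_combination hq')

end Cfsg.Agent.PermB
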