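import Mathlib

/-!
Witt's lemma on transitive extensions.
-/

set_option autoImplicit false

namespace Cfsg.Agent.PermB

section DoubleCoset

variable {X : Type*} [Group X]

/-- Two double cosets form a subgroup. -/
theorem mem_or_mem_doubleCoset (P : Subgroup X) (s : X) (hs2 : s * s ∈ P)
    (hsxs : ∀ x ∈ P, s * x * s ∈ P ∨ ∃ a ∈ P, ∃ b ∈ P, s * x * s = a * s * b) {x : X}
    (hx : x ∈ Subgroup.closure ((P : Set X) ∪ {s})) :
    x ∈ P ∨ ∃ a ∈ P, ∃ b ∈ P, x = a * s * b := by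
  induction hx using Subgroup.closure_induction with
  | mem y hy =>
    rcases hy with hy | hy
    · exact Or.inl hy
    · exact Or.inr ⟨1, P.one_mem, 1, P.one_mem, by rw [Set.mem_singleton_iff.1 hy]; simp⟩
  | one => exact Or.inl P.one_mem
  | mul y z _ _ iy iz =>
    rcases iy with hy | ⟨a, ha, b, hb, rfl⟩
    · rcases iz with hz | ⟨c, hc, d, hd, rfl⟩
      · exact Or.inl (P.mul_mem hy hz)
      · exact Or.inr ⟨y * c, P.mul_mem hy hc, d, hd, by group⟩
    · rcases iz with hz | ⟨c, hc, d, hd, rfl⟩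
      · exact Or.inr ⟨a, ha, b * z, P.mul_mem hb hz, by group⟩
      · have e : a * s * b * (c * s * d) = a * (s * (b * c) * s) * d := by group
        rcases hsxs _ (P.mul_mem hb hc) with h | ⟨p, hp, r, hr, h⟩
        · exact Or.inl (e ▸ P.mul_mem (P.mul_mem ha h) hd)
        · refine Or.inr ⟨a * p, P.mul_mem ha hp, r * d, P.mul_mem hr hd, ?_⟩
          rw [e, h]
          group
  | inv y _ iy =>
    rcases iy with hy | ⟨a, ha, b, hb, rfl⟩
    · exact Or.inl (P.inv_mem hy)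
    · exact Or.inr ⟨b⁻¹ * (s * s)⁻¹, P.mul_mem (P.inv_mem hb) (P.inv_mem hs2), a⁻¹,
        P.inv_mem ha, by group⟩

end DoubleCoset

variable {α : Type*}

/-- The chain of groups in Witt's lemma. -/
def wittGroup (A : Subgroup (Equiv.Perm α)) (s : ℕ → Equiv.Perm α) (k : ℕ) :
    Subgroup (Equiv.Perm α) :=
  Subgroup.closure ((A : Set (Equiv.Perm α)) ∪ {x | ∃ j : ℕ, 1 ≤ j ∧ j ≤ k ∧ x = s j})

theorem wittGroup_mono (A : Subgroup (Equiv.Perm α)) (s : ℕ → Equiv.Perm α) {k l : ℕ}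
    (h : k ≤ l) : wittGroup A s k ≤ wittGroup A s l := by
  refine Subgroup.closure_mono (Set.union_subset_union_right _ ?_)
  rintro x ⟨j, hj1, hj2, rfl⟩
  exact ⟨j, hj1, hj2.trans h, rfl⟩

theorem wittGroup_zero (A : Subgroup (Equiv.Perm α)) (s : ℕ → Equiv.Perm α) :
    wittGroup A s 0 = A := by
  refine le_antisymm ((Subgroup.closure_le A).2 ?_) fun x hx => Subgroup.subset_closure (Or.inl hx)
  rintro x (hx | ⟨j, hj1, hj2, -⟩)
  · exact hx
  · omega

theorem wittGroup_succ_le (A : Subgroup (Equiv.Perm α)) (s : ℕ → Equiv.Perm α) (k : ℕ) :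
    wittGroup A s (k + 1) ≤
      Subgroup.closure ((wittGroup A s k : Set (Equiv.Perm α)) ∪ {s (k + 1)}) := by
  refine (Subgroup.closure_le _).2 ?_
  rintro x (hx | ⟨j, hj1, hj2, rfl⟩)
  · exact Subgroup.subset_closure (Or.inl (Subgroup.subset_closure (Or.inl hx)))
  · rcases Nat.eq_or_lt_of_le hj2 with h | h
    · exact Subgroup.subset_closure (Or.inr (by rw [h]; rfl))
    · exact Subgroup.subset_closure
        (Or.inl (Subgroup.subset_closure (Or.inr ⟨j, hj1, by omega, rfl⟩)))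

/-- The data of Witt's lemma. -/
structure WittData (t : ℕ) (q : ℕ → α) (G H : Subgroup (Equiv.Perm α))
    (s : ℕ → Equiv.Perm α) : Prop where
  ht : 2 ≤ t
  inj : ∀ i j : ℕ, 1 ≤ i → i ≤ t → 1 ≤ j → j ≤ t → q i = q j → i = j
  fix : ∀ g ∈ G, ∀ i : ℕ, 3 ≤ i → i ≤ t → g (q i) = q i
  trans2 : ∀ a b c d : α,
    (∀ i, 3 ≤ i → i ≤ t → a ≠ q i ∧ b ≠ q i ∧ c ≠ q i ∧ d ≠ q i) →
    a ≠ b → c ≠ d → ∃ g ∈ G, g a = c ∧ g b = d
  s1 : s 1 ∈ G
  s1q : s 1 (q 1) = q 2 ∧ s 1 (q 2) = q 1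
  sq : ∀ i : ℕ, 2 ≤ i → i + 1 ≤ t → s i (q i) = q (i + 1) ∧ s i (q (i + 1)) = q i ∧
    ∀ j : ℕ, 1 ≤ j → j ≤ t → j ≠ i → j ≠ i + 1 → s i (q j) = q j
  hH : ∀ g : Equiv.Perm α, g ∈ H ↔ g ∈ G ∧ g (q 1) = q 1 ∧ g (q 2) = q 2
  sq2 : ∀ i : ℕ, 1 ≤ i → i + 1 ≤ t → s i ^ 2 ∈ H
  braid : ∀ i : ℕ, 1 ≤ i → i + 2 ≤ t → (s i * s (i + 1)) ^ 3 ∈ H
  comm : ∀ i j : ℕ, 1 ≤ i → i + 2 ≤ j → j + 1 ≤ t →
    (s i * s j) ^ 2 ∈ H ∧ (s j * s i) ^ 2 ∈ H
  norm : ∀ i : ℕ, 2 ≤ i → i + 1 ≤ t →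
    ∀ g ∈ G, g (q 2) = q 2 → s i * g * (s i)⁻¹ ∈ G ∧ (s i * g * (s i)⁻¹) (q 2) = q 2

namespace WittData

variable {t : ℕ} {q : ℕ → α} {G H : Subgroup (Equiv.Perm α)} {s : ℕ → Equiv.Perm α}

section

variable (D : WittData t q G H s) (A : Subgroup (Equiv.Perm α))
  (hA : ∀ g : Equiv.Perm α, g ∈ A ↔ g ∈ G ∧ g (q 2) = q 2)

include D hA

theorem H_le : H ≤ A := fun g hg => (hA g).2 ⟨((D.hH g).1 hg).1, ((D.hH g).1 hg).2.2⟩

theorem A_le_wittGroup (k : ℕ) : A ≤ wittGroup A s k := fun _ hx =>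
  Subgroup.subset_closure (Or.inl hx)

theorem H_le_wittGroup (k : ℕ) : H ≤ wittGroup A s k :=
  (D.H_le A hA).trans (D.A_le_wittGroup A hA k)

omit D hA in
theorem s_mem_wittGroup {j k : ℕ} (h1 : 1 ≤ j) (h2 : j ≤ k) : s j ∈ wittGroup A s k :=
  Subgroup.subset_closure (Or.inr ⟨j, h1, h2, rfl⟩)

theorem wittGroup_one : wittGroup A s 1 = G := by
  refine le_antisymm ((Subgroup.closure_le G).2 ?_) fun g hg => ?_
  · rintro x (hx | ⟨j, hj1, hj2, rfl⟩)
    · exact ((hA x).1 hx).1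
    · obtain rfl : j = 1 := by omega
      exact D.s1
  · by_cases h : g (q 2) = q 2
    · exact D.A_le_wittGroup A hA 1 ((hA g).2 ⟨hg, h⟩)
    have ht := D.ht
    have hne : ∀ i, 3 ≤ i → i ≤ t → q 2 ≠ q i ∧ q 1 ≠ q i ∧ g (q 2) ≠ q i := by
      intro i h3 hi
      refine ⟨fun e => ?_, fun e => ?_, fun e => ?_⟩
      · have := D.inj 2 i (by omega) ht (by omega) hi e; omega
      · have := D.inj 1 i le_rfl (by omega) (by omega) hi e; omega
      · have := D.inj 2 i (by omega) ht (by omega) hi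
          (g.injective (e.trans (D.fix g hg i h3 hi).symm))
        omega
    have h12 : q 2 ≠ q 1 := fun e => by
      have := D.inj 2 1 (by omega) ht le_rfl (by omega) e; omega
    obtain ⟨a, ha, ha2, ha1⟩ := D.trans2 (q 2) (q 1) (q 2) (g (q 2))
      (fun i h3 hi => ⟨(hne i h3 hi).1, (hne i h3 hi).2.1, (hne i h3 hi).1, (hne i h3 hi).2.2⟩)
      h12 (Ne.symm h)
    have hr : (s 1)⁻¹ * a⁻¹ * g ∈ A := by
      refine (hA _).2 ⟨G.mul_mem (G.mul_mem (G.inv_mem D.s1) (G.inv_mem ha)) hg, ?_⟩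
      simp only [Equiv.Perm.mul_apply, ← ha1, Equiv.Perm.inv_def, Equiv.symm_apply_apply]
      rw [Equiv.symm_apply_eq, D.s1q.2]
    have hg' : g = a * s 1 * ((s 1)⁻¹ * a⁻¹ * g) := by group
    rw [hg']
    exact Subgroup.mul_mem _
      (Subgroup.mul_mem _ (D.A_le_wittGroup A hA 1 ((hA a).2 ⟨ha, ha2⟩))
        (s_mem_wittGroup A le_rfl le_rfl)) (D.A_le_wittGroup A hA 1 hr)

/-- `s j` normalises `wittGroup A s k` for `k + 2 ≤ j`. -/
theorem conj_mem_wittGroup {k j : ℕ} (hkj : k + 2 ≤ j) (hj : j + 1 ≤ t) {x : Equiv.Perm α}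
    (hx : x ∈ wittGroup A s k) : s j * x * (s j)⁻¹ ∈ wittGroup A s k := by
  induction hx using Subgroup.closure_induction with
  | mem y hy =>
    rcases hy with hy | ⟨i, hi1, hi2, rfl⟩
    · have := D.norm j (by omega) hj y ((hA y).1 hy).1 ((hA y).1 hy).2
      exact D.A_le_wittGroup A hA k ((hA _).2 this)
    · have h := (D.comm i j hi1 (by omega) hj).2
      have h2 := D.sq2 j (by omega) hj
      rw [show s j * s i * (s j)⁻¹ = (s j * s i) ^ 2 * (s i)⁻¹ * (s j ^ 2)⁻¹ by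
        simp only [pow_two]; group]
      exact Subgroup.mul_mem _ (Subgroup.mul_mem _ (D.H_le_wittGroup A hA k h)
        (Subgroup.inv_mem _ (s_mem_wittGroup A hi1 hi2)))
        (Subgroup.inv_mem _ (D.H_le_wittGroup A hA k h2))
  | one => simp
  | mul y z _ _ iy iz =>
    rw [show s j * (y * z) * (s j)⁻¹ = s j * y * (s j)⁻¹ * (s j * z * (s j)⁻¹) by group]
    exact Subgroup.mul_mem _ iy iz
  | inv y _ iy =>
    rw [show s j * y⁻¹ * (s j)⁻¹ = (s j * y * (s j)⁻¹)⁻¹ by group]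
    exact Subgroup.inv_mem _ iy

/-- Each group of the chain is the union of two double cosets of the previous one. -/
theorem decomp : ∀ k : ℕ, k + 2 ≤ t → ∀ x ∈ wittGroup A s (k + 1),
    x ∈ wittGroup A s k ∨
      ∃ a ∈ wittGroup A s k, ∃ b ∈ wittGroup A s k, x = a * s (k + 1) * b := by
  intro k
  induction k with
  | zero =>
    intro _ g hg
    rw [wittGroup_zero]
    rw [zero_add, D.wittGroup_one A hA] at hg
    by_cases h : g (q 2) = q 2
    · exact Or.inl ((hA g).2 ⟨hg, h⟩)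
    right
    have ht := D.ht
    have hne : ∀ i, 3 ≤ i → i ≤ t → q 2 ≠ q i ∧ q 1 ≠ q i ∧ g (q 2) ≠ q i := by
      intro i h3 hi
      refine ⟨fun e => ?_, fun e => ?_, fun e => ?_⟩
      · have := D.inj 2 i (by omega) ht (by omega) hi e; omega
      · have := D.inj 1 i le_rfl (by omega) (by omega) hi e; omega
      · have := D.inj 2 i (by omega) ht (by omega) hi
          (g.injective (e.trans (D.fix g hg i h3 hi).symm))
        omega
    have h12 : q 2 ≠ q 1 := fun e => by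
      have := D.inj 2 1 (by omega) ht le_rfl (by omega) e; omega
    obtain ⟨a, ha, ha2, ha1⟩ := D.trans2 (q 2) (q 1) (q 2) (g (q 2))
      (fun i h3 hi => ⟨(hne i h3 hi).1, (hne i h3 hi).2.1, (hne i h3 hi).1, (hne i h3 hi).2.2⟩)
      h12 (Ne.symm h)
    refine ⟨a, (hA a).2 ⟨ha, ha2⟩, (s 1)⁻¹ * a⁻¹ * g,
      (hA _).2 ⟨G.mul_mem (G.mul_mem (G.inv_mem D.s1) (G.inv_mem ha)) hg, ?_⟩,
      by rw [zero_add]; group⟩
    simp only [Equiv.Perm.mul_apply, ← ha1, Equiv.Perm.inv_def, Equiv.symm_apply_apply]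
    rw [Equiv.symm_apply_eq, D.s1q.2]
  | succ k ih =>
    intro hk x hx
    refine mem_or_mem_doubleCoset _ _
      (D.H_le_wittGroup A hA _ (by simpa [pow_two] using D.sq2 (k + 1 + 1) (by omega) (by omega)))
      (fun y hy => ?_) (wittGroup_succ_le A s (k + 1) hx)
    set σ := s (k + 1 + 1) with hσ
    have h2 : σ ^ 2 ∈ wittGroup A s k := D.H_le_wittGroup A hA k (D.sq2 _ (by omega) (by omega))
    have hconj : ∀ z ∈ wittGroup A s k, σ * z * σ⁻¹ ∈ wittGroup A s k := fun z hz =>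
      D.conj_mem_wittGroup A hA (by omega) (by omega) hz
    have hconj' : ∀ z ∈ wittGroup A s k, σ⁻¹ * z * σ ∈ wittGroup A s k := fun z hz => by
      rw [show σ⁻¹ * z * σ = σ * ((σ ^ 2)⁻¹ * z * σ ^ 2) * σ⁻¹ by group]
      exact hconj _ (Subgroup.mul_mem _ (Subgroup.mul_mem _ (Subgroup.inv_mem _ h2) hz) h2)
    have hle : wittGroup A s k ≤ wittGroup A s (k + 1) := wittGroup_mono A s (Nat.le_succ k)
    rcases ih (by omega) y hy with hy' | ⟨a, ha, b, hb, rfl⟩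
    · left
      rw [show σ * y * σ = σ * y * σ⁻¹ * σ ^ 2 by group]
      exact Subgroup.mul_mem _ (hle (hconj y hy')) (hle h2)
    · right
      have hb3 := D.braid (k + 1) (by omega) (by omega)
      rw [← hσ] at hb3
      have hs : s (k + 1) ∈ wittGroup A s (k + 1) := s_mem_wittGroup A (by omega) le_rfl
      refine ⟨σ * a * σ⁻¹ * (s (k + 1))⁻¹ * ((s (k + 1) * σ) ^ 3 * (σ ^ 2)⁻¹),
        Subgroup.mul_mem _ (Subgroup.mul_mem _ (hle (hconj a ha)) (Subgroup.inv_mem _ hs))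
          (Subgroup.mul_mem _ (D.H_le_wittGroup A hA _ hb3) (Subgroup.inv_mem _ (hle h2))),
        (s (k + 1))⁻¹ * (σ⁻¹ * b * σ),
        Subgroup.mul_mem _ (Subgroup.inv_mem _ hs) (hle (hconj' b hb)), ?_⟩
      simp only [pow_succ, pow_zero, one_mul]
      group

theorem fixes {k i : ℕ} (hk : k + 1 ≤ t) (hki : k + 2 ≤ i) (hi : i ≤ t) {x : Equiv.Perm α}
    (hx : x ∈ wittGroup A s k) : x (q i) = q i := by
  suffices wittGroup A s k ≤ MulAction.stabilizer (Equiv.Perm α) (q i) from this hx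
  refine (Subgroup.closure_le _).2 ?_
  rintro y (hy | ⟨j, hj1, hj2, rfl⟩)
  · rcases Nat.eq_or_lt_of_le (show 2 ≤ i by omega) with h | h
    · subst h; exact ((hA y).1 hy).2
    · exact D.fix y ((hA y).1 hy).1 i (by omega) hi
  · rcases Nat.eq_or_lt_of_le hj1 with h | h
    · subst h; exact D.fix _ D.s1 i (by omega) hi
    · exact (D.sq j (by omega) (by omega)).2.2 i (by omega) hi (by omega) (by omega)

omit hA in
theorem s_swap {k : ℕ} (hk1 : 1 ≤ k) (hk : k + 1 ≤ t) :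
    s k (q k) = q (k + 1) ∧ s k (q (k + 1)) = q k := by
  rcases Nat.eq_or_lt_of_le hk1 with h | h
  · subst h; exact D.s1q
  · exact ⟨(D.sq k h hk).1, (D.sq k h hk).2.1⟩

theorem stab {k : ℕ} (hk : k + 2 ≤ t) {x : Equiv.Perm α} (hx : x ∈ wittGroup A s (k + 1))
    (hfix : x (q (k + 2)) = q (k + 2)) : x ∈ wittGroup A s k := by
  rcases D.decomp A hA k hk x hx with h | ⟨a, ha, b, hb, rfl⟩
  · exact h
  exfalso
  rw [Equiv.Perm.mul_apply, Equiv.Perm.mul_apply,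
    D.fixes A hA (by omega) le_rfl hk hb, (D.s_swap (by omega) (by omega)).2] at hfix
  have := D.inj (k + 1) (k + 2) (by omega) (by omega) (by omega) hk
    (a.injective (hfix.trans (D.fixes A hA (by omega) le_rfl hk ha).symm))
  omega

theorem transitive : ∀ k : ℕ, k + 1 ≤ t → ∀ x : α, (∀ i, k + 2 ≤ i → i ≤ t → x ≠ q i) →
    ∃ g ∈ wittGroup A s k, g x = q (k + 1) := by
  intro k
  induction k with
  | zero =>
    intro _ x hx
    have ht := D.ht
    have hne : ∀ i, 3 ≤ i → i ≤ t → q 2 ≠ q i ∧ q 1 ≠ q i := by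
      intro i h3 hi
      refine ⟨fun e => ?_, fun e => ?_⟩
      · have := D.inj 2 i (by omega) ht (by omega) hi e; omega
      · have := D.inj 1 i le_rfl (by omega) (by omega) hi e; omega
    obtain ⟨a, ha, ha2, ha1⟩ := D.trans2 (q 2) x (q 2) (q 1)
      (fun i h3 hi => ⟨(hne i h3 hi).1, hx i (by omega) hi, (hne i h3 hi).1, (hne i h3 hi).2⟩)
      (Ne.symm (hx 2 le_rfl ht))
      (fun e => by have := D.inj 2 1 (by omega) ht le_rfl (by omega) e; omega)
    exact ⟨a, by rw [wittGroup_zero]; exact (hA a).2 ⟨ha, ha2⟩, ha1⟩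
  | succ k ih =>
    intro hk x hx
    by_cases h : x = q (k + 2)
    · exact ⟨1, one_mem _, h⟩
    obtain ⟨g, hg, hgx⟩ := ih (by omega) x fun i h1 h2 => by
      rcases Nat.eq_or_lt_of_le h1 with e | e
      · exact e ▸ h
      · exact hx i e h2
    refine ⟨s (k + 1) * g, Subgroup.mul_mem _ (s_mem_wittGroup A (by omega) le_rfl)
      (wittGroup_mono A s (Nat.le_succ k) hg), ?_⟩
    rw [Equiv.Perm.mul_apply, hgx, (D.s_swap (by omega) hk).1]

theorem tuples : ∀ k : ℕ, k + 1 ≤ t → ∀ x : ℕ → α,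
    (∀ i, 1 ≤ i → i ≤ k + 1 → ∀ j, k + 2 ≤ j → j ≤ t → x i ≠ q j) →
    (∀ i j, 1 ≤ i → i < j → j ≤ k + 1 → x i ≠ x j) →
    ∃ g ∈ wittGroup A s k, ∀ i, 1 ≤ i → i ≤ k + 1 → g (x i) = q i := by
  intro k
  induction k with
  | zero =>
    intro hk x hx _
    obtain ⟨g, hg, h⟩ := D.transitive A hA 0 hk (x 1) (hx 1 le_rfl le_rfl)
    refine ⟨g, hg, fun i h1 h2 => ?_⟩
    obtain rfl : i = 1 := by omega
    exact h
  | succ k ih =>
    intro hk x hx hinj
    obtain ⟨g, hg, hgx⟩ := D.transitive A hA (k + 1) hk (x (k + 2)) (hx _ (by omega) le_rfl)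
    obtain ⟨g', hg', hg'x⟩ := ih (by omega) (fun i => g (x i))
      (fun i h1 h2 j h3 h4 e => by
        rcases Nat.eq_or_lt_of_le h3 with h | h
        · exact hinj i (k + 2) h1 (by omega) le_rfl (g.injective ((e.trans (by rw [h])).trans hgx.symm))
        · exact hx i h1 (by omega) j h h4
            (g.injective (e.trans (D.fixes A hA hk h h4 hg).symm)))
      (fun i j h1 h2 h3 e => hinj i j h1 h2 (by omega) (g.injective e))
    refine ⟨g' * g, Subgroup.mul_mem _ (wittGroup_mono A s (Nat.le_succ k) hg') hg,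
      fun i h1 h2 => ?_⟩
    rcases Nat.eq_or_lt_of_le h2 with h | h
    · rw [h, Equiv.Perm.mul_apply]
      exact (congrArg g' hgx).trans (D.fixes A hA (by omega) le_rfl hk hg')
    · exact hg'x i h1 (by omega)

theorem mem_H_of_fixes : ∀ k : ℕ, k + 1 ≤ t → ∀ x ∈ wittGroup A s k,
    (∀ i, 1 ≤ i → i ≤ k + 1 → x (q i) = q i) → x ∈ H := by
  intro k
  induction k with
  | zero =>
    intro _ x hx hf
    rw [wittGroup_zero] at hx
    exact (D.hH x).2 ⟨((hA x).1 hx).1, hf 1 le_rfl le_rfl, ((hA x).1 hx).2⟩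
  | succ k ih =>
    intro hk x hx hf
    exact ih (by omega) x (D.stab A hA hk hx (hf _ (by omega) le_rfl))
      fun i h1 h2 => hf i h1 (by omega)

end

end WittData

end Cfsg.Agent.PermB
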