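import Cfsg.Agent.CharDeep.ZassBasic
import Cfsg.Agent.Lib.Frobenius.Nilpotent
import Cfsg.Agent.Lib.Frobenius.FixedPointFree

/-!
The kernel of a point stabiliser of a Zassenhaus group with large two-point stabilisers.
-/

set_option autoImplicit false

namespace Cfsg.Agent.PermB

open MulAction Cfsg.Agent.CharDeep

variable {G Ω : Type*} [Group G] [MulAction G Ω]

theorem le_normalizer_of_conj {H X : Subgroup G} (h : ∀ g ∈ H, ∀ x ∈ X, g * x * g⁻¹ ∈ X) :
    H ≤ Subgroup.normalizer (X : Set G) := by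
  intro g hg
  rw [Subgroup.mem_normalizer_iff]
  refine fun x => ⟨h g hg x, fun hx => ?_⟩
  have := h g⁻¹ (H.inv_mem hg) _ hx
  rwa [show g⁻¹ * (g * x * g⁻¹) * g⁻¹⁻¹ = x by group] at this

/-- A regular normal subgroup of a point stabiliser: its basic properties. -/
theorem regular_kernel_spec [Finite G] [Fintype Ω] (hZ : Cfsg.IsZassenhausGroup G Ω) {a b : Ω}
    (hab : a ≠ b) (F : Subgroup G) (hFle : F ≤ stabilizer G a)
    (hFn : (F.subgroupOf (stabilizer G a)).Normal)
    (hreg : ∀ y z : Ω, y ≠ a → z ≠ a → ∃! u : F, (u : G) • y = z) :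
    Nat.card F + 1 = Fintype.card Ω ∧ Frobenius.IsFPF (Zass.two G a b) F := by
  have hmove : ∀ (u : F), (u : G) • b ≠ a := fun u h => hab
    (MulAction.injective (u : G) ((mem_stabilizer_iff.1 (hFle u.2)).trans h.symm))
  constructor
  · have e : F ≃ {c : Ω // c ≠ a} := Equiv.ofBijective (fun u => ⟨(u : G) • b, hmove u⟩)
      ⟨fun u v h => (hreg b _ (Ne.symm hab) (hmove u)).unique rfl (congrArg Subtype.val h).symm,
        fun c => ⟨(hreg b c (Ne.symm hab) c.2).choose,
          Subtype.ext (hreg b c (Ne.symm hab) c.2).choose_spec.1⟩⟩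
    classical
    rw [Nat.card_congr e, Nat.card_eq_fintype_card, Fintype.card_subtype_compl,
      Fintype.card_subtype_eq]
    have := Zass.three_le_card hZ hab
    omega
  · refine ⟨le_normalizer_of_conj fun g hg x hx => ?_, fun h hh h1 => ?_⟩
    · exact hFn.conj_mem ⟨x, hFle hx⟩ hx ⟨g, hg.1⟩
    · rw [Subgroup.eq_bot_iff_forall]
      rintro u ⟨huF, huc⟩
      have hc : u * h = h * u := Subgroup.mem_centralizer_singleton_iff.1 huc
      have h2 : h • (u • b) = u • b := by rw [← mul_smul, ← hc, mul_smul, hh.2]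
      rcases Zass.fixed_of_mem_two hZ hab hh h1 h2 with h3 | h3
      · exact absurd h3 (hmove ⟨u, huF⟩)
      · exact congrArg Subtype.val
          ((hreg b b (Ne.symm hab) (Ne.symm hab)).unique (y₁ := ⟨u, huF⟩) (y₂ := 1) h3
            (one_smul G b))

/-- With large two-point stabilisers the only invariant subgroups of the kernel are trivial. -/
theorem invariant_eq_kernel [Finite G] {A V X : Subgroup G} (hV : Frobenius.IsFPF A V)
    (hX : X ≤ V) (hX1 : X ≠ ⊥) (hn : A ≤ Subgroup.normalizer (X : Set G))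
    (hbig : Nat.card V - 1 ≤ 2 * Nat.card A) : X = V := by
  by_contra hne
  have h1 := (hV.mono_right hX hn).card_dvd_card_sub_one
  obtain ⟨m, hm⟩ := Subgroup.card_dvd_of_le hX
  have hX2 : 1 < Nat.card X := (Subgroup.one_lt_card_iff_ne_bot X).2 hX1
  have hm2 : 2 ≤ m := by
    rcases m with _ | _ | m
    · simp [Nat.card_pos.ne'] at hm
    · exact absurd (Subgroup.eq_of_le_of_card_ge hX (by rw [hm, Nat.zero_add, mul_one])) hne
    · omega
  have h2 : Nat.card A ≤ Nat.card X - 1 := Nat.le_of_dvd (by omega) h1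
  have h3 : Nat.card X * 2 ≤ Nat.card V := hm ▸ Nat.mul_le_mul_left _ hm2
  omega

theorem kernel_elementary_abelian [Finite G] {A V : Subgroup G} (hV : Frobenius.IsFPF A V)
    (hA : A ≠ ⊥) (hV1 : V ≠ ⊥) (hbig : Nat.card V - 1 ≤ 2 * Nat.card A) :
    IsMulCommutative V ∧ ∃ p f : ℕ, p.Prime ∧ (∀ u ∈ V, u ^ p = 1) ∧ Nat.card V = p ^ f := by
  obtain ⟨r, hr, hrd⟩ := Nat.exists_prime_and_dvd
    (fun h => hA (Subgroup.card_eq_one.1 h) : Nat.card A ≠ 1)
  haveI := Fact.mk hr
  obtain ⟨h, hh⟩ := exists_prime_orderOf_dvd_card' (G := A) r hrd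
  letI : MulDistribMulAction A V := MulDistribMulAction.compHom V (Subgroup.inclusion hV.1)
  have hsmul : ∀ (a : A) (v : V), ((a • v : V) : G) = (a : G) * v * (a : G)⁻¹ := fun _ _ => rfl
  let φ : MulAut V := MulDistribMulAction.toMulAut A V h
  have hφ : ∀ v : V, φ v = v → v = 1 := by
    intro v hv
    refine Subtype.ext (hV.eq_one_of_commute h.2 ?_ v.2 ?_)
    · intro h0
      rw [← Subgroup.orderOf_coe, h0, orderOf_one] at hh
      exact hr.ne_one hh.symm
    · have := congrArg Subtype.val hv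
      rw [show φ v = h • v from rfl, hsmul, mul_inv_eq_iff_eq_mul] at this
      exact this
  haveI : Group.IsNilpotent V := Frobenius.isNilpotent_of_fixedPointFree V φ hφ hr
    (by rw [← map_pow, ← hh, pow_orderOf_eq_one, map_one])
  haveI : Nontrivial V := (Subgroup.nontrivial_iff_ne_bot V).2 hV1
  have hcV : V ⊓ Subgroup.centralizer (V : Set G) = V := by
    refine invariant_eq_kernel hV inf_le_left ?_ (le_normalizer_of_conj fun g hg x hx => ?_) hbig
    · intro h0
      have hc : Nontrivial (Subgroup.center V) :=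
        (Subgroup.nontrivial_iff_ne_bot _).2 (Group.IsNilpotent.center_ne_bot _)
      obtain ⟨z, hz⟩ := exists_ne (1 : Subgroup.center V)
      apply hz
      have : ((z : V) : G) ∈ V ⊓ Subgroup.centralizer (V : Set G) :=
        ⟨(z : V).2, fun y hy => congrArg Subtype.val (Subgroup.mem_center_iff.1 z.2 ⟨y, hy⟩)⟩
      rw [h0, Subgroup.mem_bot] at this
      exact Subtype.ext (Subtype.ext this)
    · refine ⟨hV.conj_mem hg hx.1, fun y hy => ?_⟩
      have hy' : g⁻¹ * y * g ∈ V := by simpa using hV.conj_mem (A.inv_mem hg) hy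
      have hcomm := hx.2 _ hy'
      calc y * (g * x * g⁻¹) = g * (g⁻¹ * y * g * x) * g⁻¹ := by group
        _ = g * (x * (g⁻¹ * y * g)) * g⁻¹ := by rw [hcomm]
        _ = g * x * g⁻¹ * y := by group
  have hcomm : ∀ x ∈ V, ∀ y ∈ V, x * y = y * x := fun x hx y hy =>
    (inf_eq_left.1 hcV hy) x hx
  refine ⟨⟨⟨fun x y => Subtype.ext (hcomm x x.2 y y.2)⟩⟩, ?_⟩
  obtain ⟨p, hp, hpd⟩ := Nat.exists_prime_and_dvd
    (fun h => hV1 (Subgroup.card_eq_one.1 h) : Nat.card V ≠ 1)
  haveI := Fact.mk hp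
  let W : Subgroup G :=
    { carrier := {u | u ∈ V ∧ u ^ p = 1}
      one_mem' := ⟨V.one_mem, one_pow p⟩
      mul_mem' := fun {x y} hx hy => ⟨V.mul_mem hx.1 hy.1, by
        rw [Commute.mul_pow (hcomm x hx.1 y hy.1), hx.2, hy.2, one_mul]⟩
      inv_mem' := fun {x} hx => ⟨V.inv_mem hx.1, by rw [inv_pow, hx.2, inv_one]⟩ }
  have hW : W = V := by
    refine invariant_eq_kernel hV (fun u hu => hu.1) ?_ (le_normalizer_of_conj fun g hg x hx => ?_)
      hbig
    · intro h0
      obtain ⟨v, hv⟩ := exists_prime_orderOf_dvd_card' (G := V) p hpd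
      have hvW : (v : G) ∈ W := ⟨v.2, by
        rw [← SubgroupClass.coe_pow, ← hv, pow_orderOf_eq_one]; rfl⟩
      rw [h0, Subgroup.mem_bot] at hvW
      rw [← Subgroup.orderOf_coe, hvW, orderOf_one] at hv
      exact hp.ne_one hv.symm
    · exact ⟨hV.conj_mem hg hx.1, by rw [conj_pow, hx.2, mul_one, mul_inv_cancel]⟩
  have hexp : ∀ u ∈ V, u ^ p = 1 := fun u hu => by
    have : u ∈ W := by rw [hW]; exact hu
    exact this.2
  obtain ⟨f, hf⟩ := IsPGroup.iff_card.1
    (fun x : V => ⟨1, Subtype.ext (by rw [pow_one]; exact hexp x x.2)⟩ : IsPGroup p V)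
  exact ⟨p, f, hp, hexp, hf⟩

end Cfsg.Agent.PermB
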