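import Cfsg.Agent.CharDeep.ZassOdd
import Cfsg.Agent.CharDeep.ZassFrobenius

/-!
Zassenhaus groups whose two-point stabiliser has odd order `d`, without normal `q`-complement
for the primes `q` dividing `d`.
-/

set_option autoImplicit false

namespace Cfsg.Agent.PermB.ZassNoQ

open MulAction Cfsg.Agent.CharDeep Cfsg.Agent.CharDeep.Zass

variable {G Ω : Type*} [Group G] [MulAction G Ω]
variable [Finite G] (hZ : Cfsg.IsZassenhausGroup G Ω)

include hZ

/-- The transfer argument: a homomorphism of a two-point stabiliser of odd order into an abelian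
group, invariant under an element interchanging the two points, is trivial. -/
theorem invariant_hom_eq_one {a b : Ω} (hab : a ≠ b) (hodd : Odd (Nat.card ↥(two G a b)))
    {w : G} (hw : w • a = b ∧ w • b = a) {A : Type*} [CommGroup A] (f : two G a b →* A)
    (hinv : ∀ x y : two G a b, w * (x : G) * w⁻¹ = y → f y = f x) (x : two G a b)
    (htr : ∀ g : G →* A, ∀ y : two G a b, g y = 1) : f x = 1 := by
  classical
  have hE : (two G a b).FiniteIndex := inferInstance
  have h0 : MonoidHom.transfer f (x : G) = 1 := htr _ _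
  have := Fintype.ofFinite (Quotient (orbitRel (Subgroup.zpowers (x : G)) (G ⧸ two G a b)))
  rw [MonoidHom.transfer_eq_prod_quotient_orbitRel_zpowers_quot] at h0
  by_cases hx1 : (x : G) = 1
  · have : x = 1 := Subtype.ext hx1
    simp [this]
  -- the two singleton orbits
  set c1 : G ⧸ two G a b := QuotientGroup.mk (1 : G) with hc1
  set cw : G ⧸ two G a b := QuotientGroup.mk w with hcw
  have mem_iff : ∀ g : G, (x : G) • (QuotientGroup.mk g : G ⧸ two G a b) = QuotientGroup.mk g ↔
      g⁻¹ * x * g ∈ two G a b := by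
    intro g
    change (QuotientGroup.mk ((x : G) * g) : G ⧸ two G a b) = QuotientGroup.mk g ↔ _
    rw [eq_comm, QuotientGroup.eq, mul_assoc]
  have hw' : w⁻¹ • a = b ∧ w⁻¹ • b = a := by
    constructor <;> rw [inv_smul_eq_iff]
    · exact hw.2.symm
    · exact hw.1.symm
  have hf1 : (x : G) • c1 = c1 := (mem_iff 1).2 (by simp [x.2])
  have hfw : (x : G) • cw = cw := (mem_iff w).2 (by simpa using conj_swap_mem hw' x.2)
  have horb : ∀ c : G ⧸ two G a b, (x : G) • c = c →
      ∀ q : Quotient (orbitRel (Subgroup.zpowers (x : G)) (G ⧸ two G a b)),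
        q = Quotient.mk'' c → q.out = c := by
    intro c hc q hq
    have h1 : Quotient.mk'' q.out = q := Quotient.out_eq' q
    rw [hq] at h1
    obtain ⟨⟨z, hz⟩, hzc⟩ := Quotient.eq''.1 h1
    rw [← hq] at hzc
    obtain ⟨k, rfl⟩ := Subgroup.mem_zpowers_iff.1 hz
    have hzf : ((x : G) ^ k) • c = c := by
      have : (x : G) ∈ stabilizer G c := hc
      exact Subgroup.zpow_mem _ this k
    rw [← hzc]
    exact hzf
  set q1 : Quotient (orbitRel (Subgroup.zpowers (x : G)) (G ⧸ two G a b)) := Quotient.mk'' c1
    with hq1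
  set qw : Quotient (orbitRel (Subgroup.zpowers (x : G)) (G ⧸ two G a b)) := Quotient.mk'' cw
    with hqw
  have hne : q1 ≠ qw := by
    intro h
    have e1 := horb c1 hf1 q1 rfl
    have e2 := horb cw hfw q1 (h.trans rfl)
    have h2 : c1 = cw := e1.symm.trans e2
    rw [hc1, hcw, QuotientGroup.eq, inv_one, one_mul] at h2
    exact hab ((h2.1 : w • a = a).symm.trans hw.1)
  rw [Finset.prod_eq_mul q1 qw hne] at h0
  · -- compute both factors
    have key : ∀ (c : G ⧸ two G a b) (q : Quotient (orbitRel (Subgroup.zpowers (x : G))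
        (G ⧸ two G a b))), q.out = c → (x : G) • c = c → ∀ g : G, c = QuotientGroup.mk g →
        ∀ y : two G a b, (y : G) = g⁻¹ * x * g →
          f ⟨q.out.out⁻¹ * (x : G) ^ Function.minimalPeriod ((x : G) • ·) q.out * q.out.out,
            QuotientGroup.out_conj_pow_minimalPeriod_mem _ (x : G) q.out⟩ = f y := by
      intro c q hq hc g hg y hy
      have hm : Function.minimalPeriod ((x : G) • ·) q.out = 1 :=
        Function.minimalPeriod_eq_one_iff_isFixedPt.2 (by rw [hq]; exact hc)
      have hog : (QuotientGroup.mk q.out.out : G ⧸ two G a b) = QuotientGroup.mk g := by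
        rw [QuotientGroup.out_eq', hq, hg]
      rw [QuotientGroup.eq] at hog
      have : (⟨q.out.out⁻¹ * (x : G) ^ Function.minimalPeriod ((x : G) • ·) q.out * q.out.out,
            QuotientGroup.out_conj_pow_minimalPeriod_mem _ (x : G) q.out⟩ : two G a b)
          = ⟨_, hog⟩ * y * (⟨_, hog⟩)⁻¹ := by
        apply Subtype.ext
        simp only [Subgroup.coe_mul, Subgroup.coe_inv, hy, hm, pow_one]
        group
      rw [this, map_mul, map_mul, map_inv, mul_comm (f ⟨_, hog⟩) (f y), mul_inv_cancel_right]
    rw [key c1 q1 (horb c1 hf1 q1 rfl) hf1 1 hc1 x (by simp),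
      key cw qw (horb cw hfw qw rfl) hfw w hcw ⟨w⁻¹ * x * w, by simpa using conj_swap_mem hw' x.2⟩ rfl,
      ← hinv ⟨w⁻¹ * x * w, by simpa using conj_swap_mem hw' x.2⟩ x (by simp [mul_assoc])] at h0
    refine orderOf_eq_one_iff.1 (Nat.eq_one_of_dvd_coprimes ?_ ((orderOf_map_dvd f x).trans
      (orderOf_dvd_natCard x)) (orderOf_dvd_of_pow_eq_one ((pow_two (f x)).trans h0)))
    exact (Nat.coprime_two_right.2 hodd)
  · -- all other orbits contribute `1`
    intro q _ hq
    have hmem := QuotientGroup.out_conj_pow_minimalPeriod_mem (two G a b) (x : G) q.out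
    by_cases h1 : (x : G) ^ Function.minimalPeriod ((x : G) • ·) q.out = 1
    · rw [show (⟨_, hmem⟩ : two G a b) = 1 from Subtype.ext (by simp [h1]), map_one]
    exfalso
    set y := q.out.out⁻¹ * (x : G) ^ Function.minimalPeriod ((x : G) • ·) q.out * q.out.out
      with hy
    have hz : (x : G) ^ Function.minimalPeriod ((x : G) • ·) q.out ∈ two G a b :=
      (two G a b).pow_mem x.2 _
    have hyy : q.out.out * y * q.out.out⁻¹ = (x : G) ^ Function.minimalPeriod ((x : G) • ·) q.out := by
      rw [hy]; group
    have hy' := (conj_mem_two (g := q.out.out) (a := a) (b := b)).2 hmem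
    rw [hyy] at hy'
    have hgn : q.out.out ∈ Subgroup.normalizer (two G a b : Set G) := by
      rw [normalizer_two_iff hZ hab]
      have hne2 : q.out.out • a ≠ q.out.out • b := fun h => hab (MulAction.injective _ h)
      rcases fixed_of_mem_two hZ hab hz h1 hy'.1 with ha | ha <;>
        rcases fixed_of_mem_two hZ hab hz h1 hy'.2 with hb | hb
      · exact absurd (ha.trans hb.symm) hne2
      · exact Or.inl ⟨ha, hb⟩
      · exact Or.inr ⟨ha, hb⟩
      · exact absurd (ha.trans hb.symm) hne2
    rcases (normalizer_two_iff hZ hab).1 hgn with hg | hg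
    · refine hq.1 ((Quotient.out_eq' q).symm.trans (congrArg Quotient.mk'' ?_))
      rw [← QuotientGroup.out_eq' q.out, hc1, QuotientGroup.eq, mul_one]
      exact inv_mem (show q.out.out ∈ two G a b from hg)
    · refine hq.2 ((Quotient.out_eq' q).symm.trans (congrArg Quotient.mk'' ?_))
      rw [← QuotientGroup.out_eq' q.out, hcw, QuotientGroup.eq]
      have : q.out.out⁻¹ • a = b ∧ q.out.out⁻¹ • b = a := by
        constructor <;> rw [inv_smul_eq_iff]
        · exact hg.2.symm
        · exact hg.1.symm
      exact swap_mul_mem this hw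
  · simp
  · simp

end Cfsg.Agent.PermB.ZassNoQ

namespace Cfsg.Agent.PermB.ZassNoQ

open MulAction Cfsg.Agent.CharDeep Cfsg.Agent.CharDeep.Zass

variable {G Ω : Type*} [Group G] [Fintype G] [MulAction G Ω] [Fintype Ω] [DecidableEq G]
  [DecidableEq Ω] (hZ : Cfsg.IsZassenhausGroup G Ω) {a b : Ω} (hab : a ≠ b) {H : Subgroup G}
  (hH : IsKernel a H) (hodd : Odd (Nat.card ↥(two G a b)))
  (hnil : ∀ q : ℕ, q.Prime → q ∣ Nat.card ↥(two G a b) →
    ¬ ∃ N : Subgroup G, N.Normal ∧ N.index = q ^ (Nat.card G).factorization q)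

include hZ hab hH hodd hnil

theorem hom_eq_one_two {A : Type*} [CommGroup A] (g : G →* A) (x : two G a b) : g x = 1 := by
  have hZG := isZGroup_two hZ hab hH hodd
  have hcop : (Nat.card ↥(two G a b)).Coprime (commutator G).index := by
    refine Nat.coprime_of_dvd fun q hq hqd hqi => ?_
    have := Fact.mk hq
    obtain ⟨y, hy⟩ := exists_prime_orderOf_dvd_card' q hqd
    have hy1 : (y : G) ≠ 1 := fun h => by
      rw [show y = 1 from Subtype.ext h, orderOf_one] at hy
      exact hq.ne_one hy.symm
    have h2n : 2 ≤ Fintype.card Ω := (Nat.le_succ 2).trans (three_le_card hZ hab)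
    have hn : q ∣ Fintype.card Ω - 2 := by
      have hP : IsPGroup q (Subgroup.zpowers (y : G)) :=
        IsPGroup.of_card (n := 1) (by rw [Nat.card_zpowers, Subgroup.orderOf_coe, hy, pow_one])
      have h1 := hP.card_modEq_card_fixedPoints Ω
      have h2 : fixedPoints (Subgroup.zpowers (y : G)) Ω = {a, b} := by
        ext c
        simp only [mem_fixedPoints, Set.mem_insert_iff, Set.mem_singleton_iff]
        refine ⟨fun hc => fixed_of_mem_two hZ hab y.2 hy1 (hc ⟨y, Subgroup.mem_zpowers _⟩),
          fun hc z => ?_⟩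
        have hfix : (y : G) ∈ stabilizer G c := by
          rcases hc with rfl | rfl
          exacts [y.2.1, y.2.2]
        exact (Subgroup.zpowers_le.2 hfix) z.2
      rw [h2, Nat.card_eq_fintype_card, Nat.card_coe_set_eq, Set.ncard_pair hab] at h1
      exact (Nat.modEq_iff_dvd' h2n).1 h1.symm
    have hqn : ¬ q ∣ Fintype.card Ω := fun h => by
      have h' := Nat.dvd_sub h hn
      rw [show Fintype.card Ω - (Fintype.card Ω - 2) = 2 by omega] at h'
      rw [(Nat.prime_dvd_prime_iff_eq hq Nat.prime_two).1 h'] at hqd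
      exact (Nat.not_even_iff_odd.2 hodd) (even_iff_two_dvd.2 hqd)
    have hqn1 : ¬ q ∣ Fintype.card Ω - 1 := fun h => by
      have h' := Nat.dvd_sub h hn
      rw [show Fintype.card Ω - 1 - (Fintype.card Ω - 2) = 1 by omega] at h'
      exact hq.ne_one (Nat.dvd_one.1 h')
    have hfac : (Nat.card G).factorization q = (Nat.card ↥(two G a b)).factorization q := by
      rw [card_group hZ hab, ← mul_assoc, Nat.factorization_mul (Nat.mul_ne_zero (by omega) (by omega)) Nat.card_pos.ne',
        Finsupp.add_apply, Nat.factorization_eq_zero_of_not_dvd, zero_add]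
      intro h
      rcases hq.dvd_mul.1 h with h | h
      exacts [hqn h, hqn1 h]
    let P₀ : Sylow q (two G a b) := default
    have hcard : Nat.card ↥((P₀ : Subgroup (two G a b)).map (two G a b).subtype)
        = q ^ (Nat.card G).factorization q := by
      rw [Nat.card_congr ((Subgroup.equivMapOfInjective _ _ (two G a b).subtype_injective).symm
        ).toEquiv, P₀.card_eq_multiplicity, hfac]
    let P : Sylow q G := Sylow.ofCard _ hcard
    have : IsCyclic P := by
      have : IsCyclic P₀ := inferInstance
      exact isCyclic_of_surjective _ (Subgroup.equivMapOfInjective (P₀ : Subgroup (two G a b)) _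
        (two G a b).subtype_injective).surjective
    rcases Sylow.normalizer_le_centralizer_or_le_commutator P with h | h
    · refine hnil q hq hqd ⟨(MonoidHom.transferSylow P h).ker, inferInstance, ?_⟩
      rw [(MonoidHom.ker_transferSylow_isComplement' P h).symm.index_eq_card]
      exact hcard
    · exact P.not_dvd_index (hqi.trans (Subgroup.index_dvd_of_le h))
  refine orderOf_eq_one_iff.1 (Nat.eq_one_of_dvd_coprimes hcop
    (((orderOf_map_dvd g (x : G)).trans (Subgroup.orderOf_coe x).dvd).trans (orderOf_dvd_natCard x))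
    (orderOf_dvd_of_pow_eq_one ?_))
  rw [← map_pow]
  exact MonoidHom.mem_ker.1 (Abelianization.commutator_subset_ker g
    ((commutator G).pow_index_mem (x : G)))

theorem isCyclic_two : IsCyclic (two G a b) := by
  have hZG := isZGroup_two hZ hab hH hodd
  obtain ⟨w, hw⟩ := exists_swap hZ hab
  set M := Subgroup.normalizer (two G a b : Set G) with hM
  have hEM : two G a b ≤ M := Subgroup.le_normalizer
  have hMmem : ∀ g ∈ M, g * g ∈ two G a b := by
    intro g hg
    rcases (normalizer_two_iff hZ hab).1 hg with h | h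
    · exact (two G a b).mul_mem h h
    · exact swap_mul_mem h h
  have hwM : w ∈ M := (normalizer_two_iff hZ hab).2 (Or.inr hw)
  have hidx : ((two G a b).subgroupOf M).index = 2 := by
    rw [Subgroup.index_eq_two_iff]
    refine ⟨⟨w, hwM⟩, fun g => ?_⟩
    rcases (normalizer_two_iff hZ hab).1 g.2 with hg | hg
    · refine Or.inr ⟨hg, fun h => ?_⟩
      have h' : ((g : G) * w) • a = a := h.1
      rw [mul_smul, hw.1, hg.2] at h'
      exact hab h'.symm
    · refine Or.inl ⟨swap_mul_mem hg hw, fun h => ?_⟩
      have h' : (g : G) • a = a := h.1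
      rw [hg.1] at h'
      exact hab h'.symm
  have hcard : Nat.card M = 2 * Nat.card ↥(two G a b) := by
    have := ((two G a b).subgroupOf M).card_mul_index
    rw [hidx, Nat.card_congr (Subgroup.subgroupOfEquivOfLe hEM).toEquiv] at this
    omega
  have : IsZGroup M := by
    refine ⟨fun p hp P => ?_⟩
    have := Fact.mk hp
    by_cases hp2 : p = 2
    · subst hp2
      refine isCyclic_of_prime_card (p := 2) ?_
      rw [P.card_eq_multiplicity, hcard, Nat.factorization_mul (by norm_num) Nat.card_pos.ne',
        Finsupp.add_apply, Nat.Prime.factorization_self Nat.prime_two,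
        Nat.factorization_eq_zero_of_not_dvd
          (Nat.not_even_iff_odd.2 hodd ∘ even_iff_two_dvd.2)]
      norm_num
    · -- an odd Sylow subgroup lies in the two-point stabiliser
      have hle : ∀ x : M, x ∈ (P : Subgroup M) → (x : G) ∈ two G a b := by
        intro x hx
        have hsq : (x : G) * x ∈ two G a b := hMmem _ x.2
        obtain ⟨k, hk⟩ := P.2 ⟨x, hx⟩
        have hk' : (x : G) ^ (p ^ k) = 1 := by
          simpa using congrArg (fun z : (P : Subgroup M) => ((z : M) : G)) hk
        obtain ⟨j, hj⟩ : Odd (p ^ k) := (hp.odd_of_ne_two hp2).pow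
        have : (x : G) = ((x : G) * x) ^ (j + 1) := by
          rw [← pow_two, ← pow_mul, show 2 * (j + 1) = p ^ k + 1 by omega, pow_succ, hk', one_mul]
        rw [this]
        exact (two G a b).pow_mem hsq _
      let f : (P : Subgroup M) →* two G a b :=
        { toFun := fun x => ⟨((x : M) : G), hle x x.2⟩
          map_one' := rfl
          map_mul' := fun _ _ => rfl }
      have hfinj : Function.Injective f := fun x y h =>
        Subtype.ext (Subtype.ext (congrArg Subtype.val h :))
      obtain ⟨Q, hQ⟩ :=
        (IsPGroup.of_surjective P.2 f.rangeRestrict f.rangeRestrict_surjective).exists_le_sylow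
      let g : (P : Subgroup M) →* (Q : Subgroup (two G a b)) :=
        { toFun := fun x => ⟨f x, hQ ⟨x, rfl⟩⟩
          map_one' := Subtype.ext (map_one f)
          map_mul' := fun x y => Subtype.ext (map_mul f x y) }
      have hQc : IsCyclic (Q : Subgroup (two G a b)) := inferInstance
      exact isCyclic_of_injective g fun x y h => hfinj (congrArg Subtype.val h :)
  let i : two G a b →* M := Subgroup.inclusion hEM
  have hkey : ∀ x, i x ∈ commutator M := by
    intro x
    have := invariant_hom_eq_one hZ hab hodd hw (Abelianization.of.comp i) (fun y z hyz => by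
      have : i z = ⟨w, hwM⟩ * i y * ⟨w, hwM⟩⁻¹ := Subtype.ext hyz.symm
      simp only [MonoidHom.comp_apply, this, map_mul, map_inv]
      rw [mul_comm (Abelianization.of (⟨w, hwM⟩ : M)), mul_inv_cancel_right]) x
      (hom_eq_one_two hZ hab hH hodd hnil)
    rw [← Abelianization.ker_of]
    exact MonoidHom.mem_ker.2 this
  have := IsZGroup.isCyclic_commutator M
  exact isCyclic_of_injective (i.codRestrict (commutator M) hkey)
    fun x y h => Subgroup.inclusion_injective hEM (congrArg Subtype.val h :)

theorem commute_two {x y : G} (hx : x ∈ two G a b) (hy : y ∈ two G a b) : x * y = y * x := by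
  have := isCyclic_two hZ hab hH hodd hnil
  obtain ⟨g, hg⟩ := IsCyclic.exists_generator (α := two G a b)
  obtain ⟨i, hi⟩ := Subgroup.mem_zpowers_iff.1 (hg ⟨x, hx⟩)
  obtain ⟨j, hj⟩ := Subgroup.mem_zpowers_iff.1 (hg ⟨y, hy⟩)
  have := congrArg Subtype.val ((Commute.zpow_zpow_self g i j).eq)
  rw [hi, hj] at this
  exact this

/-- Every element interchanging two points inverts their stabiliser. -/
theorem swap_inverts {w : G} (hw : w • a = b ∧ w • b = a) {x : G} (hx : x ∈ two G a b) :
    w * x * w⁻¹ = x⁻¹ := by
  let : CommGroup (two G a b) :=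
    { (inferInstance : Group (two G a b)) with
      mul_comm := fun y z => Subtype.ext (commute_two hZ hab hH hodd hnil y.2 z.2) }
  let c : two G a b →* two G a b :=
    { toFun := fun y => ⟨w * y * w⁻¹, conj_swap_mem hw y.2⟩
      map_one' := Subtype.ext (by simp)
      map_mul' := fun y z => Subtype.ext (by simp [mul_assoc]) }
  have hcc : ∀ y, c (c y) = y := by
    intro y
    apply Subtype.ext
    change w * (w * (y : G) * w⁻¹) * w⁻¹ = y
    have := commute_two hZ hab hH hodd hnil (swap_mul_mem hw hw) y.2
    calc w * (w * (y : G) * w⁻¹) * w⁻¹ = (w * w) * y * (w * w)⁻¹ := by group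
      _ = y := by rw [this, mul_inv_cancel_right]
  let f : two G a b →* two G a b :=
    { toFun := fun y => y * c y
      map_one' := by rw [map_one, mul_one]
      map_mul' := fun y z => by rw [map_mul]; exact mul_mul_mul_comm _ _ _ _ }
  have h1 := invariant_hom_eq_one hZ hab hodd hw f (fun y z hyz => by
    have hcy : z = c y := Subtype.ext hyz.symm
    change z * c z = y * c y
    rw [hcy, hcc, mul_comm]) ⟨x, hx⟩ (hom_eq_one_two hZ hab hH hodd hnil)
  have h2 : x * (w * x * w⁻¹) = 1 := congrArg Subtype.val h1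
  exact (inv_eq_of_mul_eq_one_right h2).symm

omit [DecidableEq G] [DecidableEq Ω] in
theorem centralizer_two : Subgroup.centralizer (two G a b : Set G) = two G a b := by
  classical
  refine le_antisymm (fun g hg => ?_) fun g hg => ?_
  · rcases (normalizer_two_iff hZ hab).1 (Subgroup.centralizer_le_normalizer _ hg) with h | h
    · exact h
    exfalso
    obtain ⟨x, hx, hx1⟩ := exists_ne_one_two hZ hab
    have h1 := swap_inverts hZ hab hH hodd hnil h hx
    rw [← Subgroup.mem_centralizer_iff.1 hg x hx, mul_inv_cancel_right] at h1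
    have h2 : (⟨x, hx⟩ : two G a b) ^ 2 = 1 := Subtype.ext (by
      rw [SubmonoidClass.coe_pow, pow_two]; exact eq_inv_iff_mul_eq_one.1 h1)
    have h3 := orderOf_eq_one_iff.1 (Nat.eq_one_of_dvd_coprimes (Nat.coprime_two_right.2 hodd)
      (orderOf_dvd_natCard _) (orderOf_dvd_of_pow_eq_one h2))
    exact hx1 (congrArg Subtype.val h3)
  · exact Subgroup.mem_centralizer_iff.2 fun y hy => commute_two hZ hab hH hodd hnil hy hg

end Cfsg.Agent.PermB.ZassNoQ

namespace Cfsg.Agent.PermB.ZassNoQ

open MulAction Cfsg.Agent.CharDeep Cfsg.Agent.CharDeep.Zass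

theorem main {G Ω : Type*} [Group G] [Finite G] [MulAction G Ω] [Fintype Ω]
    (hZ : Cfsg.IsZassenhausGroup G Ω) {a b : Ω} (hab : a ≠ b)
    (hodd : Odd (Nat.card ↥(two G a b)))
    (hnil : ∀ q : ℕ, q.Prime → q ∣ Nat.card ↥(two G a b) →
      ¬ ∃ N : Subgroup G, N.Normal ∧ N.index = q ^ (Nat.card G).factorization q) :
    IsCyclic ↥(two G a b) ∧ Subgroup.centralizer ((two G a b : Subgroup G) : Set G) = two G a b ∧
      ∀ s : G, s • a = b → s • b = a → ∀ h ∈ two G a b, s * h * s⁻¹ = h⁻¹ := by
  classical
  have := Fintype.ofFinite G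
  obtain ⟨H, hH⟩ := exists_kernel hZ hab
  exact ⟨isCyclic_two hZ hab hH hodd hnil, centralizer_two hZ hab hH hodd hnil,
    fun s h1 h2 h hh => swap_inverts hZ hab hH hodd hnil ⟨h1, h2⟩ hh⟩

end Cfsg.Agent.PermB.ZassNoQ
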